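import Cfsg.Statements.S2796
import Cfsg.Agent.H8.S4Fus

set_option autoImplicit false
universe u
open Cfsg

namespace Cfsg.Agent.S2796

open Subgroup Cfsg.L0 Cfsg.H8
open scoped commutatorElement


/-- Let G be a finite group in which the symmetric group of degree 4 is not involved, such that for every section K/R of G with C(O₂(K/R)) ≤ O₂(K/R) every non-abelian composition factor of K/R is a Suzuki group Sz(2^(2n+1)) or PSL₂ over a field with 3^(2n+1) elements. Let S be a Sylow 2-subgroup, J_e(S) the subgroup generated by its elementary abelian subgroups of largest order, and A the normal closure of Ω₁(Z(S)) in N_G(J_e(S)). Then A is an elementary abelian subgroup of S, strongly closed in S with respect to G, and A controls strong fusion in G. -/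
theorem result {G : Type u} [Group G] [Finite G] (hfree : ¬ Cfsg.Involves (Equiv.Perm (Fin 4)) G) (hsec : ∀ (K R : Subgroup G) [hR : (R.subgroupOf K).Normal], Subgroup.centralizer (Cfsg.pCore 2 (K ⧸ R.subgroupOf K) : Set (K ⧸ R.subgroupOf K)) ≤ Cfsg.pCore 2 (K ⧸ R.subgroupOf K) → Cfsg.IsCompositionKGroupWith Cfsg.IsSuzukiOrPSL2OddPowerThree (K ⧸ R.subgroupOf K)) (S : Sylow 2 G) (N : Subgroup G) (hN : N = Subgroup.normalizer (Cfsg.thompsonSubgroupOf 2 (S : Subgroup G) : Set G)) (A : Subgroup G) (hA : A = (Subgroup.normalClosure (((Cfsg.omegaOne 2 ((S : Subgroup G) ⊓ Subgroup.centralizer ((S : Subgroup G) : Set G))).subgroupOf N : Subgroup ↥N) : Set ↥N)).map N.subtype) : A ≤ S ∧ Cfsg.IsElementaryAbelian 2 A ∧ Cfsg.IsStronglyClosed A (S : Subgroup G) ∧ Cfsg.ControlsStrongFusion 2 A := by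
  have hG := cp_of_sec hfree hsec
  have hS := isSyl_sylow S
  have o1 := H7.omegaOneCenter_le 2 (S : Subgroup G)
  have s1 : (S : Subgroup G) ≤ N := hN ▸ H9.le_normalizer_J 2 _
  replace hA := hA.trans (map_normalClosure_eq_ncl (o1.trans s1))
  have a1 : A ≤ omegaOneCenter 2 (thompsonSubgroupOf 2 (S : Subgroup G)) := hA ▸ ncl_le
    (H9.omegaOneCenter_le_omegaOneCenter_J (H9.J_le 2 _) le_rfl)
    (hN ▸ H7.normalizer_le_normalizer_omegaOneCenter 2 _)
  have a2 := a1.trans ((H7.omegaOneCenter_le 2 _).trans (H9.J_le 2 _))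
  have a3 := H7.ea_mono (H7.ea_omegaOneCenter 2 _) a1
  have a4 : N ≤ normalizer (A : Set G) := hA ▸ le_normalizer_ncl _ _
  have c : Ctrl (normalizer (A : Set G)) ⊤ S := cr_of_cp (hG.of_involves (involves_subgroup ⊤)) hS
    (fr_ctrl _) a3 a2 (hA ▸ res_ncl_of_cp hG (hS.mono s1 le_top) (H7.le_centralizer_omegaOneCenter 2 _)
      (hA ▸ a2) (hA ▸ a3)) (ctrl_of_le _ (inf_le_right.trans (hN ▸ a4)))
    (ctrl_of_le _ (inf_le_right.trans (sup_le (s1.trans a4) (centralizer_le_normalizer _))))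
  refine ⟨a2, a3, ⟨a2, fun x hx g hg => ?_⟩, (controlsStrongFusion_iff hS a2 (s1.trans a4)).2 c⟩
  obtain ⟨m, m1, e⟩ := c (zpowers x) (zpowers_le.2 (a2 hx)) g trivial (by rwa [cj_zpowers, zpowers_le])
  rw [e x (mem_zpowers x)]
  exact conj_mem_of_mem_normalizer m1 hx

end Cfsg.Agent.S2796
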