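import Cfsg.Statements.S2803
import Cfsg.Agent.H7.PRed

set_option autoImplicit false
open Cfsg

namespace Cfsg.Agent.S2803

open Subgroup Cfsg.H7
open Cfsg.L0 (SN)
open scoped commutatorElement

/-- Let L be a finite group and p a prime with C_L(O_p(L)) ≤ O_p(L), T a Sylow p-subgroup, and Y the largest p-reduced normal subgroup of L. Put T_L = C_T(Y) and L_T = N_L(T_L). Then L = L_T · C_L(Y) (elementwise), T_L = O_p(L_T), and Y = Ω₁(Z(T_L)). -/
theorem result {L : Type*} [Group L] [Finite L] {p : ℕ} [Fact p.Prime] (hchar : Subgroup.centralizer (Cfsg.pCore p L : Set L) ≤ Cfsg.pCore p L) (T : Sylow p L) (Y : Subgroup L) (hY : (Cfsg.IsPReducedNormal p Y ∧ ∀ V : Subgroup L, Cfsg.IsPReducedNormal p V → V ≤ Y)) (TL : Subgroup L) (hTL : TL = (T : Subgroup L) ⊓ Subgroup.centralizer (Y : Set L)) : (∀ g : L, ∃ a ∈ Subgroup.normalizer (TL : Set L), ∃ c ∈ Subgroup.centralizer (Y : Set L), g = a * c) ∧ (Cfsg.pCore p ↥(Subgroup.normalizer (TL : Set L))).map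 (Subgroup.normalizer (TL : Set L)).subtype = TL ∧ Y = Cfsg.omegaOne p (TL ⊓ Subgroup.centralizer (TL : Set L)) := by
  have hYe : Y = largestPReducedOf p ⊤ :=
    le_antisymm (pRed_top_iff.mpr hY.1).le_Y (hY.2 _ (pRed_top_iff.mp (pRed_Y p ⊤)))
  have hR := pRed_top_iff.mpr hY.1
  have hT := isSylowIn_top T
  have := hY.1.1
  subst hTL
  refine ⟨fun g => ?_, ?_, ?_⟩
  · have h1 := hT.sup_centralizer_eq hR.norm
    rw [top_inf_eq, top_sup_eq] at h1
    obtain ⟨a, ha, c, hc, e⟩ := (mem_sup_of_le_normalizer le_normalizer_of_normal).mp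
      (h1.symm ▸ mem_top g)
    exact ⟨a, ha, c, hc, e.symm⟩
  · have h1 := hR.inf_normalizer hT
    have h2 := le_inf_normalizer_inf_centralizer hT.le hR.norm
    rw [top_inf_eq] at h1 h2
    exact h1.pCoreOf_eq (hT.mono h2 le_top) le_rfl
  · have := Y_eq_omegaOneCenter (isCharP_top_iff.mpr hchar) hT
    rw [← hYe] at this
    exact this

end Cfsg.Agent.S2803
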