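import Cfsg.Statements.S2806
import Cfsg.Agent.FT.Basic7
import Cfsg.Agent.H7.Norm
import Cfsg.Agent.L0.SubnormalSylow

set_option autoImplicit false
open Cfsg

namespace Cfsg.Agent.S2806

open Subgroup Cfsg.L0 Cfsg.H8
open scoped commutatorElement

open Subgroup Cfsg.L0 Cfsg.H8 Cfsg.FT

section
variable {G : Type*} [Group G] [Finite G] {p : ℕ} [hp : Fact p.Prime] {T L : Subgroup G}

theorem ctr_meet (h : ∀ R : Subgroup G, IsPGroup p R → R ≠ ⊥ → H7.IsCharP p (𝒩 R))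
    (hT : IsSyl p T ⊤) (hL : SN L ⊤) (h0 : Op {p} (⊤ : Subgroup G) = ⊥) (h1 : T ⊓ L ≠ ⊥) :
    Om p (𝒵 T) ⊓ L ≠ ⊥ := by
  have pz := hT.isPGroup.to_le (inf_le_left (b := 𝒞 T))
  by_cases h2 : Op {p}ᶜ (⊤ : Subgroup G) = ⊥
  · obtain ⟨K, k1, ⟨k2, k3⟩, k4⟩ := exists_minimal_le (S := fun K => SN K ⊤ ∧ K ≠ ⊥)
      ⟨hL, ne_bot_of_le h1 inf_le_right⟩
    have k5 : ∀ N, N ⊴ K → N ≠ ⊥ → N = K := fun N a b => k4 N ⟨a.sn.trans k2, b⟩ a.le
    have k6 : p ∣ ♯K := by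
      by_contra c
      exact k3 (eq_bot_of_le h2 (le_Op_of_sn ((piG_compl_single hp.out).2 c) k2))
    have q : QS K := ⟨k3, k5 _ (der_nrm K) fun e => ((abel_iff_der.2 e).nil.Op_syl hp.out).ne_bot k6
      (eq_bot_of_le h0 (Op_le_Op_of_sn _ k2)), fun N a b => or_iff_not_imp_right.2 fun c =>
        k5 N ⟨a, b⟩ fun e => c (by rw [e, commutator_bot_left])⟩
    have n : T ≤ 𝒩 K := fun t ht => cj_eq_iff.1 (((q.cj t).eq_or_comm q (cj_top t ▸ k2.cj t)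
      k2).resolve_right fun e => ?_)
    · have a := Om_ne_bot hp.out (pz.to_le (inf_le_inf inf_le_left le_rfl))
        (inf_cent_ne_bot_of_pgroup hp.out hT.isPGroup (hT.isPGroup.to_le inf_le_left)
          (le_norm_inf (le_norm T) n) ((hT.inf_sn k2).ne_bot k6))
      exact ne_bot_of_le a (le_inf (Om_mono (inf_le_inf inf_le_left le_rfl))
        ((Om_le _ _).trans (inf_le_left.trans (inf_le_right.trans k1))))
    · obtain ⟨R, hR⟩ := exists_syl hp.out (cj t K)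
      have a : K ≤ 𝒩 R := le_norm_of_le_cent ((comm_eq_bot_iff.1 e).trans (cent_anti hR.le))
      have b := h R hR.isPGroup (hR.ne_bot (by rwa [card_cj]))
      refine q.not_isSolvable (sol_of_pgroup hp.out (b.isPGroup a (comm_eq_bot_iff.1
        (q.comm_of_isSolvable (k2.mono_right a le_top) ?_ (sol_of_pgroup hp.out ?_)))))
      · exact Op_single_eq hp.out (𝒩 R) ▸ (Op_nrm _ _).sn
      · exact Op_single_eq hp.out (𝒩 R) ▸ Op_pgroup hp.out _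
  · obtain ⟨y, y1, y2⟩ : ∃ y ∈ T ⊓ L, orderOf y = p :=
      exists_orderOf_eq hp.out (dvd_card_of_pgroup hp.out (hT.isPGroup.to_le inf_le_left) h1)
    have y3 : y ^ p = 1 := y2 ▸ pow_orderOf_eq_one y
    have a : Elem p (Om p (𝒵 T) ⊔ zpowers y) := ((abel_ctr T).elem_Om p).sup (elem_zpowers y3)
      ((Om_le _ _).trans (inf_le_right.trans (cent_anti (zpowers_le.2 y1.1))))
    have c : Cyc (Om p (𝒵 T) ⊔ zpowers y) := by
      by_contra c
      obtain ⟨x, x1, x2, x3⟩ := exists_cent1_ne_bot a.abel c (le_top.trans (Op_nrm _ _).norm)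
        (cop_of_pgroup hp.out a.pgroup (not_dvd_Op_compl hp.out ⊤)).symm h2
      have b := h _ (a.pgroup.to_le (zpowers_le.2 x1)) (zpowers_ne_bot.2 x2)
      refine ne_bot_of_le x3 (le_inf inf_le_left (inf_le_right.trans ((cent_zpowers x).ge.trans
        (cent_le_norm _)))) (b.eq_bot_of_coprime inf_le_right ?_ ?_)
      · exact ((Nat.Prime.coprime_iff_not_dvd hp.out).2 (not_dvd_Op_compl hp.out ⊤)).symm.coprime_dvd_left
          (card_dvd inf_le_left)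
      · exact (H7.pCoreOf_le p _).trans ((Op_nrm _ _).inf_le le_top).norm
    have d := eq_of_card_le (le_sup_right (a := Om p (𝒵 T)) (b := zpowers y))
      (by rw [card_zpow, y2]; exact a.card_le_of_cyc hp.out c)
    rw [inf_eq_left.2 (le_sup_left.trans (d.ge.trans (zpowers_le.2 y1.2)))]
    exact Om_ne_bot hp.out pz (ctr_ne_bot (nil_of_pgroup hp.out hT.isPGroup)
      (ne_bot_of_le h1 inf_le_left))

theorem kiel (h : ∀ R : Subgroup G, IsPGroup p R → R ≠ ⊥ → H7.IsCharP p (𝒩 R))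
    (hT : IsSyl p T ⊤) (hL : SN L ⊤) (h1 : T ⊓ L ≠ ⊥) :
    L ⊓ 𝒞 (Om p (𝒵 T)) = L ⊓ 𝒞 (Om p (𝒵 (T ⊓ L))) := by
  by_cases h0 : Op {p} (⊤ : Subgroup G) = ⊥
  · have a := h _ (hT.isPGroup.to_le (inf_le_left.trans ((Om_le _ _).trans inf_le_left)))
      (ctr_meet h hT hL h0 h1)
    have b : T ≤ 𝒩 (Om p (𝒵 T) ⊓ L) := le_norm_of_le_cent (cent_symm
      (inf_le_left.trans ((Om_le _ _).trans inf_le_right)))
    have c := H7.kieler a (isSyl_iff_isSylowIn.1 (hT.mono b le_top))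
      (top_inf_eq (𝒩 (Om p (𝒵 T) ⊓ L)) ▸ hL.inf_right _)
    rw [inf_comm L, ← inf_assoc T, inf_eq_left.2 b, inf_assoc, inf_assoc] at c
    rw [← inf_eq_right.2 (show L ⊓ 𝒞 (Om p (𝒵 T)) ≤ 𝒩 (Om p (𝒵 T) ⊓ L) from
      inf_le_right.trans ((cent_anti inf_le_left).trans (cent_le_norm _))), ← inf_eq_right.2
      (show L ⊓ 𝒞 (Om p (𝒵 (T ⊓ L))) ≤ 𝒩 (Om p (𝒵 T) ⊓ L) from inf_le_right.trans
        ((cent_anti fun x hx => ?_).trans (cent_le_norm _)))]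
    · exact c
    · obtain ⟨⟨x1, x2⟩, x3⟩ := ((abel_ctr T).mem_Om).1 hx.1
      exact mem_Om ⟨⟨x1, hx.2⟩, cent_anti inf_le_left x2⟩ x3
  · have a := h _ (Op_pgroup hp.out ⊤) h0
    rw [top_le_iff.1 (Op_nrm _ _).norm] at a
    exact H7.kieler a (isSyl_iff_isSylowIn.1 hT) hL

theorem stab_eq (h : ∀ R : Subgroup G, IsPGroup p R → R ≠ ⊥ → H7.IsCharP p (𝒩 R))
    (hT : IsSyl p T ⊤) (hL : SN L ⊤) : pointStabilizer p L (T ⊓ L) =
      closure {x | x ∈ L ⊓ 𝒞 (Om p (𝒵 T)) ∧ ∃ k, orderOf x = p ^ k} := by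
  by_cases h1 : T ⊓ L = ⊥
  · have a : ∀ K : Subgroup G, closure {x | x ∈ L ⊓ K ∧ ∃ k, orderOf x = p ^ k} = ⊥ := fun K =>
      eq_bot_iff.2 ((closure_le _).2 fun x ⟨x1, k, hk⟩ => by
        obtain ⟨g, -, e⟩ := (hT.inf_sn hL).exists_conj_mem x1.1 ⟨k, hk ▸ pow_orderOf_eq_one x⟩
        exact conj_eq_one_iff.1 (eq_one_of_mem h1 e))
    exact (a _).trans (a _).symm
  · rw [kiel h hT hL h1]; rfl

end

/-- Let H be a finite group of local characteristic p, T a Sylow p-subgroup, and L₁, L₂ subnormal subgroups of H generating the subgroup L. Then the point stabilizer of L with respect to T ∩ L is generated by the point stabilizers of L₁ and L₂ with respect to T ∩ L₁ and T ∩ L₂ (point stabilizer of X w.r.t. R: the subgroup generated by the p-elements of X centralizing Ω₁(Z(R))). -/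
theorem result {H : Type*} [Group H] [Finite H] {p : ℕ} [Fact p.Prime] (hH : Cfsg.IsOfLocalCharacteristic p H) (T : Sylow p H) (L₁ L₂ : Subgroup H) (h₁ : L₁.IsSubnormal) (h₂ : L₂.IsSubnormal) : Cfsg.pointStabilizer p (L₁ ⊔ L₂) ((T : Subgroup H) ⊓ (L₁ ⊔ L₂)) = Cfsg.pointStabilizer p L₁ ((T : Subgroup H) ⊓ L₁) ⊔ Cfsg.pointStabilizer p L₂ ((T : Subgroup H) ⊓ L₂) := by
  have h : ∀ R : Subgroup H, IsPGroup p R → R ≠ ⊥ → H7.IsCharP p (𝒩 R) := fun R a b =>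
    H7.isCharP_iff.2 (hH.2 R a b)
  have hT : IsSyl p (T : Subgroup H) ⊤ := isSyl_iff_isSylowIn.2 (H7.isSylowIn_top T)
  rw [stab_eq h hT (sn_top_iff.2 h₁), stab_eq h hT (sn_top_iff.2 h₂),
    stab_eq h hT (sn_top_iff.2 (isSubnormal_sup h₁ h₂))]
  refine le_antisymm ((closure_le _).2 fun x ⟨x1, k, hk⟩ => ?_) (sup_le
    (closure_mono fun x hx => ⟨⟨mem_sup_left hx.1.1, hx.1.2⟩, hx.2⟩)
    (closure_mono fun x hx => ⟨⟨mem_sup_right hx.1.1, hx.1.2⟩, hx.2⟩))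
  have a : (T : Subgroup H) ≤ 𝒞 (Om p (𝒵 (T : Subgroup H))) :=
    cent_symm ((Om_le _ _).trans inf_le_right)
  obtain ⟨R, hR, r1⟩ := exists_syl_ge Fact.out (isPGroup_zpowers (k := k)
    (hk ▸ pow_orderOf_eq_one x)) (zpowers_le.2 x1.2)
  have b : IsSyl p R ⊤ := hT.of_card_ge hR.isPGroup le_top (hR.card_le hT.isPGroup a)
  have c : ∀ L : Subgroup H, R ⊓ L ≤ closure {x | x ∈ L ⊓ 𝒞 (Om p (𝒵 (T : Subgroup H))) ∧
      ∃ k, orderOf x = p ^ k} := fun L y hy => subset_closure ⟨⟨hy.2, hR.le hy.1⟩, by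
    obtain ⟨n, hn⟩ := isPGroup_iff_forall.1 hR.isPGroup y hy.1
    exact ((Nat.dvd_prime_pow Fact.out).1 (orderOf_dvd_of_pow_eq_one hn)).imp fun _ e => e.2⟩
  exact sup_le_sup (c L₁) (c L₂) ((sylow_inf_sup b h₁ h₂).le ⟨r1 (mem_zpowers x), x1.1⟩)

end Cfsg.Agent.S2806
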