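import Cfsg.Statements.S2810
import Cfsg.Agent.H7.CharP

set_option autoImplicit false
open Cfsg

namespace Cfsg.Agent.S2810

open Subgroup Cfsg.H7
open Cfsg.L0 (SN)
open scoped commutatorElement

/-- Let H be a finite group of characteristic p and L a subgroup of H centralizing every factor of some H-invariant chain 1 = A₀ ≤ A₁ ≤ … ≤ Aₙ = O_p(H) of normal subgroups (that is, [A_{i+1}, L] ≤ Aᵢ for each i). Then L ≤ O_p(H). -/
theorem result {H : Type*} [Group H] [Finite H] {p : ℕ} [Fact p.Prime] (hchar : Subgroup.centralizer (Cfsg.pCore p H : Set H) ≤ Cfsg.pCore p H) (L : Subgroup H) (n : ℕ) (A : Fin (n + 1) → Subgroup H) (h0 : A 0 = ⊥) (hn : A (Fin.last n) = Cfsg.pCore p H) (hmono : Monotone A) (hnorm : ∀ i, (A i).Normal) (hcent : ∀ i : Fin n, ⁅A i.succ, L⁆ ≤ A i.castSucc) : L ≤ Cfsg.pCore p H := by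
  set N := normalClosure (L : Set H) with hN
  have h1 : ∀ i : Fin n, ⁅A i.succ, N⁆ ≤ A i.castSucc := by
    intro i
    have := hnorm i.succ
    have := hnorm i.castSucc
    have : (stab (A i.succ) (A i.castSucc)).Normal :=
      normal_of_le_normalizer_top (le_normalizer_stab le_normalizer_of_normal le_normalizer_of_normal)
    exact (le_stab_iff.mp (normalClosure_le_normal
      (le_stab_iff.mpr ⟨le_normalizer_of_normal, hcent i⟩))).2
  have h2 : ∀ i : Fin (n + 1), pResidualOf p N ≤ centralizer (A i : Set H) := by
    intro i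
    induction i using Fin.induction with
    | zero => rw [h0, centralizer_bot']; exact le_top
    | succ i ih =>
      rw [← pResidualOf_pResidualOf]
      refine pResidualOf_le_centralizer (W := A i.castSucc)
        ((commutator_mono le_rfl (pResidualOf_le p N)).trans (h1 i))
        (commutator_eq_bot_iff'.mpr ih) ((isPGroup_pCore p H).to_le ?_)
      rw [← hn]; exact hmono (Fin.le_last _)
  have h3 := h2 (Fin.last n)
  rw [hn] at h3
  exact le_normalClosure.trans
    (le_pCore (isPGroup_of_pResidualOf_le (isPGroup_pCore p H) (h3.trans hchar)))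

end Cfsg.Agent.S2810
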