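import Cfsg.Statements.S2813
import Cfsg.Agent.H7.Frat

set_option autoImplicit false
open Cfsg

namespace Cfsg.Agent.S2813

open Subgroup Cfsg.H7
open Cfsg.L0 (SN)
open scoped commutatorElement

/-- Let K be a subgroup of the finite group H with O_p(K) = 1 and Y a p-subgroup of N_H(K) with [K, Y, Y] = 1. Then [K, Y] = 1. -/
theorem result {H : Type*} [Group H] [Finite H] {p : ℕ} [Fact p.Prime] (K : Subgroup H) (hO : Cfsg.pCore p ↥K = ⊥) (Y : Subgroup H) (hY : IsPGroup p ↥Y) (hYK : Y ≤ Subgroup.normalizer (K : Set H)) (hq : ⁅⁅K, Y⁆, Y⁆ = ⊥) : ⁅K, Y⁆ = ⊥ := by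
  have h := pCoreOf_eq_bot_iff.mpr hO
  have h0 : ⁅K, Y⁆ ≤ K := commutator_le_left_of_le_normalizer hYK
  have h1 : ⁅K, Y⁆ ≤ centralizer ((⁅K, Y⁆ : Subgroup H) : Set H) :=
    le_sup_right.trans (sup_commutator_le_of_normal (commutator_eq_bot_iff'.mp hq)
      (le_normalizer_centralizer (normalizer_commutator_ge_left _ _)))
  have h2 : PClosed p ⁅K, Y⁆ := fun Q h2 h3 => le_pCoreOf h3 h2
    (le_normalizer_of_le_centralizer (h1.trans (centralizer_anti h2)))
  rw [← commutator_commutator_of_coprime hY (h2.coprime_of_pCoreOf_eq_bot (eq_bot_iff.mpr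
    ((pCoreOf_le_of_normal h0 (normalizer_commutator_ge_left _ _)).trans h.le))), hq]

end Cfsg.Agent.S2813
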