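import Cfsg.Statements.S2814
import Cfsg.Agent.H7.WClos

set_option autoImplicit false
open Cfsg

namespace Cfsg.Agent.S2814

open Subgroup Cfsg.H7
open Cfsg.L0 (SN)
open scoped commutatorElement

/-- Let A be a subgroup of the finite group H and K the subnormal closure of A (intersection of the subnormal subgroups containing A). Then K is the normal closure of A inside K and N_H(A) ≤ N_H(K); K = A·O^p(K), O^p(K) being generated by the elements of K of order prime to p; and if A is a p-group, O^p(K) = [O^p(K), A]. -/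
theorem result {H : Type*} [Group H] [Finite H] {p : ℕ} [Fact p.Prime] (A : Subgroup H) (K : Subgroup H) (hK : K = Cfsg.subnormalClosure A) : (Subgroup.normalClosure ((A.subgroupOf K : Subgroup ↥K) : Set ↥K)).map K.subtype = K ∧ Subgroup.normalizer (A : Set H) ≤ Subgroup.normalizer (K : Set H) ∧ A ⊔ (Cfsg.pResidual p ↥K).map K.subtype = K ∧ (IsPGroup p ↥A → ⁅(Cfsg.pResidual p ↥K).map K.subtype, A⁆ = (Cfsg.pResidual p ↥K).map K.subtype) := by
  obtain ⟨h1, h2, h3⟩ := subnormalClosure_spec A
  rw [← hK] at h1 h2 h3
  refine ⟨by rw [map_normalClosure_eq_sup_commutator h1, h3], fun g hg => ?_,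
    sup_pResidualOf_of_gen h3, commutator_pResidualOf_of_gen h3⟩
  refine mem_normalizer_of_cj_le (le_of_sn_of_gen (A := A) ?_ le_top h2 h1)
  conv_lhs => rw [← cj_eq_of_mem_normalizer hg, ← cj_commutator, ← cj_sup, h3]

end Cfsg.Agent.S2814
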