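import Cfsg.Statements.S2815
import Cfsg.Agent.H7.Frat

set_option autoImplicit false
open Cfsg

namespace Cfsg.Agent.S2815

open Subgroup Cfsg.H7
open Cfsg.L0 (SN)
open scoped commutatorElement

/-- Let H be a finite group and p a prime dividing its order with O_p(H) = 1, and suppose K = O^p(H) (generated by the elements of order prime to p) is quasisimple. Then K = F*(H); for every nontrivial p-subgroup Y of H, K = [K, Y] and K lies in the subgroup generated by the K-conjugates of Y; every normal subgroup of H not containing K has order prime to p; and H is p-irreducible. -/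
theorem result {H : Type*} [Group H] [Finite H] {p : ℕ} [Fact p.Prime] (hp : p ∣ Nat.card H) (hO : Cfsg.pCore p H = ⊥) (hq : Cfsg.IsQuasisimple ↥(Cfsg.pResidual p H)) : Cfsg.pResidual p H = Cfsg.generalizedFittingSubgroup H ∧ (∀ Y : Subgroup H, IsPGroup p ↥Y → Y ≠ ⊥ → ⁅Cfsg.pResidual p H, Y⁆ = Cfsg.pResidual p H ∧ Cfsg.pResidual p H ≤ ⨆ k : ↥(Cfsg.pResidual p H), Y.map (MulAut.conj (k : H)).toMonoidHom) ∧ (∀ C : Subgroup H, C.Normal → ¬ Cfsg.pResidual p H ≤ C → (Nat.card ↥C).Coprime p) ∧ Cfsg.IsPIrreducible p H := by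
  have h : pCoreOf p (⊤ : Subgroup H) = ⊥ := by rwa [pCoreOf_top]
  have hq' : L0.QS (pResidualOf p (⊤ : Subgroup H)) := by rw [pResidualOf_top]; exact L0.qs_iff.mpr hq
  have h1 : ∀ C : Subgroup H, C.Normal → ¬ pResidual p H ≤ C → (Nat.card ↥C).Coprime p :=
    fun C hC h1 => coprime_of_qs h hq' (SN.of_normal le_top le_normalizer_of_normal)
      (by rwa [pResidualOf_top])
  refine ⟨by rw [← fstarOf_top, fstarOf_eq_of_qs h hq', pResidualOf_top], fun Y h2 h3 => ?_, h1,
    fun h2 => ?_, fun N hN h2 => ?_⟩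
  · have h4 := commutator_eq_of_qs h hq' h2 le_top h3
    rw [pResidualOf_top] at h4
    refine ⟨h4, le_trans ?_ (iSup_cj_eq_sup_commutator _ _).ge⟩
    rw [h4]; exact le_sup_right
  · have h3 := (pClosed_top_iff.mpr h2).coprime_of_pCoreOf_eq_bot h
    rw [card_top] at h3
    exact (Nat.Prime.coprime_iff_not_dvd Fact.out).mp h3.symm hp
  · by_contra h3
    exact h2 (pClosed_iff.mp (pClosed_of_coprime (h1 N hN h3)))

end Cfsg.Agent.S2815
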