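import Cfsg.Statements.S2816
import Cfsg.Agent.H7.Frat

set_option autoImplicit false
open Cfsg

namespace Cfsg.Agent.S2816

open Subgroup Cfsg.H7
open Cfsg.L0 (SN)
open scoped commutatorElement

/-- Let H be a finite group and p a prime with O_p(H) = 1, and Y a p-subgroup of H. Then for every subnormal subgroup K of H containing Y, [F*(H), Y] = [F*(K), Y] = [F*(K), Y, Y]; and if Y₀ ≤ Y with [F*(H), Y, Y₀] = 1 then Y₀ = 1 (in particular [F*(H), Y] = 1 forces Y = 1). -/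
theorem result {H : Type*} [Group H] [Finite H] {p : ℕ} [Fact p.Prime] (hO : Cfsg.pCore p H = ⊥) (Y : Subgroup H) (hY : IsPGroup p ↥Y) : (∀ K : Subgroup H, K.IsSubnormal → Y ≤ K → ⁅Cfsg.generalizedFittingSubgroup H, Y⁆ = ⁅(Cfsg.generalizedFittingSubgroup ↥K).map K.subtype, Y⁆ ∧ ⁅(Cfsg.generalizedFittingSubgroup ↥K).map K.subtype, Y⁆ = ⁅⁅(Cfsg.generalizedFittingSubgroup ↥K).map K.subtype, Y⁆, Y⁆) ∧ (∀ Y₀ : Subgroup H, Y₀ ≤ Y → ⁅⁅Cfsg.generalizedFittingSubgroup H, Y⁆, Y₀⁆ = ⊥ → Y₀ = ⊥) := by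
  have h : pCoreOf p (⊤ : Subgroup H) = ⊥ := by rwa [pCoreOf_top]
  have h1 := commutator_commutator_fstarOf h hY le_normalizer_of_normal
  rw [← fstarOf_top]
  refine ⟨fun K hK hYK => ?_, fun Y₀ h2 h3 => eq_bot_of_commutator_fstarOf h (hY.to_le h2) le_top
    (L0.comm_bot_mono h3 (commutator_mono le_rfl h2) le_rfl)⟩
  have hK' := L0.sn_top_iff.mpr hK
  have h2 : ⁅fstarOf (⊤ : Subgroup H), Y⁆ = ⁅fstarOf K, Y⁆ := by
    rw [fstarOf_eq_inf_of_sn hK']
    refine le_antisymm (h1.ge.trans (commutator_mono (le_inf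
      (le_of_sn_of_commutator_eq h1 le_top hK' hYK) (commutator_le_left_of_le_normalizer
        (le_normalizer_fstarOf le_normalizer_of_normal))) le_rfl)) (commutator_mono inf_le_right le_rfl)
  rw [fstarOf_def, ← h2, h1]
  exact ⟨rfl, rfl⟩

end Cfsg.Agent.S2816
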