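import Cfsg.Statements.S2817
import Cfsg.Agent.H7.Frat

set_option autoImplicit false
open Cfsg

namespace Cfsg.Agent.S2817

open Subgroup Cfsg.H7
open Cfsg.L0 (SN)
open scoped commutatorElement

/-- Let H be a finite group and p a prime with O_p(H) = 1, Q a p-subgroup of H, L = [F*(H), Q], and F the largest normal subgroup of F*(H) centralized by Q (a normal subgroup of F*(H) centralized by Q and containing every such). Then F = C_{F*(H)}(LQ); L = [L, Q]; L ∩ F ≤ Φ(L); every p-subgroup B of N_H(Q) with [L, B] ≤ F satisfies [L, B] = 1; and C_H(FL) has order prime to p. -/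
theorem result {H : Type*} [Group H] [Finite H] {p : ℕ} [Fact p.Prime] (hO : Cfsg.pCore p H = ⊥) (Q : Subgroup H) (hQ : IsPGroup p ↥Q) (L : Subgroup H) (hL : L = ⁅Cfsg.generalizedFittingSubgroup H, Q⁆) (F : Subgroup H) (hF : F ≤ Cfsg.generalizedFittingSubgroup H ∧ Cfsg.generalizedFittingSubgroup H ≤ Subgroup.normalizer (F : Set H) ∧ Q ≤ Subgroup.centralizer (F : Set H) ∧ ∀ N : Subgroup H, N ≤ Cfsg.generalizedFittingSubgroup H → Cfsg.generalizedFittingSubgroup H ≤ Subgroup.normalizer (N : Set H) → Q ≤ Subgroup.centralizer (N : Set H) → N ≤ F) : F = Cfsg.generalizedFittingSubgroup H ⊓ Subgroup.centralizer ((L ⊔ Q : Subgroup H) : Set H) ∧ ⁅L, Q⁆ = L ∧ L ⊓ F ≤ (frattini ↥L).map L.subtype ∧ (∀ B : Subgroup H, IsPGroup p ↥B → B ≤ Subgroup.normalizer (Q : Set H) → ⁅L, B⁆ ≤ F → ⁅L, B⁆ = ⊥) ∧ (Nat.card ↥(Subgroup.centralizer ((F ⊔ L : Subgroup H) : Set H))).Coprime p := by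
  have h : pCoreOf p (⊤ : Subgroup H) = ⊥ := by rwa [pCoreOf_top]
  rw [← fstarOf_top] at hL hF ⊢
  set E := fstarOf (⊤ : Subgroup H) with hE
  have hEn : ∀ A : Subgroup H, A ≤ normalizer (E : Set H) := fun A =>
    le_normalizer_fstarOf le_normalizer_of_normal
  obtain ⟨hF1, hF2, hF3, hF4⟩ := hF
  have hLE : L ≤ E := hL ▸ commutator_le_left_of_le_normalizer (hEn Q)
  have hEL : E ≤ normalizer (L : Set H) := hL ▸ normalizer_commutator_ge_left _ _
  have hQL : Q ≤ normalizer (L : Set H) := hL ▸ normalizer_commutator_ge_right _ _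
  have hLsn : SN L ⊤ := (SN.of_normal hLE hEL).trans (sn_fstarOf ⊤)
  have h1 : F ≤ centralizer ((L ⊔ Q : Subgroup H) : Set H) := by
    rw [le_centralizer_iff, hL, sup_comm]
    exact sup_commutator_le_of_normal hF3 (le_normalizer_centralizer hF2)
  have hFL : F ≤ centralizer (L : Set H) := h1.trans (centralizer_anti le_sup_left)
  have h2 : ⁅L, Q⁆ = L := by
    rw [hL]; exact commutator_commutator_fstarOf h hQ le_normalizer_of_normal
  refine ⟨le_antisymm (le_inf hF1 h1) (hF4 _ inf_le_left (le_normalizer_inf le_normalizer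
    (le_normalizer_centralizer (by rw [hL, sup_comm]; exact le_normalizer_sup_commutator _ _)))
    (le_centralizer_iff.mp (inf_le_right.trans (centralizer_anti le_sup_right)))), h2, ?_, ?_, ?_⟩
  · refine le_frat_of_central ?_ inf_le_left (inf_le_right.trans hFL)
    have hn : L ≤ normalizer ((⁅L, L⁆ : Subgroup H) : Set H) := normalizer_commutator_ge_left _ _
    have hn2 : Q ≤ normalizer ((⁅L, L⁆ : Subgroup H) : Set H) := le_normalizer_commutator hQL hQL
    have hab : IsMulCommutative (qim ⁅L, L⁆ L) := by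
      rw [← le_centralizer_iff_isMulCommutative, ← commutator_eq_bot_iff', ← qim_commutator hn hn,
        qim_eq_bot_iff ((commutator_le_left_of_le_normalizer le_normalizer).trans hn)]
    have hcop : (Nat.card (qim ⁅L, L⁆ L)).Coprime p := by
      have h3 : L ≤ (L ⊓ fitOf ⊤) ⊔ ⁅L, L⁆ := le_of_le_fstarOf hLsn hLE
        (fun K _ h4 h5 => le_sup_of_le_right (h4.perfect.ge.trans (commutator_mono h5 h5))) le_sup_left
      refine (coprime_card_fitOf h).coprime_dvd_left
        ((card_dvd_of_le ((qim_le_qim_iff hn (inf_le_left.trans hn)).mpr h3)).trans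
          ((card_map_dvd _ _).trans ?_))
      rw [card_subgroupOf_eq]
      exact card_dvd_of_le (inf_le_left.trans inf_le_right)
    have h4 := H9.commutator_inf_centralizer_eq_bot (qim_le_normalizer ⁅L, L⁆ hQL)
      (L0.coprime_card_of_isPGroup (isPGroup_qim hQ) hcop).symm
    rw [← qim_commutator hn hn2, h2] at h4
    rw [← qim_eq_bot_iff (inf_le_left.trans hn), eq_bot_iff, ← h4]
    refine le_inf (qim_mono _ inf_le_left) ?_
    rw [← commutator_eq_bot_iff', ← qim_commutator hn2 (inf_le_left.trans hn),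
      commutator_eq_bot_iff'.mpr (inf_le_right.trans (le_centralizer_iff.mp hF3)), qim_bot]
  · intro B hB hBQ hLB
    have hBL : B ≤ normalizer (L : Set H) := hL ▸ le_normalizer_commutator (hEn B) hBQ
    have hQZ : Q ≤ normalizer ((L ⊓ F : Subgroup H) : Set H) :=
      le_normalizer_of_le_centralizer (hF3.trans (centralizer_anti inf_le_right))
    set S := stab L (L ⊓ F)
    have hBS : B ≤ S := le_stab_iff.mpr ⟨le_normalizer_of_commutator_le le_rfl ((commutator_mono
      inf_le_left le_rfl).trans (le_inf (commutator_le_left_of_le_normalizer hBL) hLB)),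
      le_inf (commutator_le_left_of_le_normalizer hBL) hLB⟩
    have hQS : Q ≤ normalizer (S : Set H) := le_normalizer_stab hQL hQZ
    have h3 : ⁅L, Q ⊓ S⁆ = ⊥ := by
      rw [← commutator_commutator_of_le_fstarOf h hQ.to_inf_left le_normalizer_of_normal hLsn hLE
        (inf_le_left.trans hQL), commutator_eq_bot_iff']
      exact inf_le_left.trans (hF3.trans (centralizer_anti (((commutator_mono le_rfl inf_le_right).trans
        (commutator_stab_le _ _)).trans inf_le_right)))
    have h4 : ⁅B, Q⁆ ≤ Q ⊓ S := le_inf (commutator_le_right_of_le_normalizer hBQ)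
      ((commutator_mono hBS le_rfl).trans (commutator_le_left_of_le_normalizer hQS))
    rw [← h2, commutator_comm L Q]
    refine commutator_commutator_eq_bot_of_rotate (commutator_eq_bot_iff'.mpr
      (hF3.trans (centralizer_anti hLB))) (L0.comm_bot_symm (L0.comm_bot_mono h3 le_rfl h4))
  · by_contra hc
    set C := centralizer ((F ⊔ L : Subgroup H) : Set H)
    have hQC : Q ≤ normalizer (C : Set H) := le_normalizer_centralizer
      (le_normalizer_sup (le_normalizer_of_le_centralizer hF3) hQL)
    obtain ⟨T, hT, hQT⟩ := exists_isSylowIn_ge hQ (le_sup_left : Q ≤ Q ⊔ C)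
    have h3 := hT.inf_of_normal le_sup_right (sup_le hQC le_normalizer)
    have h4 := inf_centralizer_ne_bot hQ h3.isPGroup (le_normalizer_inf (le_normalizer_of_le hQT) hQC)
      (h3.ne_bot (by rwa [Nat.coprime_comm, (Nat.Prime.coprime_iff_not_dvd Fact.out), not_not] at hc))
    set P := T ⊓ C ⊓ centralizer (Q : Set H)
    have hPC : P ≤ C := inf_le_left.trans inf_le_right
    refine h4 (eq_bot_of_commutator_fstarOf h h3.isPGroup.to_inf_left le_top
      (commutator_eq_bot_iff'.mpr (hPC.trans (centralizer_anti (le_trans (hF4 _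
        (commutator_le_left_of_le_normalizer (hEn P)) (normalizer_commutator_ge_left _ _) ?_) le_sup_left)))))
    rw [le_centralizer_iff, commutator_le]
    intro x hx u hu
    rw [← commutator_sup_centralizer_of_le_fstarOf h hQ le_normalizer_of_normal (sn_fstarOf ⊤) le_rfl
      (hEn Q), ← hE, ← hL, sup_comm] at hx
    obtain ⟨c, hc, l, hl, rfl⟩ := (mem_sup_of_le_normalizer (inf_le_left.trans hEL)).mp hx
    have e : l * u = u * l := hPC hu l (mem_sup_right hl)
    have e2 : ⁅c * l, u⁆ = ⁅c, u⁆ := by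
      rw [commutatorElement_def, commutatorElement_def, mul_assoc c, e]; group
    rw [e2, commutatorElement_def]
    exact mul_mem (mul_mem (mul_mem hc.2 hu.2) (inv_mem hc.2)) (inv_mem hu.2)

end Cfsg.Agent.S2817
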