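import Cfsg.Statements.S2818
import Cfsg.Agent.H7.Frat

set_option autoImplicit false
open Cfsg

namespace Cfsg.Agent.S2818

open Subgroup Cfsg.H7
open Cfsg.L0 (SN)
open scoped commutatorElement

/-- Let P be a finite p-subgroup of a group G and H a subgroup of N_G(P) with [P, H] ≤ Ω₁(Z(P)) (the elements of order dividing p in the centre of P). Then H centralizes the Frattini subgroup of P. -/
theorem result {G : Type*} [Group G] [Finite G] {p : ℕ} [Fact p.Prime] (P : Subgroup G) (hP : IsPGroup p ↥P) (H : Subgroup G) (hH : H ≤ Subgroup.normalizer (P : Set G)) (h : ⁅P, H⁆ ≤ Cfsg.omegaOne p (P ⊓ Subgroup.centralizer (P : Set G))) : ⁅(frattini ↥P).map P.subtype, H⁆ = ⊥ := by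
  have h1 : ⁅P, H⁆ ≤ centralizer (P : Set G) := h.trans (omegaOneCenter_le_centralizer p P)
  rw [frat_def, commutator_eq_bot_iff_le_centralizer, frat_le_iff_of_isPGroup hP]
  refine ⟨commutator_eq_bot_iff_le_centralizer.mp (commutator_commutator_eq_bot_of_rotate
    (commutator_eq_bot_iff_le_centralizer.mpr h1) (by
      rw [commutator_comm H]; exact commutator_eq_bot_iff_le_centralizer.mpr h1)), fun x hx y hy => ?_⟩
  have h2 := h (commutator_mem_commutator' hx hy)
  have h3 : Commute ⁅y, x⁆ x := (h1 (commutator_mem_commutator' hx hy) x hx).symm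
  have e : y * x * y⁻¹ = ⁅y, x⁆ * x := by rw [commutatorElement_def]; group
  rw [← mul_inv_eq_iff_eq_mul, ← conj_pow, e, h3.mul_pow, (ea_omegaOneCenter p P).2 _ h2, one_mul]

end Cfsg.Agent.S2818
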