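import Cfsg.Statements.S2819
import Cfsg.Agent.H7.Frat

set_option autoImplicit false
open Cfsg

namespace Cfsg.Agent.S2819

open Subgroup Cfsg.H7
open Cfsg.L0 (SN)
open scoped commutatorElement

/-- Let P be a finite p-subgroup of a group G, H a subgroup of N_G(P), and Y a subgroup of H centralizing the derived subgroup P' such that [P, Y] is elementary abelian. Then O^p(⟨Y^H⟩), the subgroup of the normal closure of Y in H generated by its elements of order prime to p, centralizes the Frattini subgroup of P. -/
theorem result {G : Type*} [Group G] [Finite G] {p : ℕ} [Fact p.Prime] (P : Subgroup G) (hP : IsPGroup p ↥P) (H : Subgroup G) (hH : H ≤ Subgroup.normalizer (P : Set G)) (Y : Subgroup G) (hYH : Y ≤ H) (hYc : Y ≤ Subgroup.centralizer ((⁅P, P⁆ : Subgroup G) : Set G)) (hel : Cfsg.IsElementaryAbelian p ⁅P, Y⁆) (NY : Subgroup G) (hNY : NY = (Subgroup.normalClosure ((Y.subgroupOf H : Subgroup ↥H) : Set ↥H)).map H.subtype) : (Cfsg.pResidual p ↥NY).map NY.subtype ≤ Subgroup.centralizer (((frattini ↥P).map P.subtype : Subgroup G)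 : Set G) := by
  have hn : H ≤ normalizer ((⁅P, P⁆ : Subgroup G) : Set G) := le_normalizer_commutator hH hH
  have h0 : ⁅P, P⁆ ≤ P := commutator_le_left_of_le_normalizer le_normalizer
  have h1 : frat P ≤ stab Y ⁅P, P⁆ := by
    rw [frat_le_iff_of_isPGroup hP]
    refine ⟨le_stab_iff.mpr ⟨le_normalizer, commutator_le_right_of_le_normalizer (hYH.trans hn)⟩,
      fun x hx => ⟨normalizer_commutator_ge_left P P (P.pow_mem hx p), fun y hy => ?_⟩⟩
    have h2 := commutatorElement_pow_mul_inv_mem (A := P) (W := P) (U := ⁅P, P⁆) (v := y) hx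
      (fun a ha => commutator_le_left_of_le_normalizer (hYH.trans hH) (commutator_mem_commutator' ha hy))
      (fun w hw => commutator_mem_commutator hw hx) (normalizer_commutator_ge_left _ _) p
    rwa [hel.2 _ (commutator_mem_commutator' hx hy), inv_one, mul_one] at h2
  have h2 : Y ≤ stab (frat P) ⁅P, P⁆ := le_stab_iff.mpr ⟨hYH.trans hn, by
    rw [commutator_comm]; exact (le_stab_iff.mp h1).2⟩
  rw [map_normalClosure_eq_sup_commutator hYH] at hNY
  rw [pResidualOf_def, frat_def, hNY]
  exact pResidualOf_le_centralizer (le_stab_iff.mp (sup_commutator_le_of_normal h2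
    (le_normalizer_stab (le_normalizer_frat hH) hn))).2
    (commutator_eq_bot_iff'.mpr (sup_commutator_le_of_normal hYc (le_normalizer_centralizer hn)))
    (hP.to_le h0)

end Cfsg.Agent.S2819
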