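import Cfsg.Statements.S2823
import Cfsg.Agent.H7.PRed

set_option autoImplicit false
open Cfsg

namespace Cfsg.Agent.S2823

open Subgroup Cfsg.H7
open Cfsg.L0 (SN)
open scoped commutatorElement

/-- Let H be a finite group, p a prime, T a Sylow p-subgroup and L a subgroup of characteristic p containing T; let Z_L be the subgroup generated by the Ω₁(Z(S)) over the Sylow p-subgroups S of L and O^p(L) the subgroup generated by the elements of L of order prime to p. Then Z_L = Ω₁(Z(L))·[Z_L, O^p(L)] and [Z_L, L] = [Z_L, O^p(L)]. -/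
theorem result {H : Type*} [Group H] [Finite H] {p : ℕ} [Fact p.Prime] (T : Sylow p H) (L : Subgroup H) (hTL : (T : Subgroup H) ≤ L) (hL : Subgroup.centralizer (Cfsg.pCore p ↥L : Set ↥L) ≤ Cfsg.pCore p ↥L) : Cfsg.sylowCenterClosure p L = (Cfsg.omegaOne p (L ⊓ Subgroup.centralizer ((L : Subgroup H) : Set H))) ⊔ ⁅Cfsg.sylowCenterClosure p L, (Cfsg.pResidual p ↥L).map L.subtype⁆ ∧ ⁅Cfsg.sylowCenterClosure p L, L⁆ = ⁅Cfsg.sylowCenterClosure p L, (Cfsg.pResidual p ↥L).map L.subtype⁆ := by
  have hc := isCharP_iff.mpr hL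
  have hT := isSylowIn_of_sylow T hTL
  have hZY := scc_le_Y hc
  have hea := ea_mono (pRed_Y p L).ea hZY
  have hn := H9.le_normalizer_scc p L
  rw [pResidualOf_def, omegaOneCenter_def]
  have h0 : ⁅sylowCenterClosure p L, pResidualOf p L⁆ ≤ sylowCenterClosure p L :=
    commutator_le_left_of_le_normalizer ((pResidualOf_le p L).trans hn)
  have h1 : sylowCenterClosure p L =
      omegaOneCenter p L ⊔ ⁅sylowCenterClosure p L, pResidualOf p L⁆ := by
    apply le_antisymm
    · refine H9.scc_le_iff.mpr fun S hS => ?_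
      refine ((le_inf (H9.omegaOneCenter_le_scc hS) (omegaOneCenter_le_centralizer p S)).trans
        (inf_centralizer_sylow_le (ea_le_centralizer hea) (ea_isPGroup hea) hn hS)).trans
        (sup_le_sup_right ?_ _)
      exact le_omegaOneCenter (inf_le_left.trans (H9.scc_le p L)) inf_le_right
        fun v hv => hea.2 v hv.1
    · refine sup_le (le_trans ?_ (H9.omegaOneCenter_le_scc hT)) h0
      exact le_omegaOneCenter ((pRed_omegaOneCenter p L).le_sylow hT)
        ((omegaOneCenter_le_centralizer p L).trans (centralizer_anti hTL)) (ea_omegaOneCenter p L).2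
  refine ⟨h1, le_antisymm ?_ (commutator_mono le_rfl (pResidualOf_le p L))⟩
  have h2 : L ≤ normalizer ((⁅sylowCenterClosure p L, pResidualOf p L⁆ : Subgroup H) : Set H) :=
    le_normalizer_commutator hn (le_normalizer_pResidualOf p L)
  conv_lhs => rw [h1]
  exact sup_commutator_le ((omegaOneCenter_le p L).trans h2) le_normalizer
    (commutator_le_of_le_centralizer (le_centralizer_omegaOneCenter p L))
    (commutator_le_left_of_le_normalizer h2)

end Cfsg.Agent.S2823
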