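import Cfsg.Statements.S2825
import Cfsg.Agent.H7.PRed

set_option autoImplicit false
open Cfsg

namespace Cfsg.Agent.S2825

open Subgroup Cfsg.H7
open Cfsg.L0 (SN)
open scoped commutatorElement

/-- Let L be a subnormal subgroup of the finite group H, p a prime, Y_H and Y_L the largest p-reduced normal subgroups. Then Y_H ∩ L = Y_H ∩ Y_L and this subgroup is a p-reduced normal subgroup of L; C_L(Y_L) = C_L(Y_H) = C_L(Y_H ∩ L); and if O^p(H) ≤ L, then [Y_L, L] = 1 if and only if [Y_H, H] = 1. -/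
theorem result {H : Type*} [Group H] [Finite H] {p : ℕ} [Fact p.Prime] (L : Subgroup H) (hL : L.IsSubnormal) : Cfsg.largestPReduced p H ⊓ L = Cfsg.largestPReduced p H ⊓ (Cfsg.largestPReducedOf p L) ∧ Cfsg.IsPReducedNormal p ((Cfsg.largestPReduced p H ⊓ L).subgroupOf L) ∧ L ⊓ Subgroup.centralizer ((Cfsg.largestPReducedOf p L : Subgroup H) : Set H) = L ⊓ Subgroup.centralizer (Cfsg.largestPReduced p H : Set H) ∧ L ⊓ Subgroup.centralizer (Cfsg.largestPReduced p H : Set H) = L ⊓ Subgroup.centralizer ((Cfsg.largestPReduced p H ⊓ L : Subgroup H) : Set H) ∧ (Cfsg.pResidual p H ≤ L → (⁅(Cfsg.largestPReducedOf p L), L⁆ = ⊥ ↔ ⁅Cfsg.largestPReduced p H, (⊤ : Subgroup H)⁆ = ⊥)) := by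
  have h := L0.sn_top_iff.mpr hL
  have hY := pRed_Y p (⊤ : Subgroup H)
  have h1 := inf_centralizer_Y_of_sn (p := p) h
  rw [← Y_top]
  refine ⟨le_antisymm (le_inf inf_le_left (Y_inf_le_of_sn h)) (inf_le_inf_left _ (Y_le p L)),
    (pRed_iff_subgroupOf inf_le_right).mp (hY.inf_sn h), h1, hY.inf_centralizer_inf_sn h,
    fun hO => ?_⟩
  rw [commutator_eq_bot_iff', commutator_eq_bot_iff']
  constructor
  · intro h2
    refine hY.red ⊤ le_rfl le_normalizer ?_
    rw [pResidualOf_top]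
    exact hO.trans ((le_inf le_rfl h2).trans (h1.le.trans inf_le_right))
  · intro h2
    exact (le_inf le_rfl (le_top.trans h2)).trans (h1.ge.trans inf_le_right)

end Cfsg.Agent.S2825
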