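import Cfsg.Statements.S2826
import Cfsg.Agent.H7.PRed

set_option autoImplicit false
open Cfsg

namespace Cfsg.Agent.S2826

open Subgroup Cfsg.H7
open Cfsg.L0 (SN)
open scoped commutatorElement

theorem aux {H : Type*} [Group H] [Finite H] {p : ℕ} [Fact p.Prime]  (T : Subgroup H) (hT : IsSylowIn p T ⊤) (V : Subgroup H) [V.Normal] (hV : Cfsg.IsElementaryAbelian p V) (hZV : omegaOneCenter p T ≤ V) : centralizer (omegaOneCenter p (T : Subgroup H) : Set H) =
    centralizer ((⁅V, pResidual p H⁆ ⊓ omegaOneCenter p (T : Subgroup H) : Subgroup H) : Set H) := by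
  have hVT : V ≤ T := hT.le_of_normal (ea_isPGroup hV) le_top le_normalizer_of_normal
  have h1 := inf_centralizer_sylow_le (ea_le_centralizer hV) (ea_isPGroup hV)
    le_normalizer_of_normal hT
  rw [pResidualOf_top] at h1
  have h2 : V ⊓ centralizer ((⊤ : Subgroup H) : Set H) ≤ omegaOneCenter p T :=
    le_omegaOneCenter (inf_le_left.trans hVT) (inf_le_right.trans (centralizer_anti le_top))
      fun v hv => hV.2 v hv.1
  have h5 := dedekind_left (B := ⁅V, pResidual p H⁆) h2 le_normalizer_of_normal
  rw [inf_eq_right.mpr ((le_inf hZV (omegaOneCenter_le_centralizer p T)).trans h1)] at h5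
  apply le_antisymm (centralizer_anti inf_le_right)
  refine le_trans ?_ (centralizer_anti h5.le)
  rw [centralizer_sup]
  exact le_inf (le_top.trans (le_centralizer_iff.mp inf_le_right)) le_rfl


/-- Let H be a finite group of characteristic p, T a Sylow p-subgroup, and V a normal elementary abelian p-subgroup of H containing Ω₁(Z(T)). Then C_H(Ω₁(Z(T))) = C_H([V, O^p(H)] ∩ Ω₁(Z(T))), O^p(H) being generated by the elements of order prime to p. -/
theorem result {H : Type*} [Group H] [Finite H] {p : ℕ} [Fact p.Prime] (hH : Subgroup.centralizer (Cfsg.pCore p H : Set H) ≤ Cfsg.pCore p H) (T : Sylow p H) (V : Subgroup H) [V.Normal] (hV : Cfsg.IsElementaryAbelian p V) (hZV : (Cfsg.omegaOne p ((T : Subgroup H) ⊓ Subgroup.centralizer (((T : Subgroup H) : Subgroup H) : Set H))) ≤ V) : Subgroup.centralizer ((Cfsg.omegaOne p ((T : Subgroup H) ⊓ Subgroup.centralizer (((T : Subgroup H) : Subgroup H) : Set H))) : Set H) = Subgroup.centralizer (((⁅V, Cfsg.pResidual p H⁆ ⊓ (Cfsg.omegaOne p ((T : Subgroup H) ⊓ Subgroup.centralizer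 (((T : Subgroup H) : Subgroup H) : Set H)))) : Subgroup H) : Set H) := by
  exact aux _ (isSylowIn_top T) V hV hZV

end Cfsg.Agent.S2826
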