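import Cfsg.Statements.S2833
import Cfsg.Agent.H7.PMin

set_option autoImplicit false
open Cfsg

namespace Cfsg.Agent.S2833

open Subgroup Cfsg.H7
open Cfsg.L0 (SN)
open scoped commutatorElement

/-- Let V be a subgroup of a finite group G normalized by the subgroup L, let X ≤ L and g ∈ L with [V, X, X] = 1 and L generated by X and gXg⁻¹. Put W = [V, L]. Then W = [V, X]·[V, gXg⁻¹], C_W(X) = [V, X], and C_W(L) = [V, X] ∩ [V, gXg⁻¹]. -/
theorem result {G : Type*} [Group G] [Finite G] (V L : Subgroup G) (hLV : L ≤ Subgroup.normalizer (V : Set G)) (X : Subgroup G) (hX : X ≤ L) (g : G) (hg : g ∈ L) (hq : ⁅⁅V, X⁆, X⁆ = ⊥) (hgen : X ⊔ X.map (MulAut.conj g).toMonoidHom = L) (W : Subgroup G) (hW : W = ⁅V, L⁆) : ⁅V, X⁆ ⊔ ⁅V, X.map (MulAut.conj g).toMonoidHom⁆ = W ∧ W ⊓ Subgroup.centralizer (X : Set G) = ⁅V, X⁆ ∧ W ⊓ Subgroup.centralizer (L : Set G) = ⁅V, X⁆ ⊓ ⁅V, X.map (MulAut.conj g).toMonoidHom⁆ := by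
  rw [map_conj_eq_cj] at hgen ⊢
  subst hW
  have h1 := quad_inf_centralizer hLV hg hq hgen
  have h2 := quad_inf_centralizer' hLV hg hq hgen
  refine ⟨by rw [← commutator_sup_eq (hX.trans hLV) ((le_sup_right.trans hgen.le).trans hLV), hgen],
    h1, ?_⟩
  rw [← h1, ← h2, ← inf_inf_distrib_left, ← centralizer_sup, hgen]

end Cfsg.Agent.S2833
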