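import Cfsg.Statements.S2835
import Cfsg.Agent.H7.PIrr

set_option autoImplicit false
open Cfsg

namespace Cfsg.Agent.S2835

open Subgroup Cfsg.H7
open Cfsg.L0 (SN)
open scoped commutatorElement

/-- Let L be a finite group, L₀ a maximal subgroup, T a Sylow p-subgroup of L₀ and Y ≤ T, and suppose L is Y-minimal (generated by the conjugates of Y, with Y in exactly one maximal subgroup, necessarily L₀). Then N_L(T) ≤ L₀, O_p(L) ≤ L₀ and T is a Sylow p-subgroup of L; N_L(L₀) = L₀; L = ⟨Y, gYg⁻¹⟩ for each g ∈ L outside L₀; and if Y is abelian then Y ∩ gYg⁻¹ = C_Y(L) for each such g. -/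
theorem result {L : Type*} [Group L] [Finite L] {p : ℕ} [Fact p.Prime] (L₀ : Subgroup L) (hL₀ : IsCoatom L₀) (T : Sylow p ↥L₀) (Y : Subgroup L) (hYT : Y ≤ (T : Subgroup ↥L₀).map L₀.subtype) (hmin : Cfsg.IsMinimalOver Y) : Subgroup.normalizer (((T : Subgroup ↥L₀).map L₀.subtype : Subgroup L) : Set L) ≤ L₀ ∧ Cfsg.pCore p L ≤ L₀ ∧ (∃ P : Sylow p L, (P : Subgroup L) = (T : Subgroup ↥L₀).map L₀.subtype) ∧ Subgroup.normalizer (L₀ : Set L) = L₀ ∧ (∀ g : L, g ∉ L₀ → Y ⊔ Y.map (MulAut.conj g).toMonoidHom = ⊤) ∧ (IsMulCommutative ↥Y → ∀ g : L, g ∉ L₀ → Y ⊓ Y.map (MulAut.conj g).toMonoidHom = Y ⊓ Subgroup.center L) := by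
  have hT := isSylowIn_map_subtype T
  have h := minOver_of_coatom hmin hL₀ (hYT.trans hT.le)
  have hT' := h.isSylowIn hT hYT
  refine ⟨(le_inf le_top le_rfl).trans (h.inf_normalizer_le hYT hT.le), ?_, isSylowIn_top_iff.mp hT',
    le_antisymm ((le_inf le_top le_rfl).trans (h.inf_normalizer_le h.le le_rfl)) le_normalizer,
    fun g hg => h.sup_cj_eq (mem_top g) hg, fun hc g hg => ?_⟩
  · rw [← pCoreOf_top]; exact hT'.pCoreOf_le.trans hT.le
  · have h1 := le_centralizer_iff_isMulCommutative.mpr hc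
    rw [map_conj_eq_cj, ← centralizer_top', ← h.sup_cj_eq (mem_top g) hg]
    apply le_antisymm
    · rw [centralizer_sup]
      refine le_inf inf_le_left (le_inf (inf_le_left.trans h1) (inf_le_right.trans ?_))
      rw [← cj_centralizer]; exact cj_mono h1
    · rw [h.sup_cj_eq (mem_top g) hg]
      refine le_inf inf_le_left fun x hx => mem_cj.mpr ?_
      have h2 : g⁻¹ * x = x * g⁻¹ := hx.2 g⁻¹ (mem_top _)
      rw [h2, inv_mul_cancel_right]; exact hx.1

end Cfsg.Agent.S2835
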