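import Cfsg.Statements.S2836
import Cfsg.Agent.H7.PMin

set_option autoImplicit false
open Cfsg

namespace Cfsg.Agent.S2836

open Subgroup Cfsg.H7
open Cfsg.L0 (SN)
open scoped commutatorElement

/-- Let L be a finite group, L₀ a maximal subgroup, T a Sylow p-subgroup of L₀, Y ≤ T, and suppose L is Y-minimal. Let D be the intersection of the conjugates of L₀ (the core of L₀). Then D contains O_p(L) and D/O_p(L) is the Frattini subgroup of L/O_p(L), so D is p-closed; and every normal subgroup N of L contained in L₀ is p-closed with N/O_p(N) a nilpotent group of order prime to p. -/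
theorem result {L : Type*} [Group L] [Finite L] {p : ℕ} [Fact p.Prime] (L₀ : Subgroup L) (hL₀ : IsCoatom L₀) (T : Sylow p ↥L₀) (Y : Subgroup L) (hYT : Y ≤ (T : Subgroup ↥L₀).map L₀.subtype) (hmin : Cfsg.IsMinimalOver Y) : (Cfsg.pCore p L ≤ L₀.normalCore ∧ (L₀.normalCore).map (QuotientGroup.mk' (Cfsg.pCore p L)) = frattini (L ⧸ Cfsg.pCore p L) ∧ Cfsg.IsPClosed p ↥(L₀.normalCore)) ∧ ∀ (N : Subgroup L) [N.Normal], N ≤ L₀ → Cfsg.IsPClosed p ↥N ∧ Group.IsNilpotent (↥N ⧸ Cfsg.pCore p ↥N) ∧ (Nat.card (↥N ⧸ Cfsg.pCore p ↥N)).Coprime p := by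
  have hT := isSylowIn_map_subtype T
  have h := minOver_of_coatom hmin hL₀ (hYT.trans hT.le)
  have hT' := h.isSylowIn hT hYT
  have hu := (h.mono hYT hT.le).toUniqMax
  have hO : pCore p L ≤ L₀ := (pCoreOf_top p L).ge.trans (hT'.pCoreOf_le.trans hT.le)
  have h1 : ∀ N : Subgroup L, N.Normal → N ≤ L₀ →
      N.map (QuotientGroup.mk' (pCore p L)) ≤ frattini (L ⧸ pCore p L) := fun N hN h1 =>
    map_mk'_le_frattini_iff.mpr fun X h2 h3 =>
      hu.le_of_le_sup hT' h1 le_normalizer_of_normal (by rwa [pCoreOf_top]) le_top h3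
  refine ⟨⟨normal_le_normalCore.mpr hO, le_antisymm (h1 _ inferInstance (normalCore_le _)) ?_,
    pClosed_iff.mp (hu.pClosed hT' (normalCore_le _) le_normalizer_of_normal)⟩, fun N hN h2 => ?_⟩
  · rw [← map_comap_eq_self_of_surjective (QuotientGroup.mk'_surjective (pCore p L))
      (frattini (L ⧸ pCore p L))]
    refine map_mono (normal_le_normalCore.mpr ?_)
    refine le_trans (comap_mono (frattini_le_coatom (H1.isCoatom_map_mk' hL₀ hO))) ?_
    rw [comap_map_eq, QuotientGroup.ker_mk', sup_eq_left.mpr hO]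
  · have h3 := hu.pClosed hT' h2 le_normalizer_of_normal
    let f : N →* L ⧸ pCore p L := (QuotientGroup.mk' (pCore p L)).comp N.subtype
    have hk : pCore p N = f.ker := by
      rw [← pCoreOf_subgroupOf, pCoreOf_eq_inf_of_normal le_top le_normalizer_of_normal, pCoreOf_top,
        inf_subgroupOf_right, ← MonoidHom.comap_ker, QuotientGroup.ker_mk', comap_subtype]
    have hr : f.range = N.map (QuotientGroup.mk' (pCore p L)) := by
      rw [MonoidHom.range_comp, range_subtype]
    have e : (N ⧸ pCore p N) ≃* N.map (QuotientGroup.mk' (pCore p L)) :=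
      ((QuotientGroup.quotientMulEquivOfEq hk).trans (QuotientGroup.quotientKerEquivRange f)).trans
        (MulEquiv.subgroupCongr hr)
    refine ⟨pClosed_iff.mp h3, ?_, ?_⟩
    · have := H1.isNilpotent_of_le_fitting ((h1 N hN h2).trans H1.frattini_le_fitting)
      exact Group.nilpotent_of_mulEquiv e.symm
    · rw [← index_eq_card, ← pCoreOf_subgroupOf]
      exact h3.isSylowIn.coprime_relIndex

end Cfsg.Agent.S2836
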