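import Cfsg.Statements.S2837
import Cfsg.Agent.H7.PMin

set_option autoImplicit false
open Cfsg

namespace Cfsg.Agent.S2837

open Subgroup Cfsg.H7
open Cfsg.L0 (SN)
open scoped commutatorElement

/-- Let L be a finite group of characteristic p, L₀ a maximal subgroup, Y an elementary abelian p-subgroup of L₀ with L Y-minimal and O_p(L) ≤ N_L(Y). Put A = the normal closure of O_p(L) ∩ Y in L. Then for every g ∈ L outside L₀: Φ(A) = A' = [A ∩ Y, A] = [A ∩ Y, A ∩ gYg⁻¹] ≤ C_Y(L), and Y ∩ gYg⁻¹ = (A ∩ Y) ∩ (A ∩ gYg⁻¹) = C_Y(L) = C_A(L). -/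
theorem result {L : Type*} [Group L] [Finite L] {p : ℕ} [Fact p.Prime] (hchar : Subgroup.centralizer (Cfsg.pCore p L : Set L) ≤ Cfsg.pCore p L) (L₀ : Subgroup L) (hL₀ : IsCoatom L₀) (Y : Subgroup L) (hYL₀ : Y ≤ L₀) (hYel : Cfsg.IsElementaryAbelian p Y) (hmin : Cfsg.IsMinimalOver Y) (hOY : Cfsg.pCore p L ≤ Subgroup.normalizer (Y : Set L)) (A : Subgroup L) (hA : A = Subgroup.normalClosure (((Cfsg.pCore p L ⊓ Y : Subgroup L)) : Set L)) (g : L) (hg : g ∉ L₀) : (frattini ↥A).map A.subtype = ⁅A, A⁆ ∧ ⁅A, A⁆ = ⁅A ⊓ Y, A⁆ ∧ ⁅A ⊓ Y, A⁆ = ⁅A ⊓ Y, A ⊓ Y.map (MulAut.conj g).toMonoidHom⁆ ∧ ⁅A ⊓ Y, A⁆ ≤ Y ⊓ Subgroup.center L ∧ Y ⊓ Y.map (MulAut.conj g).toMonoidHom = Y ⊓ Subgroup.center L ∧ (A ⊓ Y) ⊓ (A ⊓ Y.map (MulAut.conj g).toMonoidHom) = Y ⊓ Subgroup.center L ∧ A ⊓ Subgroup.center L = Y ⊓ Subgroup.center L := by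
  have h := minOver_of_coatom hmin hL₀ hYL₀
  have hgen := h.sup_cj_eq (mem_top g) hg
  have hY := ea_le_centralizer hYel
  have hE : (⊤ : Subgroup L) ≤ normalizer (pCore p L : Set L) := le_normalizer_of_normal
  rw [normalClosure_eq_sup_commutator, closure_inf_eq hgen (mem_top g) hE hOY] at hA
  have h1 := h.inf_cj_eq hY (mem_top g) hg
  have h2 := commutator_inf_cj_le (mem_top g) hE hOY
  have h3 := sup_cj_inf_centralizer hgen (mem_top g) hY hE hOY
  rw [← hA] at h3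
  rw [map_conj_eq_cj, frat_def, ← centralizer_top']
  set B := pCore p L ⊓ Y with hB
  have hBe : IsElementaryAbelian p B := ea_mono hYel inf_le_right
  have hAO : A ≤ pCore p L := hA ▸ sup_le inf_le_left (cj_le_of_le (hE (mem_top g)) inf_le_left)
  have hAY : A ⊓ Y = B := le_antisymm (inf_le_inf_right _ hAO) (le_inf (hA ▸ le_sup_left) inf_le_right)
  have hAY' : A ⊓ cj g Y = cj g B := by
    rw [hB, cj_inf_eq (mem_top g) hE]
    exact le_antisymm (inf_le_inf_right _ hAO) (le_inf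
      (by rw [← cj_inf_eq (mem_top g) hE, hA]; exact le_sup_right) inf_le_right)
  have h4 : ⁅A, A⁆ = ⁅B, cj g B⁆ := by
    rw [hA]; exact commutator_sup_sup_of_comm (ea_le_centralizer hBe) (ea_le_centralizer (ea_cj hBe g))
  have h5 : ⁅B, A⁆ = ⁅B, cj g B⁆ := le_antisymm (h4 ▸ commutator_mono (hA ▸ le_sup_left) le_rfl)
    (commutator_mono le_rfl (hA ▸ le_sup_right))
  have h6 : Y ⊓ centralizer ((⊤ : Subgroup L) : Set L) ≤ B :=
    le_inf (inf_le_right.trans ((centralizer_anti le_top).trans hchar)) inf_le_left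
  have hAp : IsPGroup p A := (isPGroup_pCore p L).to_le hAO
  rw [hAY, hAY', h5, h4]
  refine ⟨le_antisymm ((frat_le_iff_of_isPGroup hAp).mpr ⟨h4.le, fun x hx => ?_⟩)
    (h4.ge.trans ((frat_le_iff_of_isPGroup hAp).mp le_rfl).1), rfl, rfl, h2.trans h1.le, h1,
    le_antisymm ((inf_le_inf inf_le_right (cj_mono inf_le_right)).trans h1.le)
      (le_inf h6 (le_trans (le_inf h6 inf_le_right)
        ((cj_inf_centralizer (mem_top g)).ge.trans inf_le_left))),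
    le_antisymm (le_inf (((inf_le_inf_left _ (centralizer_anti le_top)).trans h3.le).trans inf_le_right)
      inf_le_right) (le_inf (h6.trans (hA ▸ le_sup_left)) inf_le_right)⟩
  have hn : A ≤ normalizer ((⁅B, cj g B⁆ : Subgroup L) : Set L) :=
    h4 ▸ normalizer_commutator_ge_left _ _
  have hB1 : B ≤ A := hA ▸ le_sup_left
  have hB2 : cj g B ≤ A := hA ▸ le_sup_right
  have h7 : IsElementaryAbelian p (qim ⁅B, cj g B⁆ A) := by
    conv_rhs => rw [hA]
    rw [qim_sup (hB1.trans hn) (hB2.trans hn)]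
    refine ea_sup (ea_map (ea_subgroupOf hBe _) _) (ea_map (ea_subgroupOf (ea_cj hBe g) _) _) ?_
    rw [← commutator_eq_bot_iff_le_centralizer, ← qim_commutator (hB1.trans hn) (hB2.trans hn),
      qim_eq_bot_iff le_normalizer]
  have h8 := h7.2 (QuotientGroup.mk' _ ⟨x, hn hx⟩) ⟨⟨x, hn hx⟩, hx, rfl⟩
  rw [← map_pow] at h8
  exact (QuotientGroup.eq_one_iff ((⟨x, hn hx⟩ : normalizer ((⁅B, cj g B⁆ : Subgroup L) : Set L)) ^ p)).mp h8

end Cfsg.Agent.S2837
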