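import Cfsg.Statements.S2840
import Cfsg.Agent.H7.WClos

set_option autoImplicit false
open Cfsg

namespace Cfsg.Agent.S2840

open Subgroup Cfsg.H7
open Cfsg.L0 (SN)
open scoped commutatorElement

/-- Let Q be a nontrivial p-subgroup of the finite group H that is a weakly closed subgroup and K a subgroup containing Q; let K° be the weak closure of Q in K (generated by the H-conjugates of Q inside K). Then K° is generated by the K-conjugates of Q, and K° is the subnormal closure of Q in K. -/
theorem result {H : Type*} [Group H] [Finite H] {p : ℕ} [Fact p.Prime] (Q : Subgroup H) (hQp : IsPGroup p ↥Q) (hQ1 : Q ≠ ⊥) (hwc : Cfsg.IsWeaklyClosedSubgroup p Q) (K : Subgroup H) (hQK : Q ≤ K) (Kc : Subgroup H) (hKc : Kc = Cfsg.weakClosure Q K) : Kc = ⨆ k : ↥K, ((Q : Subgroup H).map (MulAut.conj ((k : H) : H)).toMonoidHom) ∧ Kc = (Cfsg.subnormalClosure (Q.subgroupOf K)).map K.subtype := by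
  have h := wc_top_iff.mpr hwc
  subst hKc
  refine ⟨?_, (map_subnormalClosure_eq (h.gen hQK) (SN.of_normal (weakClosure_le Q K)
    (le_normalizer_weakClosure Q le_normalizer))).symm⟩
  rw [h.weakClosure_eq hQK, ← iSup_cj_eq_sup_commutator]; rfl

end Cfsg.Agent.S2840
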