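import Cfsg.Statements.S2841
import Cfsg.Agent.H7.WClos

set_option autoImplicit false
open Cfsg

namespace Cfsg.Agent.S2841

open Subgroup Cfsg.H7
open Cfsg.L0 (SN)
open scoped commutatorElement

/-- Let Q be a nontrivial p-subgroup of the finite group H that is a weakly closed subgroup and N a normal subgroup of H. Then N = N_N(Q)·[N, Q] and [N, Q] = (Q ∩ [N, Q])·[N, Q, Q]. -/
theorem result {H : Type*} [Group H] [Finite H] {p : ℕ} [Fact p.Prime] (Q : Subgroup H) (hQp : IsPGroup p ↥Q) (hQ1 : Q ≠ ⊥) (hwc : Cfsg.IsWeaklyClosedSubgroup p Q) (N' : Subgroup H) [N'.Normal] : (∀ n : H, n ∈ N' → ∃ a ∈ N' ⊓ Subgroup.normalizer ((Q : Subgroup H) : Set H), ∃ b ∈ ⁅N', Q⁆, n = a * b) ∧ (∀ c : H, c ∈ ⁅N', Q⁆ → ∃ a ∈ Q ⊓ ⁅N', Q⁆, ∃ b ∈ ⁅⁅N', Q⁆, Q⁆, c = a * b) := by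
  have h := wc_top_iff.mpr hwc
  have h1 : ⁅N', Q⁆ ≤ N' := commutator_le_left_of_le_normalizer le_normalizer_of_normal
  have h2 : Q ≤ normalizer ((⁅N', Q⁆ : Subgroup H) : Set H) := normalizer_commutator_ge_right _ _
  constructor
  · intro n hn
    obtain ⟨k, hk, a, ha, e⟩ := h.exists_mul_eq (le_sup_left : Q ≤ Q ⊔ ⁅N', Q⁆) le_top (mem_top n⁻¹)
      (cj_le_sup_commutator (N'.inv_mem hn))
    obtain ⟨b, hb, q, hq, rfl⟩ := (mem_sup_of_le_normalizer' h2).mp (sup_comm Q _ ▸ hk)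
    have e2 : n = (q * a)⁻¹ * b⁻¹ := by rw [← mul_inv_rev, ← mul_assoc, e, inv_inv]
    refine ⟨(q * a)⁻¹, mem_inf.mpr ⟨?_, inv_mem (mul_mem (le_normalizer hq) ha)⟩, b⁻¹, inv_mem hb, e2⟩
    have : (q * a)⁻¹ = n * b := by rw [e2]; group
    rw [this]; exact N'.mul_mem hn (h1 hb)
  · intro c hc
    have h3 : ⁅N', Q⁆ ≤ Q ⊔ ⁅⁅N', Q⁆, Q⁆ := by
      rw [← h.weakClosure_sup, sup_comm, ← h.weakClosure_sup, weakClosure_weakClosure,
        h.weakClosure_sup]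
      exact le_sup_right
    obtain ⟨a, ha, b, hb, e⟩ := (mem_sup_of_le_normalizer (normalizer_commutator_ge_right _ _)).mp (h3 hc)
    refine ⟨a, mem_inf.mpr ⟨ha, ?_⟩, b, hb, e.symm⟩
    have : a = c * b⁻¹ := by rw [← e]; group
    rw [this]; exact mul_mem hc (inv_mem (commutator_le_left_of_le_normalizer h2 hb))

end Cfsg.Agent.S2841
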