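import Cfsg.Statements.S2842
import Cfsg.Agent.H7.WClos

set_option autoImplicit false
open Cfsg

namespace Cfsg.Agent.S2842

open Subgroup Cfsg.H7
open Cfsg.L0 (SN)
open scoped commutatorElement

/-- Let Q be a nontrivial p-subgroup of the finite group H that is a weakly closed subgroup with C_H(Q) ≤ Q, and Q ≤ L ≤ H. Suppose H has characteristic p, or more generally that C_H(y) has characteristic p for some nonidentity y ∈ C_{O_p(L)}(Q). Then [Q, C_H(O_p(L))] ≤ Q ∩ O_p(L), C_H(O_p(L)) is a p-group, and L has characteristic p. -/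
theorem result {H : Type*} [Group H] [Finite H] {p : ℕ} [Fact p.Prime] (Q : Subgroup H) (hQp : IsPGroup p ↥Q) (hQ1 : Q ≠ ⊥) (hwc : Cfsg.IsWeaklyClosedSubgroup p Q) (hCQ : Subgroup.centralizer ((Q : Subgroup H) : Set H) ≤ Q) (L : Subgroup H) (hQL : Q ≤ L) (hyp : Subgroup.centralizer (Cfsg.pCore p H : Set H) ≤ Cfsg.pCore p H ∨ ∃ y : H, y ≠ 1 ∧ y ∈ (Cfsg.pCoreOf p L) ⊓ Subgroup.centralizer ((Q : Subgroup H) : Set H) ∧ Subgroup.centralizer (Cfsg.pCore p ↥(Subgroup.centralizer ({y} : Set H)) : Set ↥(Subgroup.centralizer ({y} : Set H))) ≤ Cfsg.pCore p ↥(Subgroup.centralizer ({y} : Set H))) : ⁅Q, Subgroup.centralizer (((Cfsg.pCoreOf p L) : Subgroup H) : Set H)⁆ ≤ Q ⊓ (Cfsg.pCoreOf p L) ∧ IsPGroup p ↥(Subgroup.centralizer (((Cfsg.pCoreOf p L) : Subgroup H) : Set H)) ∧ Subgroup.centralizer (Cfsg.pCore p ↥L : Set ↥L) ≤ Cfsg.pCore p ↥L := by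
  have h := wc_top_iff.mpr hwc
  have h1 : centralizer (pCoreOf p L : Set H) ≤ normalizer (Q : Set H) := by
    rcases hyp with h1 | ⟨y, -, hy, h1⟩
    · exact (le_inf le_top le_rfl).trans
        (h.centralizer_le_normalizer (isCharP_top_iff.mpr h1) hQL le_top)
    · have h2 := isCharP_iff.mpr h1
      rw [← centralizer_zpowers] at h2
      have h3 := (isCharP_centralizer_of_le (isPGroup_pCoreOf p L) (zpowers_le.mpr hy.1)
        h2).normalizer_of_centralizer (isPGroup_pCoreOf p L)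
      exact (le_inf (centralizer_le_normalizer _) le_rfl).trans
        ((h.mono (hQL.trans (le_normalizer_pCoreOf p L)) le_top).centralizer_le_normalizer h3 hQL
          (le_normalizer_pCoreOf p L))
  have h2 := isPGroup_centralizer_pCoreOf hQp hCQ hQL h1
  exact ⟨commutator_le_pCoreOf_of_le_normalizer hQp hQL
    (le_normalizer_centralizer (le_normalizer_pCoreOf p L)) h1, h2,
    isCharP_iff.mp (isCharP_iff_isPGroup.mpr h2.to_inf_right)⟩

end Cfsg.Agent.S2842
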