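import Cfsg.Statements.S2844
import Cfsg.Agent.H7.WClos

set_option autoImplicit false
open Cfsg

namespace Cfsg.Agent.S2844

open Subgroup Cfsg.H7
open Cfsg.L0 (SN)
open scoped commutatorElement

/-- Let Q be a nontrivial large p-subgroup of the finite group H and Q• = O_p(N_H(Q)). Then for every g ∈ H outside N_H(Q): C_H(Q) ∩ C_H(gQg⁻¹) = 1, C_H(Q•) ∩ C_H(gQ•g⁻¹) = 1, Z(Q) ∩ Z(gQg⁻¹) = 1 and Z(Q•) ∩ Z(gQ•g⁻¹) = 1; moreover N_H(Q) = N_H(Q•) and Q• is large in H. -/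
theorem result {H : Type*} [Group H] [Finite H] {p : ℕ} [Fact p.Prime] (Q : Subgroup H) (hQp : IsPGroup p ↥Q) (hQ1 : Q ≠ ⊥) (hL : Cfsg.IsLarge Q) (Qb : Subgroup H) (hQb : Qb = Cfsg.largeBullet p Q) : (∀ g : H, g ∉ Subgroup.normalizer ((Q : Subgroup H) : Set H) → Subgroup.centralizer ((Q : Subgroup H) : Set H) ⊓ Subgroup.centralizer ((((Q : Subgroup H).map (MulAut.conj (g : H)).toMonoidHom) : Subgroup H) : Set H) = ⊥ ∧ Subgroup.centralizer ((Qb : Subgroup H) : Set H) ⊓ Subgroup.centralizer ((((Qb : Subgroup H).map (MulAut.conj (g : H)).toMonoidHom) : Subgroup H) : Set H) = ⊥ ∧ (Q ⊓ Subgroup.centralizer ((Q : Subgroup H) : Set H)) ⊓ (((Q : Subgroup H).map (MulAut.conj (g : H)).toMonoidHom) ⊓ Subgroup.centralizer ((((Q : Subgroup H).map (MulAut.conj (g : H)).toMonoidHom) : Subgroup H) : Set H)) = ⊥ ∧ (Qb ⊓ Subgroup.centralizer ((Qb : Subgroup H) : Set H)) ⊓ (((Qb : Subgroup H).map (MulAut.conj (g : H)).toMonoidHom)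 ⊓ Subgroup.centralizer ((((Qb : Subgroup H).map (MulAut.conj (g : H)).toMonoidHom) : Subgroup H) : Set H)) = ⊥) ∧ Subgroup.normalizer ((Q : Subgroup H) : Set H) = Subgroup.normalizer ((Qb : Subgroup H) : Set H) ∧ Cfsg.IsLarge Qb := by
  have h1 : Q ≤ Qb := hQb ▸ le_pCoreOf hQp le_normalizer le_rfl
  have h2 : normalizer (Q : Set H) = normalizer (Qb : Set H) := by
    apply le_antisymm
    · rw [hQb]; exact le_normalizer_pCoreOf p _
    · exact (large_wc hL hQp).normalizer_le (hQb ▸ isPGroup_pCoreOf p _) h1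
  refine ⟨fun g hg => ?_, h2, (centralizer_anti h1).trans (hL.1.trans h1),
    fun U h3 h4 => h2 ▸ hL.2 U (h3.trans (centralizer_anti h1)) h4⟩
  have h3 := large_inf_centralizer hL hQp (g := g) fun h => hg (mem_normalizer_iff_cj.mpr h)
  have h4 : centralizer (Qb : Set H) ⊓ centralizer (cj g Qb : Set H) = ⊥ :=
    eq_bot_iff.mpr ((inf_le_inf (centralizer_anti h1) (centralizer_anti (cj_mono h1))).trans h3.le)
  exact ⟨h3, h4, eq_bot_iff.mpr ((inf_le_inf inf_le_right inf_le_right).trans h3.le),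
    eq_bot_iff.mpr ((inf_le_inf inf_le_right inf_le_right).trans h4.le)⟩

end Cfsg.Agent.S2844
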