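import Cfsg.Statements.S2845
import Cfsg.Agent.H7.WClos

set_option autoImplicit false
open Cfsg

namespace Cfsg.Agent.S2845

open Subgroup Cfsg.H7
open Cfsg.L0 (SN)
open scoped commutatorElement

/-- Let Q be a nontrivial large p-subgroup of the finite group H. Then for every subgroup L ≥ Q with O_p(L) ≠ 1, C_H(O_p(L)) is a p-group and L has characteristic p, and either the weak closure L° of Q in L equals Q or C_H(L°) = 1; for every subgroup R of H containing a Sylow p-subgroup of H with O_p(R) ≠ 1, C_H(O_p(R)) ≤ O_p(R); and H has parabolic characteristic p. -/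
theorem result {H : Type*} [Group H] [Finite H] {p : ℕ} [Fact p.Prime] (Q : Subgroup H) (hQp : IsPGroup p ↥Q) (hQ1 : Q ≠ ⊥) (hL : Cfsg.IsLarge Q) : (∀ L : Subgroup H, Q ≤ L → Cfsg.pCore p ↥L ≠ ⊥ → IsPGroup p ↥(Subgroup.centralizer (((Cfsg.pCoreOf p L) : Subgroup H) : Set H)) ∧ Subgroup.centralizer (Cfsg.pCore p ↥L : Set ↥L) ≤ Cfsg.pCore p ↥L ∧ (Cfsg.weakClosure Q L = Q ∨ Subgroup.centralizer (((Cfsg.weakClosure Q L) : Subgroup H) : Set H) = ⊥)) ∧ (∀ R : Subgroup H, Cfsg.IsParabolic p R → Cfsg.pCore p ↥R ≠ ⊥ → Subgroup.centralizer (((Cfsg.pCoreOf p R) : Subgroup H) : Set H) ≤ (Cfsg.pCoreOf p R)) ∧ Cfsg.IsOfParabolicCharacteristic p H := by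
  refine ⟨fun L h1 h2 => ?_, ?_, large_parabolicChar hL hQp⟩
  · have h3 := pCoreOf_eq_bot_iff.not.mpr h2
    refine ⟨large_isPGroup_centralizer hL hQp h1 h3, isCharP_iff.mp (large_isCharP hL hQp h1 h3), ?_⟩
    by_contra h4
    rw [not_or] at h4
    refine h4.1 (le_antisymm (weakClosure_le_iff.mpr fun g hg => ?_) (le_weakClosure h1))
    by_contra h5
    refine h4.2 (eq_bot_iff.mpr (le_trans (le_inf (centralizer_anti (le_weakClosure h1))
      (centralizer_anti (cj_le_weakClosure hg))) (large_inf_centralizer hL hQp (g := g) ?_).le))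
    exact fun e => h5 e.le
  · rintro R ⟨T, hT⟩ h2
    exact large_centralizer_le_pCoreOf hL hQp (isSylowIn_top T) hT (pCoreOf_eq_bot_iff.not.mpr h2)

end Cfsg.Agent.S2845
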