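import Cfsg.Statements.S2846
import Cfsg.Agent.H7.FrakM

set_option autoImplicit false
open Cfsg

namespace Cfsg.Agent.S2846

open Subgroup Cfsg.H7
open Cfsg.L0 (SN)
open scoped commutatorElement

/-- Let Q be a nontrivial large p-subgroup of the finite group H, S a Sylow p-subgroup containing Q, and L a subgroup containing S with O_p(L) ≠ 1 and C_H(O_p(L)) ≤ O_p(L). Then there are a subgroup M containing S having the basic property (M ∈ 𝔐_H, writing Y_X for the largest p-reduced normal subgroup of X and 𝓛_H for the set of subgroups X with O_p(X) ≠ 1 and C_H(O_p(X)) ≤ O_p(X): M ∈ 𝓛_H, M·C_H(Y_M) is the only maximal member of 𝓛_H containing M and its largest p-reduced normal subgroup is again Y_M, C_M(Y_M) is p-closed, and the image of C_M(Y_M) in M/O_p(M) lies in the Frattini subgroup of M/O_p(M)) and a subgroup L* with S ≤ L* ≤ M, O_p(L*) ≠ 1, C_H(O_p(L*)) ≤ O_p(L*), such that L·C_H(Y_L) = L*·C_H(Y_L), the weak closures of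 Q in L and in L* agree and lie in that of M, and Y_L = Y_{L*} ≤ Y_M. If moreover Q is not normal in L, then Q is normal in neither L* nor M. -/
theorem result {H : Type*} [Group H] [Finite H] {p : ℕ} [Fact p.Prime] (Q : Subgroup H) (hQp : IsPGroup p ↥Q) (hQ1 : Q ≠ ⊥) (hLg : Cfsg.IsLarge Q) (S : Sylow p H) (hQS : Q ≤ (S : Subgroup H)) (L : Subgroup H) (hSL : (S : Subgroup H) ≤ L) (hL : L ∈ Cfsg.charPSubgroups p H) : ∃ M Ls : Subgroup H, (S : Subgroup H) ≤ M ∧ Cfsg.IsInFrakM p M ∧ (S : Subgroup H) ≤ Ls ∧ Ls ≤ M ∧ Ls ∈ Cfsg.charPSubgroups p H ∧ L ⊔ Subgroup.centralizer (((Cfsg.largestPReducedOf p L) : Subgroup H) : Set H) = Ls ⊔ Subgroup.centralizer (((Cfsg.largestPReducedOf p L) : Subgroup H) : Set H) ∧ Cfsg.weakClosure Q L = Cfsg.weakClosure Q Ls ∧ Cfsg.weakClosure Q Ls ≤ Cfsg.weakClosure Q M ∧ (Cfsg.largestPReducedOf p L) = (Cfsg.largestPReducedOf p Ls) ∧ (Cfsg.largestPReducedOf p Ls) ≤ (Cfsg.largestPReducedOf p M) ∧ (¬ L ≤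 Subgroup.normalizer ((Q : Subgroup H) : Set H) → ¬ Ls ≤ Subgroup.normalizer ((Q : Subgroup H) : Set H) ∧ ¬ M ≤ Subgroup.normalizer ((Q : Subgroup H) : Set H)) := by
  have hT := isSylowIn_top S
  have hpar := par_of_large hLg hQp hT
  have hO := (mem_charPSubgroups.mp hL).1
  obtain ⟨M, hM, h1⟩ := exists_fm hT hpar hSL hO
  have hLc := hpar.isCharP hSL hO
  obtain ⟨Ls, h2, h3, h4, h5⟩ := h1.exists_star hT hSL hM.le hLc
  have hY := pRed_Y p L
  have hY1 := Y_ne_bot hLc (ne_bot_of_le (pCoreOf_le p L) hO)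
  have hLs : Ls ≤ normalizer (largestPReducedOf p L : Set H) := by
    rw [h4]; exact (pRed_Y p Ls).norm
  have hO' : pCoreOf p Ls ≠ ⊥ := ne_bot_of_le (h4.le.trans (pRed_Y p Ls).le_pCoreOf) hY1
  have key : ¬ L ≤ normalizer (Q : Set H) → ¬ Ls ≤ normalizer (Q : Set H) := fun h6 h7 =>
    h6 (le_sup_left.trans (h5.le.trans (sup_le h7 (large_centralizer_le hLg hQp hY.isPGroup hY1
      ((hQS.trans hSL).trans hY.norm)))))
  refine ⟨M, Ls, hM.le, hM.frak, h2, h3, mem_charPSubgroups.mpr ⟨hO', hpar _ h2 hO'⟩, h5, ?_,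
    weakClosure_mono Q h3, h4, h4.ge.trans (h1.Y_le hT hSL hM.le hM.charP),
    fun h6 => ⟨key h6, fun h7 => key h6 (h3.trans h7)⟩⟩
  rw [← large_weakClosure_sup hLg hQp hY.isPGroup hY1 (hQS.trans hSL) hY.norm, h5,
    large_weakClosure_sup hLg hQp hY.isPGroup hY1 (hQS.trans h2) hLs]

end Cfsg.Agent.S2846
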