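import Cfsg.Statements.S2850
import Cfsg.Agent.H7.FrakM

set_option autoImplicit false
open Cfsg

namespace Cfsg.Agent.S2850

open Subgroup Cfsg.H7
open Cfsg.L0 (SN)
open scoped commutatorElement

/-- Standing hypotheses: G a finite group, S a Sylow p-subgroup, Q a nontrivial large p-subgroup of G contained in S (C_G(Q) ≤ Q and N_G(U) ≤ N_G(Q) for all nontrivial U ≤ C_G(Q)), and M a subgroup containing S with the basic property (M ∈ 𝔐_G(S)); Y_M denotes the largest p-reduced normal subgroup of M and M† = M·C_G(Y_M). Suppose Y_M is asymmetric in G. Then N_G(L) ≤ N_G(O_p(M)) ≤ M† for every p-subgroup L containing O_p(M); O_p(M) is a weakly closed subgroup of G; for every subgroup L containing O_p(M), L ∩ M† contains a Sylow p-subgroup of L; and two elements of Y_M conjugate in G are conjugate in M. -/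
theorem result {G : Type*} [Group G] [Finite G] {p : ℕ} [Fact p.Prime] (S : Sylow p G) (Q : Subgroup G) (hQp : IsPGroup p ↥Q) (hQ1 : Q ≠ ⊥) (hQS : Q ≤ (S : Subgroup G)) (hQ : Cfsg.IsLarge Q) (M : Subgroup G) (hSM : (S : Subgroup G) ≤ M) (hM : Cfsg.IsInFrakM p M) (hasym : ¬ Cfsg.IsSymmetricIn (Cfsg.largestPReducedOf p M)) : (∀ L : Subgroup G, IsPGroup p ↥L → (Cfsg.pCoreOf p M) ≤ L → Subgroup.normalizer ((L : Subgroup G) : Set G) ≤ Subgroup.normalizer (((Cfsg.pCoreOf p M) : Subgroup G) : Set G) ∧ Subgroup.normalizer (((Cfsg.pCoreOf p M) : Subgroup G) : Set G) ≤ (M ⊔ Subgroup.centralizer (((Cfsg.largestPReducedOf p M) : Subgroup G) : Set G))) ∧ Cfsg.IsWeaklyClosedSubgroup p (Cfsg.pCoreOf p M) ∧ (∀ L : Subgroup G, (Cfsg.pCoreOf p M) ≤ L → Cfsg.IsParabolic p ((L ⊓ (M ⊔ Subgroup.centralizer (((Cfsg.largestPReducedOf p M) : Subgroup G) : Set G))).subgroupOf L)) ∧ (∀ x ∈ (Cfsg.largestPReducedOf p M), ∀ g : G, g * x * g⁻¹ ∈ (Cfsg.largestPReducedOf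 p M) → ∃ m ∈ M, m * x * m⁻¹ = g * x * g⁻¹) := by
  have h := FM.mk' S hQp hQ hSM hM
  have hw := h.wc hasym
  refine ⟨fun L h1 h2 => ⟨hw.normalizer_le h1 h2, h.normalizer_P_le⟩, wc_top_iff.mp hw,
    fun L h1 => ?_, fun x hx g hg => ?_⟩
  · obtain ⟨T, h2, h3, h4⟩ := h.exists_sylow hasym h1
    exact ⟨h2.toSylow, comap_mono (le_inf h2.le (h4.trans h.normalizer_P_le))⟩
  · have h1 : ∀ y ∈ largestPReducedOf p M, pCoreOf p M ≤ centralizer {y} := fun y hy =>
      FM.P_le_C.trans (centralizer_le_centralizer_singleton hy)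
    obtain ⟨k, hk, n, hn, h2⟩ := hw.exists_mul_eq (h1 x hx) le_top (mem_top g⁻¹) (by
      have h3 := cj_mono (g := g⁻¹) (h1 _ hg)
      rwa [cj_centralizer_singleton, show g⁻¹ * (g * x * g⁻¹) * g⁻¹⁻¹ = x by group] at h3)
    obtain ⟨m, hm, c, hc, h3⟩ := (mem_sup_of_le_normalizer (pRed_Y p M).normC).mp
      (h.normalizer_P_le (inv_mem hn))
    refine ⟨m, hm, ?_⟩
    have h4 : g = m * c * k⁻¹ := by rw [h3, ← mul_inv_rev, h2, inv_inv]
    have h5 : x * c = c * x := hc x hx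
    have h6 : x * k = k * x := hk x rfl
    have h7 : k⁻¹ * x * k = x := by rw [mul_assoc, h6, inv_mul_cancel_left]
    have h8 : c * x * c⁻¹ = x := by rw [← h5, mul_inv_cancel_right]
    calc m * x * m⁻¹ = m * (c * (k⁻¹ * x * k) * c⁻¹) * m⁻¹ := by rw [h7, h8]
      _ = g * x * g⁻¹ := by rw [h4]; group

end Cfsg.Agent.S2850
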