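import Cfsg.Statements.S2851
import Cfsg.Agent.H7.FrakM

set_option autoImplicit false
open Cfsg

namespace Cfsg.Agent.S2851

open Subgroup Cfsg.H7
open Cfsg.L0 (SN)
open scoped commutatorElement

/-- Standing hypotheses: G a finite group, S a Sylow p-subgroup, Q a nontrivial large p-subgroup of G contained in S, M a subgroup containing S with the basic property (M ∈ 𝔐_G(S)); Y_M the largest p-reduced normal subgroup of M and M† = M·C_G(Y_M). Let F be the preimage in M† of the generalized Fitting subgroup of M†/C_{M†}(Y_M). If Y_M is asymmetric in G and H is a subgroup of characteristic p containing F, then Y_M ≤ Y_H. -/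
theorem result {G : Type*} [Group G] [Finite G] {p : ℕ} [Fact p.Prime] (S : Sylow p G) (Q : Subgroup G) (hQp : IsPGroup p ↥Q) (hQ1 : Q ≠ ⊥) (hQS : Q ≤ (S : Subgroup G)) (hQ : Cfsg.IsLarge Q) (M : Subgroup G) (hSM : (S : Subgroup G) ≤ M) (hM : Cfsg.IsInFrakM p M) (hasym : ¬ Cfsg.IsSymmetricIn (Cfsg.largestPReducedOf p M)) [hn : ((Subgroup.centralizer (((Cfsg.largestPReducedOf p M) : Subgroup G) : Set G)).subgroupOf (M ⊔ Subgroup.centralizer (((Cfsg.largestPReducedOf p M) : Subgroup G) : Set G))).Normal] (F : Subgroup G) (hF : F = ((Cfsg.generalizedFittingSubgroup (↥(M ⊔ Subgroup.centralizer (((Cfsg.largestPReducedOf p M) : Subgroup G) : Set G)) ⧸ (Subgroup.centralizer (((Cfsg.largestPReducedOf p M) : Subgroup G) : Set G)).subgroupOf (M ⊔ Subgroup.centralizer (((Cfsg.largestPReducedOf p M) : Subgroup G) : Set G)))).comap (QuotientGroup.mk' ((Subgroup.centralizer (((Cfsg.largestPReducedOf p M) : Subgroup G) : Set G)).subgroupOf (M ⊔ Subgroup.centralizer (((Cfsg.largestPReducedOf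 p M) : Subgroup G) : Set G))))).map ((M ⊔ Subgroup.centralizer (((Cfsg.largestPReducedOf p M) : Subgroup G) : Set G))).subtype) (H : Subgroup G) (hFH : F ≤ H) (hH : Subgroup.centralizer (Cfsg.pCore p ↥H : Set ↥H) ≤ Cfsg.pCore p ↥H) : (Cfsg.largestPReducedOf p M) ≤ Cfsg.largestPReducedOf p H := by
  have h := FM.mk' S hQp hQ hSM hM
  have hY := pRed_Y p M
  have hCF : centralizer (largestPReducedOf p M : Set G) ≤ F := by
    intro x hx
    rw [hF]
    refine ⟨⟨x, mem_sup_right hx⟩, ?_, rfl⟩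
    refine mem_comap.mpr ?_
    rw [QuotientGroup.mk'_apply, (QuotientGroup.eq_one_iff _).mpr (mem_subgroupOf.mpr hx)]
    exact one_mem _
  have hCH := hCF.trans hFH
  obtain ⟨T, h1, h2, h3⟩ := h.exists_sylow hasym (FM.P_le_C.trans hCH)
  have h4 : PRed p (largestPReducedOf p M) (H ⊓ dag p M) := by
    refine ⟨le_inf (hY.le_centralizer.trans hCH) (hY.le.trans le_sup_left),
      inf_le_right.trans (dag_le_normalizer M), hY.ea,
      qRed_of_map (QuotientGroup.mk' _) (QuotientGroup.ker_mk' _) inf_le_right ?_⟩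
    refine pCoreOf_eq_bot_of_fstarOf_le (H := ⊤) ?_ ?_ le_top
    · rw [pCoreOf_top]; exact qRed_iff_pCore_quotient.mp hY.sup_centralizer.red
    · rw [fstarOf_top]
      intro y hy
      obtain ⟨x, rfl⟩ := QuotientGroup.mk'_surjective _ y
      exact ⟨x, ⟨hFH (by rw [hF]; exact ⟨x, hy, rfl⟩), x.2⟩, rfl⟩
  exact h4.le_Y_of_le (isCharP_iff.mpr hH) h1 (le_inf h1.le (h3.trans h.normalizer_P_le))
    inf_le_left

end Cfsg.Agent.S2851
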