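import Cfsg.Statements.S2852
import Cfsg.Agent.H7.FrakM

set_option autoImplicit false
open Cfsg

namespace Cfsg.Agent.S2852

open Subgroup Cfsg.H7
open Cfsg.L0 (SN)
open scoped commutatorElement

/-- Standing hypotheses: G a finite group, S a Sylow p-subgroup, Q a nontrivial large p-subgroup of G contained in S, M a subgroup containing S with the basic property (M ∈ 𝔐_G(S)); Y_M the largest p-reduced normal subgroup of M. If Y_M is char-p-tall and asymmetric in G, then some subgroup H of G lies in ℌ_G(O_p(M)): H has characteristic p, O_p(M) ≤ H, Y_M ≰ O_p(H), and Y_M ≤ O_p(P) for every proper subgroup P of H containing O_p(M). -/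
theorem result {G : Type*} [Group G] [Finite G] {p : ℕ} [Fact p.Prime] (S : Sylow p G) (Q : Subgroup G) (hQp : IsPGroup p ↥Q) (hQ1 : Q ≠ ⊥) (hQS : Q ≤ (S : Subgroup G)) (hQ : Cfsg.IsLarge Q) (M : Subgroup G) (hSM : (S : Subgroup G) ≤ M) (hM : Cfsg.IsInFrakM p M) (htall : Cfsg.IsCharPTall p (Cfsg.largestPReducedOf p M)) (hasym : ¬ Cfsg.IsSymmetricIn (Cfsg.largestPReducedOf p M)) : ∃ H : Subgroup G, Cfsg.IsInFrakH p M H := by
  have h := FM.mk' S hQp hQ hSM hM
  obtain ⟨T, L, h1, h2, h3⟩ := htall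
  obtain ⟨c, hc, h4⟩ := (isSylowIn_map_subtype T).exists_cj h.sylP
  have h5 : pCoreOf p M ≤ cj c L := h4.ge.trans (cj_mono h1)
  have h6 : ¬ largestPReducedOf p M ≤ pCoreOf p (cj c L) := by
    rwa [← cj_pCoreOf, ← cj_eq_of_mem_normalizer (centralizer_le_normalizer _ hc), cj_le_cj_iff]
  have h7 := (isCharP_iff.mpr h2).cj c
  generalize cj c L = K at h5 h6 h7
  obtain ⟨H, ⟨h8, h9, h10⟩, hmin⟩ := Set.Finite.exists_minimal
    (s := {H : Subgroup G | pCoreOf p M ≤ H ∧ H ≤ K ∧ ¬ largestPReducedOf p M ≤ pCoreOf p H})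
    (Set.toFinite _) ⟨K, h5, le_rfl, h6⟩
  have hH : FH p M H := ⟨h8, h10, fun X h11 h12 => by
    by_contra h13
    exact h12.not_ge (hmin ⟨h11, h12.le.trans h9, h13⟩ h12.le)⟩
  exact ⟨H, isCharP_iff.mp (h7.of_normalized h9 (hH.le_normalizer
    ((h.wc hasym).pCoreOf_le_normalizer h5 le_top) (h9.trans (le_normalizer_pCoreOf p K)))),
    hH.le, hH.not_le, hH.min⟩

end Cfsg.Agent.S2852
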