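import Cfsg.Statements.S2853
import Cfsg.Agent.H7.FrakM

set_option autoImplicit false
open Cfsg

namespace Cfsg.Agent.S2853

open Subgroup Cfsg.H7
open Cfsg.L0 (SN)
open scoped commutatorElement

/-- Standing hypotheses: G a finite group, S a Sylow p-subgroup, Q a nontrivial large p-subgroup of G contained in S, M a subgroup containing S with the basic property (M ∈ 𝔐_G(S)); Y_M the largest p-reduced normal subgroup of M and M† = M·C_G(Y_M). Suppose Y_M is char-p-tall and asymmetric in G and H ∈ ℌ_G(O_p(M)). Then every Sylow p-subgroup of H ∩ M† is a Sylow p-subgroup of H; O_p(H) normalizes O_p(M) and Y_M; O^p(H) = [O^p(H), Y_M] and H = O^p(H)·O_p(M); O^p(H)·Y_M is the normal closure of Y_M in H; and H is the normal closure of O_p(M) in H. Here O^p(H) is the subgroup generated by the elements of H of order prime to p. -/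
theorem result {G : Type*} [Group G] [Finite G] {p : ℕ} [Fact p.Prime] (S : Sylow p G) (Q : Subgroup G) (hQp : IsPGroup p ↥Q) (hQ1 : Q ≠ ⊥) (hQS : Q ≤ (S : Subgroup G)) (hQ : Cfsg.IsLarge Q) (M : Subgroup G) (hSM : (S : Subgroup G) ≤ M) (hM : Cfsg.IsInFrakM p M) (htall : Cfsg.IsCharPTall p (Cfsg.largestPReducedOf p M)) (hasym : ¬ Cfsg.IsSymmetricIn (Cfsg.largestPReducedOf p M)) (H : Subgroup G) (hH : Cfsg.IsInFrakH p M H) (R : Subgroup G) (hR : R = (Cfsg.pResidual p ↥H).map H.subtype) : (∀ T : Sylow p ↥(H ⊓ (M ⊔ Subgroup.centralizer (((Cfsg.largestPReducedOf p M) : Subgroup G) : Set G))), ∃ P : Sylow p ↥H, ((P : Subgroup ↥H).map H.subtype) = (T : Subgroup ↥(H ⊓ (M ⊔ Subgroup.centralizer (((Cfsg.largestPReducedOf p M) : Subgroup G) : Set G)))).map (H ⊓ (M ⊔ Subgroup.centralizer (((Cfsg.largestPReducedOf p M) : Subgroup G) : Set G))).subtype) ∧ Cfsg.pCoreOf p H ≤ Subgroup.normalizer (((Cfsg.pCoreOf p M) : Subgroup G) : Set G) ⊓ Subgroup.normalizer (((Cfsg.largestPReducedOf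 p M) : Subgroup G) : Set G) ∧ ⁅R, (Cfsg.largestPReducedOf p M)⁆ = R ∧ R ⊔ (Cfsg.pCoreOf p M) = H ∧ R ⊔ (Cfsg.largestPReducedOf p M) = (Subgroup.normalClosure ((((Cfsg.largestPReducedOf p M)).subgroupOf H : Subgroup ↥H) : Set ↥H)).map H.subtype ∧ (Subgroup.normalClosure ((((Cfsg.pCoreOf p M)).subgroupOf H : Subgroup ↥H) : Set ↥H)).map H.subtype = H := by
  have h := FM.mk' S hQp hQ hSM hM
  have hF := FH.of_frakH hH
  have hY : largestPReducedOf p M ≤ H := FM.Y_le_P.trans hF.le
  rw [pResidualOf_def] at hR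
  subst hR
  have h1 := (h.wc hasym).pCoreOf_le_normalizer hF.le le_top
  refine ⟨fun T => ?_, le_inf h1 (h1.trans h.normalizer_P_le_Y), hF.commutator_eq,
    by rw [sup_comm, hF.sup_eq], ?_, by rw [map_normalClosure_eq_sup_commutator hF.le, hF.gen]⟩
  · have hT := isSylowIn_map_subtype T
    obtain ⟨U, h2, h3, h4⟩ := h.exists_sylow hasym hF.le
    exact isSylowIn_iff_exists_map.mp (h2.of_card_le hT.isPGroup (hT.le.trans inf_le_left)
      (hT.card_le h2.isPGroup (le_inf h2.le (h4.trans h.normalizer_P_le))))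
  · rw [map_normalClosure_eq_sup_commutator hY]
    refine le_antisymm (sup_le (hF.commutator_eq.ge.trans
      ((commutator_mono (pResidualOf_le p H) le_rfl).trans le_sup_right)) le_sup_left)
      (sup_commutator_le_of_normal le_sup_right ?_)
    conv_lhs => rw [← hF.sup_eq]
    exact sup_le (le_normalizer_sup (hF.le.trans (le_normalizer_pResidualOf p H))
      (le_normalizer_of_le_centralizer FM.P_le_C)) (le_normalizer_of_le le_sup_left)

end Cfsg.Agent.S2853
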