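import Cfsg.Statements.S2854
import Cfsg.Agent.H7.FrakM

set_option autoImplicit false
open Cfsg

namespace Cfsg.Agent.S2854

open Subgroup Cfsg.H7
open Cfsg.L0 (SN)
open scoped commutatorElement

/-- Standing hypotheses: G a finite group, S a Sylow p-subgroup, Q a nontrivial large p-subgroup of G contained in S, M a subgroup containing S with the basic property (M ∈ 𝔐_G(S)); Y_M the largest p-reduced normal subgroup of M and M† = M·C_G(Y_M). Suppose Y_M is asymmetric in G, H ∈ ℌ_G(O_p(M)), and H ≤ N_G(gQg⁻¹) for some g ∈ G. Then gQg⁻¹ ≤ O_p(H·gQg⁻¹) ≤ N_G(O_p(M)) ≤ N_G(Y_M) = M†; H is normal in H·gQg⁻¹ with O^p(H) = O^p(H·gQg⁻¹); and H·gQg⁻¹ is p-irreducible. -/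
theorem result {G : Type*} [Group G] [Finite G] {p : ℕ} [Fact p.Prime] (S : Sylow p G) (Q : Subgroup G) (hQp : IsPGroup p ↥Q) (hQ1 : Q ≠ ⊥) (hQS : Q ≤ (S : Subgroup G)) (hQ : Cfsg.IsLarge Q) (M : Subgroup G) (hSM : (S : Subgroup G) ≤ M) (hM : Cfsg.IsInFrakM p M) (hasym : ¬ Cfsg.IsSymmetricIn (Cfsg.largestPReducedOf p M)) (H : Subgroup G) (hH : Cfsg.IsInFrakH p M H) (g : G) (hHQ : H ≤ Subgroup.normalizer ((((Q : Subgroup G).map (MulAut.conj (g : G)).toMonoidHom) : Subgroup G) : Set G)) : ((Q : Subgroup G).map (MulAut.conj (g : G)).toMonoidHom) ≤ Cfsg.pCoreOf p (H ⊔ ((Q : Subgroup G).map (MulAut.conj (g : G)).toMonoidHom)) ∧ Cfsg.pCoreOf p (H ⊔ ((Q : Subgroup G).map (MulAut.conj (g : G)).toMonoidHom)) ≤ Subgroup.normalizer (((Cfsg.pCoreOf p M) : Subgroup G) : Set G) ∧ Subgroup.normalizer (((Cfsg.pCoreOf p M) : Subgroup G) : Set G) ≤ Subgroup.normalizer (((Cfsg.largestPReducedOf p M) : Subgroup G) : Set G) ∧ Subgroup.normalizer (((Cfsg.largestPReducedOf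 p M) : Subgroup G) : Set G) = (M ⊔ Subgroup.centralizer (((Cfsg.largestPReducedOf p M) : Subgroup G) : Set G)) ∧ (H.subgroupOf (H ⊔ ((Q : Subgroup G).map (MulAut.conj (g : G)).toMonoidHom))).Normal ∧ (Cfsg.pResidual p ↥H).map H.subtype = (Cfsg.pResidual p ↥(H ⊔ ((Q : Subgroup G).map (MulAut.conj (g : G)).toMonoidHom))).map (H ⊔ ((Q : Subgroup G).map (MulAut.conj (g : G)).toMonoidHom)).subtype ∧ Cfsg.IsPIrreducible p ↥(H ⊔ ((Q : Subgroup G).map (MulAut.conj (g : G)).toMonoidHom)) := by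
  have h := FM.mk' S hQp hQ hSM hM
  have hF := FH.of_frakH hH
  have hw := h.wc hasym
  have hQ' : IsPGroup p (cj g Q) := isPGroup_cj hQp
  rw [map_conj_eq_cj] at hHQ ⊢
  generalize cj g Q = U at hHQ hQ'
  have hKU : H ⊔ U ≤ normalizer (U : Set G) := sup_le hHQ le_normalizer
  have h1 : U ≤ pCoreOf p (H ⊔ U) := le_pCoreOf hQ' le_sup_right hKU
  have h2 := hw.pCoreOf_le_normalizer (hF.le.trans (le_sup_left : H ≤ H ⊔ U)) le_top
  have h3 : U ≤ normalizer (H : Set G) := hF.le_normalizer (h1.trans h2) hHQ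
  have hKH : H ⊔ U ≤ normalizer (H : Set G) := sup_le le_normalizer h3
  have h4 : pResidualOf p (H ⊔ U) = pResidualOf p H := by
    rw [sup_comm]; exact pResidualOf_sup_eq hQ' h3
  have hY : largestPReducedOf p M ≤ H := FM.Y_le_P.trans hF.le
  have hYp := (pRed_Y p M).isPGroup
  have h5 : ¬ largestPReducedOf p M ≤ pCoreOf p (H ⊔ U) := fun h6 =>
    hF.not_le ((le_inf h6 hY).trans (pCoreOf_inf_le le_sup_left))
  refine ⟨h1, h2, h.normalizer_P_le_Y, h.normalizer_Y,
    (normal_subgroupOf_iff_le_normalizer le_sup_left).mpr hKH, h4.symm,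
    pIrr_iff.mp ⟨fun h6 => h5 (h6 _ (hY.trans le_sup_left) hYp), fun N₀ hN₀ hn₀ hc₀ => ?_⟩⟩
  have hK : H ⊔ U = U ⊔ H := sup_comm _ _
  generalize H ⊔ U = K at *
  have hHK : H ≤ K := le_sup_right.trans hK.ge
  have hO := le_normalizer_pCoreOf p K
  refine pResidualOf_le_of_le_sup ?_ (isPGroup_pCoreOf p K) ((pCoreOf_le p K).trans hn₀)
  have hN : N₀ ⊔ pCoreOf p K ≤ K := sup_le hN₀ (pCoreOf_le p K)
  have hn : K ≤ normalizer ((N₀ ⊔ pCoreOf p K : Subgroup G) : Set G) := le_normalizer_sup hn₀ hO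
  have hc : ¬ PClosed p (N₀ ⊔ pCoreOf p K) := fun h6 => hc₀ (h6.mono le_sup_left)
  have hON : pCoreOf p K ≤ N₀ ⊔ pCoreOf p K := le_sup_right
  generalize N₀ ⊔ pCoreOf p K = N at *
  by_contra hne
  have ded : ∀ X, X ≤ K → U ≤ X → X = U ⊔ (H ⊓ X) := fun X h6 h7 => by
    rw [← dedekind_left h7 h3, ← hK, inf_eq_right.mpr h6]
  have hPK : pCoreOf p M ≤ K := hF.le.trans hHK
  have hHN : K ≤ normalizer ((H ⊓ N : Subgroup G) : Set G) := le_normalizer_inf hKH hn
  have h6 : pCoreOf p M ⊔ (H ⊓ N) < H := by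
    refine lt_of_le_of_ne (sup_le hF.le inf_le_left) fun h7 => hne ?_
    rw [h4, ← h7]
    exact (pResidualOf_sup_le (isPGroup_pCoreOf p M) (hPK.trans hHN)).trans inf_le_right
  have h7 := hF.min _ le_sup_left h6
  have h8 : ⁅N, largestPReducedOf p M⁆ ≤ pCoreOf p K := by
    rw [ded N hN (h1.trans hON)]
    refine sup_commutator_le (le_normalizer_of_le h1) (inf_le_right.trans (hN.trans hO))
      ((commutator_le_left_of_le_normalizer ((hY.trans hHK).trans hKU)).trans h1) ?_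
    refine (le_inf ((commutator_mono le_sup_right h7).trans
      (commutator_le_right_of_le_normalizer (le_normalizer_pCoreOf p _)))
      (commutator_le_left_of_le_normalizer ((hY.trans hHK).trans hHN))).trans
      ((pCoreOf_inf_le le_sup_right).trans (pCoreOf_le_of_normal (inf_le_right.trans hN) hHN))
  obtain ⟨T, hT, h9⟩ := exists_isSylowIn_ge (isPGroup_pCoreOf p M) hPK
  have hTN := hT.inf_of_normal hN hn
  have hfr := hTN.frattini hN hn
  have hTX : T ≤ K ⊓ normalizer ((T ⊓ N : Subgroup G) : Set G) :=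
    le_inf hT.le (le_normalizer_inf le_normalizer (hT.le.trans hn))
  have hX : ¬ K ≤ normalizer ((T ⊓ N : Subgroup G) : Set G) := fun h10 =>
    hc (pClosed_of_le_normalizer hTN (hN.trans h10))
  have hXK : K ⊓ normalizer ((T ⊓ N : Subgroup G) : Set G) ≤ K := inf_le_left
  have hX' : ¬ K ≤ K ⊓ normalizer ((T ⊓ N : Subgroup G) : Set G) := fun h10 =>
    hX (h10.trans inf_le_right)
  generalize K ⊓ normalizer ((T ⊓ N : Subgroup G) : Set G) = X at *
  have hOX : pCoreOf p K ≤ X := hT.pCoreOf_le.trans hTX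
  have h10 : H ⊓ X < H := lt_of_le_of_ne inf_le_left fun h11 =>
    hX' (hK.le.trans (sup_le (h1.trans hOX) (h11.ge.trans inf_le_right)))
  have h11 : largestPReducedOf p M ≤ pCoreOf p X :=
    (hF.min _ (le_inf hF.le (h9.trans hTX)) h10).trans
      (pCoreOf_le_of_normal inf_le_right (le_normalizer_inf (hXK.trans hKH) le_normalizer))
  have hOD : pCoreOf p K ≤ pCoreOf p X ⊓ stab N (pCoreOf p K) :=
    le_inf (pCoreOf_le_pCoreOf_of_le hXK hOX) (le_stab_iff.mpr ⟨le_normalizer,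
      commutator_le_right_of_le_normalizer (hN.trans hO)⟩)
  refine h5 ((le_inf h11 (le_stab_iff.mpr ⟨(hY.trans hHK).trans hO, h8⟩)).trans
    (le_pCoreOf ((isPGroup_pCoreOf p X).to_le inf_le_left)
      (inf_le_left.trans ((pCoreOf_le p X).trans hXK)) (hfr.ge.trans (sup_le ?_ ?_))))
  · refine le_normalizer_of_commutator_le le_rfl ?_
    rw [commutator_comm]
    exact ((commutator_mono le_rfl inf_le_right).trans (commutator_stab_le _ _)).trans hOD
  · exact le_normalizer_inf (le_normalizer_pCoreOf p X)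
      (le_normalizer_stab (hXK.trans hn) (hXK.trans hO))

end Cfsg.Agent.S2854
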