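import Cfsg.Statements.S2855
import Cfsg.Agent.H7.PMin

set_option autoImplicit false
open Cfsg

namespace Cfsg.Agent.S2855

open Subgroup Cfsg.H7
open Cfsg.L0 (SN)
open scoped commutatorElement

/-- Let H be a finite group, p a prime, and 𝒦 a nonempty set of subgroups of H permuted transitively by conjugation, with R the subgroup generated by the members of 𝒦. Suppose O^p(H) ≤ R, each E ∈ 𝒦 has E·O_p(H) normal in R·O_p(H), and each E ∈ 𝒦 is p-minimal (generated by the conjugates of a Sylow p-subgroup T_E of E, with T_E in exactly one maximal subgroup of E). Then H is p-minimal in the same sense. If instead each E ∈ 𝒦 is strongly p-irreducible, then H is p-irreducible and, for E, K ∈ 𝒦, either O^p(E·O_p(H)) = O^p(K·O_p(H)) or [E, K] ≤ O_p(H). -/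
theorem result {H : Type*} [Group H] [Finite H] {p : ℕ} [Fact p.Prime] (𝒦 : Set (Subgroup H)) (hne : 𝒦.Nonempty) (hinv : ∀ h : H, ∀ E ∈ 𝒦, E.map (MulAut.conj h).toMonoidHom ∈ 𝒦) (htr : ∀ E ∈ 𝒦, ∀ K ∈ 𝒦, ∃ h : H, K = E.map (MulAut.conj h).toMonoidHom) (hres : Cfsg.pResidual p H ≤ sSup 𝒦) (hnorm : ∀ E ∈ 𝒦, sSup 𝒦 ⊔ Cfsg.pCore p H ≤ Subgroup.normalizer ((E ⊔ Cfsg.pCore p H : Subgroup H) : Set H)) : ((∀ E ∈ 𝒦, ∀ T : Sylow p ↥E, Cfsg.IsMinimalOver (T : Subgroup ↥E)) → ∀ T : Sylow p H, Cfsg.IsMinimalOver (T : Subgroup H)) ∧ ((∀ E ∈ 𝒦, Cfsg.IsStronglyPIrreducible p ↥E) → Cfsg.IsPIrreducible p H ∧ ∀ E ∈ 𝒦, ∀ K ∈ 𝒦, (Cfsg.pResidual p ↥(E ⊔ Cfsg.pCore p H)).map (E ⊔ Cfsg.pCore p H).subtype = (Cfsg.pResidual p ↥(K ⊔ Cfsg.pCore p H)).map (K ⊔ Cfsg.pCore p H).subtype ∨ ⁅E, K⁆ ≤ Cfsg.pCore p H) := by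
  set Q := pCore p H with hQ
  set R := sSup 𝒦 ⊔ Q with hR
  have hQp : IsPGroup p Q := isPGroup_pCore p H
  have hRn : R.Normal := normal_of_forall_cj_le fun g => by
    rw [hR, cj_sup, cj_eq_of_normal g Q]
    refine sup_le_sup_right (cj_le_iff.mpr (sSup_le fun E hE => cj_le_iff.mp (le_sSup (hinv g E hE)))) _
  have hER : ∀ E ∈ 𝒦, E ⊔ Q ≤ R := fun E hE => sup_le_sup_right (le_sSup hE) _
  have hsn : ∀ E ∈ 𝒦, SN (E ⊔ Q) ⊤ := fun E hE =>
    (SN.of_normal (hER E hE) (hnorm E hE)).trans (SN.of_normal le_top le_normalizer_of_normal)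
  have hcj : ∀ g : H, ∀ E : Subgroup H, cj g (E ⊔ Q) = cj g E ⊔ Q := fun g E => by
    rw [cj_sup, cj_eq_of_normal g Q]
  have hTR : ∀ T : Sylow p H, (T : Subgroup H) ⊔ R = ⊤ := fun T => by
    rw [eq_top_iff, ← sylow_sup_pResidual T]; exact sup_le_sup_left (hres.trans le_sup_left) _
  have htr' : ∀ T : Sylow p H, ∀ E ∈ 𝒦, ∀ K ∈ 𝒦, ∃ t ∈ (T : Subgroup H), K ⊔ Q = cj t (E ⊔ Q) := by
    intro T E hE K hK
    obtain ⟨h, rfl⟩ := htr E hE K hK
    obtain ⟨t, ht, r, hr, rfl⟩ := (mem_sup_of_le_normalizer le_normalizer_of_normal).mp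
      ((hTR T).symm ▸ mem_top h)
    exact ⟨t, ht, by rw [map_conj_eq_cj, ← hcj, cj_mul, cj_eq_of_mem_normalizer (hnorm E hE hr)]⟩
  obtain ⟨E₀, hE₀⟩ := hne
  constructor
  · intro hmin T
    have hT := isSylowIn_top T
    have hex : ∀ E : Subgroup H, ∃ M, E ∈ 𝒦 → MinOver ((T : Subgroup H) ⊓ (E ⊔ Q)) (E ⊔ Q) M := by
      intro E
      by_cases hE : E ∈ 𝒦
      · obtain ⟨S⟩ := (inferInstance : Nonempty (Sylow p E))
        obtain ⟨M, hM⟩ := minOver_map_subtype_iff.mpr (hmin E hE S)
        have hS := isSylowIn_map_subtype S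
        obtain ⟨M', hM'⟩ := (hM.sup_isPGroup hS hQp le_normalizer_of_normal).of_sylow
          (hS.sup_isPGroup hQp le_normalizer_of_normal) (hT.inf_of_sn (hsn E hE))
        exact ⟨M', fun _ => hM'⟩
      · exact ⟨⊥, fun h => absurd h hE⟩
    choose mx hmx using hex
    have hmxcj : ∀ t ∈ (T : Subgroup H), ∀ E ∈ 𝒦, cj t (mx E) = mx (cj t E) := fun t ht E hE => by
      have h1 := (hmx E hE).cj t
      rw [cj_inf, cj_eq_of_mem ht, hcj] at h1
      exact h1.toUniqMax.unique (hmx _ (hinv t E hE)).toUniqMax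
    set D := R ⊓ ⨅ E : 𝒦, normalizer (mx E : Set H) with hD
    have hTD : (T : Subgroup H) ≤ normalizer (D : Set H) := by
      refine le_normalizer_inf le_normalizer_of_normal (le_normalizer_iff_cj.mpr fun t ht =>
        le_iInf fun E => ?_)
      have h1 := hmxcj t ht _ (hinv t⁻¹ E E.2)
      rw [map_conj_eq_cj, cj_cj_inv] at h1
      rw [← h1]
      exact cj_le_normalizer_cj t (iInf_le_of_le ⟨_, hinv t⁻¹ E E.2⟩ le_rfl)
    have hX : ∀ X : Subgroup H, (T : Subgroup H) ≤ X → X < ⊤ → R ⊓ X ≤ D := by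
      intro X h1 h2
      refine le_inf inf_le_left (le_iInf fun E => fun x hx => ?_)
      have h3 : ((E : Subgroup H) ⊔ Q) ⊓ X ≤ mx E := (hmx E E.2).inf_le (inf_le_left.trans h1) fun h3 => by
        refine h2.not_ge (by
          rw [← hTR T]
          refine sup_le h1 (sup_le (sSup_le fun K hK => ?_) (le_sup_right.trans h3))
          obtain ⟨t, ht, e⟩ := htr' T E E.2 K hK
          exact le_sup_left.trans (e ▸ cj_le_of_le' (h1 ht) h3))
      by_contra h4
      have h5 := (hmx E E.2).toUniqMax.cj x⁻¹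
      have hxn : x⁻¹ ∈ normalizer ((E ⊔ Q : Subgroup H) : Set H) := hnorm E E.2 (inv_mem hx.1)
      have h6 := h5.lt
      rw [cj_eq_of_mem_normalizer hxn] at h6
      refine h4 (inv_mem_iff.mp (mem_normalizer_of_cj_le ((hmx E E.2).max _ ?_ h6)))
      rw [← cj_le_iff]
      exact le_trans (le_inf (cj_le_of_le (hnorm E E.2 hx.1) inf_le_right)
        (cj_le_of_le' hx.2 (inf_le_left.trans h1))) h3
    refine minOver_top_iff.mp ⟨(T : Subgroup H) ⊔ D, ⟨le_sup_left, lt_top_iff_ne_top.mpr fun h1 => ?_,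
      fun X h1 h2 => ?_⟩, eq_top_iff.mpr ?_⟩
    · have h2 : R ≤ D := by
        have h3 := dedekind_right (inf_le_left : D ≤ R) hTD
        rw [sup_comm D, h1, top_inf_eq] at h3
        rw [h3]
        refine sup_le le_rfl (le_inf inf_le_right (le_iInf fun E t ht => ?_))
        have h4 := (hmx E E.2).toUniqMax.cj t
        rw [cj_inf, cj_eq_of_mem ht.1, cj_eq_of_mem_normalizer (hnorm E E.2 ht.2)] at h4
        exact mem_normalizer_iff_cj.mpr (h4.unique (hmx E E.2).toUniqMax)
      exact (hmx E₀ hE₀).not_le ((hmx E₀ hE₀).le_of_normal (hmx E₀ hE₀).le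
        ((hER E₀ hE₀).trans (h2.trans (inf_le_right.trans (iInf_le _ (⟨E₀, hE₀⟩ : 𝒦))))))
    · have h3 := dedekind_left h1 (le_normalizer_of_normal : (T : Subgroup H) ≤ normalizer (R : Set H))
      rw [hTR, top_inf_eq] at h3
      rw [h3]
      exact sup_le_sup_left (hX X h1 h2) _
    · conv_lhs => rw [← hTR T]
      refine sup_le le_sup_left (sup_le (sSup_le fun E hE => le_sup_left.trans
        ((hmx E hE).le_of_normal (inf_le_left.trans le_sup_left)
          (le_top.trans (le_normalizer_sup_commutator _ _)))) ((pCore_le_sylow T).trans le_sup_left))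
  · intro hs
    have hO : ∀ E ∈ 𝒦, pCoreOf p (E ⊔ Q) = Q := fun E hE => by
      rw [pCoreOf_eq_inf_of_sn (hsn E hE), pCoreOf_top, inf_eq_left.mpr le_sup_right]
    have hs' : ∀ E ∈ 𝒦, SPIrr p (E ⊔ Q) := fun E hE => by
      have hk : ∀ X : Subgroup H, IsPGroup p (X ⊓ (QuotientGroup.mk' Q).ker : Subgroup H) :=
        fun X => by rw [QuotientGroup.ker_mk']; exact hQp.to_inf_right
      rw [← sPIrr_map_iff (hk _), Subgroup.map_sup, (Subgroup.map_eq_bot_iff _).mpr
        (QuotientGroup.ker_mk' Q).ge, sup_bot_eq, sPIrr_map_iff (hk _), sPIrr_iff]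
      exact hs E hE
    -- the basic commutator argument
    have key : ∀ N D L : Subgroup H, pElementClosure p L = L → pCoreOf p L = Q → ⁅N, L⁆ ≤ D → D ≤ L →
        ⁅D, L⁆ ≤ Q → ⁅N, L⁆ ≤ Q := fun N D L h1 h2 h3 h4 h5 => by
      rw [← h1]
      refine commutator_pElementClosure_le h3 h5 le_normalizer_of_normal le_normalizer_of_normal
        fun w hw => ?_
      obtain ⟨m, k, h6, h7⟩ := exists_pow_coprime_isP (p := p) (orderOf_pos w).ne'
      refine ⟨m, h6, h2 ▸ le_pCoreOf_of_commutator_le (isPGroup_zpowers ⟨k, h7⟩)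
        (zpowers_le.mpr (h4 (pow_mem hw m))) (h2 ▸ (commutator_mono (zpowers_le.mpr (pow_mem hw m))
          le_rfl).trans h5) (mem_zpowers _)⟩
    have key2 : ∀ N : Subgroup H, ∀ E ∈ 𝒦, N ≤ R → E ⊔ Q ≤ normalizer (N : Set H) →
        pResidualOf p (E ⊔ Q) ≤ N ∨ ⁅N, E ⊔ Q⁆ ≤ Q := fun N E hE h1 h2 => by
      by_cases h3 : ⁅N ⊓ (E ⊔ Q), E ⊔ Q⁆ ≤ pCoreOf p (E ⊔ Q)
      · exact Or.inr (key N _ _ (hs' E hE).pIrr.pElementClosure_eq (hO E hE)
          (commutator_le_inf' h2 (h1.trans (hnorm E hE))) inf_le_right (h3.trans (hO E hE).le))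
      · exact Or.inl (((hs' E hE).le _ inf_le_right (le_normalizer_inf h2 le_normalizer) h3).trans
          inf_le_left)
    obtain ⟨T⟩ := (inferInstance : Nonempty (Sylow p H))
    have hT := isSylowIn_top T
    refine ⟨pIrr_top_iff.mp ⟨fun h1 => (hs' E₀ hE₀).1 (h1.mono le_top), fun N _ h1 h2 => ?_⟩,
      fun E hE K hK => ?_⟩
    · have := normal_of_le_normalizer_top h1
      by_cases h3 : ∃ E ∈ 𝒦, pResidualOf p (E ⊔ Q) ≤ N
      · obtain ⟨E, hE, h3⟩ := h3
        refine pResidualOf_le_of_le_sup (P := T) (le_top.trans ?_) T.isPGroup' le_normalizer_of_normal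
        rw [← hTR T]
        refine sup_le le_sup_right (sup_le (sSup_le fun K hK => (le_sup_left : K ≤ K ⊔ Q).trans ?_)
          (le_sup_of_le_right (pCore_le_sylow T)))
        rw [← (hT.inf_of_sn (hsn K hK)).sup_pResidualOf]
        obtain ⟨t, ht, e⟩ := htr' T E hE K hK
        refine sup_le (le_sup_of_le_right inf_le_left) (le_sup_of_le_left ?_)
        rw [e, ← cj_pResidualOf]
        exact cj_le_of_le (le_normalizer_of_normal (mem_top t)) h3
      · push Not at h3
        have h4 : ⁅N ⊓ R, R⁆ ≤ Q := by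
          refine commutator_sup_le le_normalizer_of_normal le_normalizer_of_normal ?_
            (commutator_le_right_of_le_normalizer le_normalizer_of_normal)
          rw [sSup_eq_iSup']
          exact commutator_iSup_le (fun _ => le_normalizer_of_normal) fun E =>
            (commutator_mono le_rfl le_sup_left).trans ((key2 _ E E.2 inf_le_right
              le_normalizer_of_normal).resolve_left fun h5 => h3 E E.2 (h5.trans inf_le_left))
        have h5 : ⁅N, R⁆ ≤ Q := key N _ R (le_antisymm (pElementClosure_le p R) (sup_le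
          (sSup_le fun E hE => le_sup_left.trans ((hs' E hE).pIrr.pElementClosure_eq.ge.trans
            (pElementClosure_mono (hER E hE)))) (le_pElementClosure hQp le_sup_right)))
          (by rw [pCoreOf_eq_inf_of_normal le_top le_normalizer_of_normal, pCoreOf_top,
            inf_eq_left.mpr le_sup_right])
          (commutator_le_inf' le_normalizer_of_normal le_normalizer_of_normal) inf_le_right h4
        refine absurd (pClosed_of_le_pCoreOf (hT.inf_of_normal le_top h1) (le_trans (le_inf ?_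
          inf_le_right) (pCore_inf_le N))) h2
        have h6 : ((T : Subgroup H) ⊓ N ⊔ Q).Normal := normal_of_le_normalizer_top (by
          rw [← hTR T]
          exact sup_le (le_normalizer_sup (le_normalizer_inf le_normalizer le_normalizer_of_normal)
            le_normalizer_of_normal) (le_normalizer_of_commutator_le le_rfl (le_sup_of_le_right
              (sup_commutator_le le_normalizer_of_normal le_normalizer_of_normal
                ((commutator_mono inf_le_right le_rfl).trans h5)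
                (commutator_le_left_of_le_normalizer le_normalizer_of_normal)))))
        exact le_sup_left.trans (le_pCore (isPGroup_sup le_normalizer_of_normal
          T.isPGroup'.to_inf_left hQp))
    · rcases key2 (K ⊔ Q) E hE (hER K hK) ((hER E hE).trans (hnorm K hK)) with h1 | h1
      · left
        obtain ⟨t, -, e⟩ := htr' T E hE K hK
        rw [pResidualOf_def, pResidualOf_def]
        refine eq_of_le_of_card_le (by
          rw [← pResidualOf_pResidualOf]; exact pResidualOf_mono h1) ?_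
        rw [e, ← cj_pResidualOf, card_cj]
      · right
        rw [commutator_comm]
        exact (commutator_mono le_sup_left le_sup_left).trans h1

end Cfsg.Agent.S2855
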