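import Cfsg.Statements.S2859
import Cfsg.Agent.H7.FrakM

set_option autoImplicit false
open Cfsg

namespace Cfsg.Agent.S2859

open Subgroup Cfsg.H7
open Cfsg.L0 (SN)
open scoped commutatorElement

theorem aux1 {G : Type*} [Group G] [Finite G] {p : ℕ} [Fact p.Prime] {Q K H₁ H₂ : Subgroup G}
    (hQ : IsPGroup p Q) (hgen : Q ⊔ ⁅K, Q⁆ = K) (h1 : H₁ ≤ K) (n1 : K ≤ normalizer (H₁ : Set G))
    (h2 : H₂ ≤ K) (n2 : K ≤ normalizer (H₂ : Set G))
    (hc : ⁅H₁, H₂⁆ ≤ normalizer (Q : Set G)) :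
    ⁅H₁, pElementClosure p H₂⁆ ≤ pCoreOf p K := by
  have hQK : Q ≤ K := le_sup_left.trans hgen.le
  have hD := le_normalizer_commutator n1 n2
  have hDK : ⁅H₁, H₂⁆ ≤ K := (commutator_le_left_of_le_normalizer (h2.trans n1)).trans h1
  have hO := le_normalizer_pCoreOf p K
  have h3 : ⁅⁅H₁, H₂⁆, K⁆ ≤ pCoreOf p K := by
    refine (le_stab_iff.mp (hgen.ge.trans (sup_commutator_le_of_normal (le_stab_iff.mpr
      ⟨hQK.trans hO, ?_⟩) (le_normalizer_stab hD hO)))).2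
    rw [commutator_comm]
    exact (commutator_le_pCoreOf_of_le_normalizer hQ hQK hD hc).trans inf_le_right
  refine commutator_pElementClosure_le le_rfl ((commutator_mono le_rfl h2).trans h3)
    (hDK.trans hO) (h2.trans hO) fun w hw => ?_
  obtain ⟨m, k, h4, h5⟩ := exists_pow_coprime_isP (p := p) (orderOf_pos w).ne'
  have h6 : zpowers (w ^ m) ≤ ⁅H₁, H₂⁆ := zpowers_le.mpr (pow_mem hw m)
  exact ⟨m, h4, le_pCoreOf_of_commutator_le (isPGroup_zpowers ⟨k, h5⟩) (h6.trans hDK)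
    ((commutator_mono h6 le_rfl).trans h3) (mem_zpowers _)⟩

theorem aux2 {G : Type*} [Group G] [Finite G] {p : ℕ} [Fact p.Prime] {Q K H₁ H₂ : Subgroup G}
    (hQ : IsPGroup p Q) (hgen : Q ⊔ ⁅K, Q⁆ = K) (h1 : H₁ ≤ K) (n1 : K ≤ normalizer (H₁ : Set G))
    (h2 : H₂ ≤ K) (n2 : K ≤ normalizer (H₂ : Set G)) (hprod : H₁ ⊔ H₂ = K)
    (hc : ⁅H₁, H₂⁆ ≤ normalizer (Q : Set G)) : ⁅H₁, H₂⁆ ≤ pCoreOf p K := by
  have hQK : Q ≤ K := le_sup_left.trans hgen.le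
  have hO := le_normalizer_pCoreOf p K
  have a1 := aux1 hQ hgen h1 n1 h2 n2 hc
  have a2 := aux1 hQ hgen h2 n2 h1 n1 (by rwa [commutator_comm])
  have m1 : K ≤ normalizer (pElementClosure p H₁ : Set G) :=
    n1.trans (normalizer_le_normalizer_pElementClosure p H₁)
  have m2 : K ≤ normalizer (pElementClosure p H₂ : Set G) :=
    n2.trans (normalizer_le_normalizer_pElementClosure p H₂)
  have l1 := pElementClosure_le p H₁
  have l2 := pElementClosure_le p H₂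
  have h3 : K ≤ pElementClosure p H₂ ⊔ pElementClosure p H₁ := by
    obtain ⟨T, hT, h4⟩ := exists_isSylowIn_ge hQ hQK
    have h5 := (hT.inf_of_normal h1 n1).sup (hT.inf_of_normal h2 n2) (h1.trans n2)
      (inf_le_left.trans (le_normalizer_inf le_normalizer (hT.le.trans n2)))
    rw [hprod] at h5
    have h6 := h5.max T hT.isPGroup (sup_le inf_le_left inf_le_left) hT.le
    refine hgen.ge.trans (sup_commutator_le_of_normal (h4.trans (h6.le.trans ?_))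
      (le_normalizer_sup m2 m1))
    rw [sup_comm]
    exact sup_le_sup (le_pElementClosure (hT.isPGroup.to_le inf_le_left) inf_le_right)
      (le_pElementClosure (hT.isPGroup.to_le inf_le_left) inf_le_right)
  have h4 : ⁅H₁ ⊓ H₂, K⁆ ≤ pCoreOf p K :=
    (commutator_mono le_rfl h3).trans (commutator_sup_le ((l2.trans h2).trans hO)
      ((l1.trans h1).trans hO) ((commutator_mono inf_le_left le_rfl).trans a1)
      ((commutator_mono inf_le_right le_rfl).trans a2))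
  have h5 : H₂ ≤ pElementClosure p H₂ ⊔ (H₁ ⊓ H₂) := by
    refine (le_inf (h2.trans h3) le_rfl).trans ?_
    rw [dedekind_left l2 ((l2.trans h2).trans m1)]
    exact sup_le_sup_left (inf_le_inf_right _ l1) _
  refine (commutator_mono le_rfl h5).trans (commutator_sup_le ((l2.trans h2).trans hO)
    ((inf_le_left.trans h1).trans hO) a1 ?_)
  rw [commutator_comm]
  exact (commutator_mono le_rfl h1).trans h4

theorem aux3 {G : Type*} [Group G] [Finite G] {p : ℕ} [Fact p.Prime] {Q K H₁ H₂ K₁ : Subgroup G}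
    (hQ : WC p Q ⊤) (hQK : Q ≤ K) (h1 : H₁ ≤ K) (n1 : K ≤ normalizer (H₁ : Set G))
    (h2 : H₂ ≤ K) (hprod : H₁ ⊔ H₂ = K) (hc : ⁅H₁, H₂⁆ ≤ pCoreOf p K)
    (hK : K₁ = pResidualOf p (weakClosure Q (H₁ ⊔ Q))) :
    (⁅K₁, Q⁆ = K₁ ∧ ⁅K₁, H₁⁆ = K₁ ∧ K₁ ≤ ⁅H₁, H₁⁆ ∧ K ≤ normalizer (K₁ : Set G)) ∧ K₁ ≤ H₁ ∧
      H₁ ≤ normalizer ((Q ⊔ K₁ : Subgroup G) : Set G) ∧ pResidualOf p K₁ = K₁ := by
  have hgen := hQ.gen (le_sup_right : Q ≤ H₁ ⊔ Q)
  have hW := hQ.weakClosure_sup (R := H₁)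
  have hO := le_normalizer_pCoreOf p K
  have hp := isPGroup_pCoreOf p K
  have e1 : ⁅K₁, Q⁆ = K₁ := hK ▸ commutator_pResidualOf_of_gen hgen hQ.isPGroup
  have e2 : Q ⊔ K₁ = weakClosure Q (H₁ ⊔ Q) := hK ▸ sup_pResidualOf_of_gen hgen
  have e3 : pResidualOf p K₁ = K₁ := hK ▸ pResidualOf_pResidualOf p _
  have e4 : K₁ ≤ H₁ := by
    rw [hK, hW]
    exact (pResidualOf_sup_le hQ.isPGroup
      (le_normalizer_commutator (hQK.trans n1) le_normalizer)).trans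
      (commutator_le_left_of_le_normalizer (hQK.trans n1))
  have e5 : H₁ ≤ normalizer (weakClosure Q (H₁ ⊔ Q) : Set G) :=
    le_normalizer_weakClosure Q (le_normalizer_of_le le_sup_left)
  have e6 : pCoreOf p K ≤ normalizer (K₁ : Set G) := by
    rw [hK, hW]
    exact le_normalizer_pResidualOf' p (le_normalizer_sup_commutator_of_normal
      (hQ.pCoreOf_le_normalizer hQK le_top) (h1.trans hO))
  have e7 : ⁅K₁, H₂⁆ ≤ pCoreOf p K := (commutator_mono e4 le_rfl).trans hc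
  have e8 : H₁ ≤ normalizer (K₁ : Set G) := hK ▸ le_normalizer_pResidualOf' p e5
  have e9 : K ≤ normalizer (K₁ : Set G) := by
    refine hprod.ge.trans (sup_le e8 ?_)
    rw [← e3, ← pResidualOf_sup_eq hp e6]
    refine le_normalizer_pResidualOf' p (le_normalizer_of_commutator_le le_rfl ?_)
    refine sup_commutator_le (le_normalizer_of_le le_sup_left) (le_normalizer_of_le le_sup_right)
      ((commutator_le_left_of_le_normalizer (h2.trans hO)).trans le_sup_left) (e7.trans le_sup_left)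
  have e10 : ⁅K₁, H₁⁆ = K₁ := by
    refine le_antisymm (commutator_le_left_of_le_normalizer e8) (e3.ge.trans
      (pResidualOf_le_of_le_sup ?_ hp ((pCoreOf_le p K).trans (le_normalizer_commutator e9 n1))))
    have hn := le_normalizer_sup (le_normalizer_commutator e9 n1) hO
    rw [e3]
    refine e1.ge.trans ((commutator_mono le_rfl (hQK.trans hprod.ge)).trans ?_)
    exact commutator_sup_le (h1.trans hn) (h2.trans hn) le_sup_left (e7.trans le_sup_right)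
  exact ⟨⟨e1, e10, e10.ge.trans (commutator_mono e4 le_rfl), e9⟩, e4, e2 ▸ e5, e3⟩

/-- Let Q be a nontrivial p-subgroup of the finite group H that is a weakly closed subgroup, H° the weak closure of Q in H (generated by the conjugates of Q) and H_∘ = O^p(H°). Suppose H₁, H₂ are normal subgroups of H° with H° = H₁H₂ and [H₁, H₂] ≤ N_H(Q), and put Kᵢ = O^p of the weak closure of Q in HᵢQ. Then for i = 1, 2: Kᵢ = [Kᵢ, Q] = [Kᵢ, Hᵢ] ≤ Hᵢ′ and Kᵢ is normal in H°; H_∘ = K₁K₂; and [K₁, K₂] ≤ O_p(H°). -/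
theorem result {G : Type*} [Group G] [Finite G] {p : ℕ} [Fact p.Prime] (Q : Subgroup G) (hQp : IsPGroup p ↥Q) (hQ1 : Q ≠ ⊥) (hwc : Cfsg.IsWeaklyClosedSubgroup p Q) (Hc : Subgroup G) (hHc : Hc = Cfsg.weakClosure Q ⊤) (H₁ H₂ : Subgroup G) (hn₁ : H₁ ≤ Hc ∧ Hc ≤ Subgroup.normalizer ((H₁ : Subgroup G) : Set G)) (hn₂ : H₂ ≤ Hc ∧ Hc ≤ Subgroup.normalizer ((H₂ : Subgroup G) : Set G)) (hprod : H₁ ⊔ H₂ = Hc) (hcomm : ⁅H₁, H₂⁆ ≤ Subgroup.normalizer ((Q : Subgroup G) : Set G)) (K₁ K₂ : Subgroup G) (hK₁ : K₁ = ((Cfsg.pResidual p ↥(Cfsg.weakClosure Q (H₁ ⊔ Q))).map ((Cfsg.weakClosure Q (H₁ ⊔ Q))).subtype)) (hK₂ : K₂ = ((Cfsg.pResidual p ↥(Cfsg.weakClosure Q (H₂ ⊔ Q))).map ((Cfsg.weakClosure Q (H₂ ⊔ Q))).subtype)) : (⁅K₁, Q⁆ = K₁ ∧ ⁅K₁, H₁⁆ = K₁ ∧ K₁ ≤ ⁅H₁, H₁⁆ ∧ Hc ≤ Subgroup.normalizer ((K₁ : Subgroup G) : Set G)) ∧ (⁅K₂, Q⁆ = K₂ ∧ ⁅K₂, H₂⁆ = K₂ ∧ K₂ ≤ ⁅H₂, H₂⁆ ∧ Hc ≤ Subgroup.normalizer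 ((K₂ : Subgroup G) : Set G)) ∧ K₁ ⊔ K₂ = ((Cfsg.pResidual p ↥Hc).map (Hc).subtype) ∧ ⁅K₁, K₂⁆ ≤ (Cfsg.pCoreOf p Hc) := by
  have hw := wc_top_iff.mpr hwc
  have hgen := hw.gen (le_top : Q ≤ ⊤)
  rw [← hHc] at hgen
  have hQK : Q ≤ Hc := le_sup_left.trans hgen.le
  have h1 := aux2 hQp hgen hn₁.1 hn₁.2 hn₂.1 hn₂.2 hprod hcomm
  obtain ⟨a1, a2, a3, a4⟩ := aux3 hw hQK hn₁.1 hn₁.2 hn₂.1 hprod h1 hK₁
  obtain ⟨b1, b2, b3, b4⟩ := aux3 hw hQK hn₂.1 hn₂.2 hn₁.1 (by rw [sup_comm, hprod])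
    (by rwa [commutator_comm]) hK₂
  refine ⟨a1, b1, le_antisymm (sup_le (a4.ge.trans (pResidualOf_mono (a2.trans hn₁.1)))
    (b4.ge.trans (pResidualOf_mono (b2.trans hn₂.1)))) ?_, (commutator_mono a2 b2).trans h1⟩
  have h2 : Hc ≤ Q ⊔ (K₁ ⊔ K₂) := by
    refine hgen.ge.trans (sup_commutator_le_of_normal le_sup_left (hprod.ge.trans (sup_le ?_ ?_)))
    · rw [← sup_assoc]; exact le_normalizer_sup a3 (hn₁.1.trans b1.2.2.2)
    · rw [sup_comm K₁, ← sup_assoc]; exact le_normalizer_sup b3 (hn₂.1.trans a1.2.2.2)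
  exact (pResidualOf_mono h2).trans
    (pResidualOf_sup_le hQp (hQK.trans (le_normalizer_sup a1.2.2.2 b1.2.2.2)))

end Cfsg.Agent.S2859
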