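import Cfsg.Statements.S2860
import Cfsg.Agent.H7.FrakM

set_option autoImplicit false
open Cfsg

namespace Cfsg.Agent.S2860

open Subgroup Cfsg.H7
open Cfsg.L0 (SN)
open scoped commutatorElement

theorem qs_quot {G X : Type*} [Group G] [Group X] {R N : Subgroup G} [(N.subgroupOf R).Normal]
    (f : R →* X) (h : L0.QS ((⊤ : Subgroup R).map f)) (hR : ⁅R, R⁆ = R) (hN : ¬ R ≤ N)
    (hk : ⁅f.ker, (⊤ : Subgroup R)⁆ ≤ N.subgroupOf R) : IsQuasisimple (R ⧸ N.subgroupOf R) := by
  have hs := QuotientGroup.mk'_surjective (N.subgroupOf R)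
  have hT : ⁅(⊤ : Subgroup R), (⊤ : Subgroup R)⁆ = ⊤ := by
    apply map_injective R.subtype_injective
    rw [map_commutator, map_top_subtype, hR]
  have hT' : ⁅(⊤ : Subgroup (R ⧸ N.subgroupOf R)), (⊤ : Subgroup (R ⧸ N.subgroupOf R))⁆ = ⊤ := by
    rw [← map_top_of_surjective _ hs, ← map_commutator, hT]
  have hk' : ⁅f.ker.map (QuotientGroup.mk' (N.subgroupOf R)),
      (⊤ : Subgroup (R ⧸ N.subgroupOf R))⁆ = ⊥ := by
    rw [← map_top_of_surjective _ hs, ← map_commutator, Subgroup.map_eq_bot_iff,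
      QuotientGroup.ker_mk']
    exact hk
  refine L0.qs_top_iff.mp ⟨?_, hT', fun A _ hA => ?_⟩
  · rw [← map_top_of_surjective _ hs, ne_eq, Subgroup.map_eq_bot_iff, QuotientGroup.ker_mk']
    exact fun h1 => hN fun x hx => h1 (mem_top ⟨x, hx⟩)
  · haveI : A.Normal := normal_of_le_normalizer_top hA
    have hA' := map_comap_eq_self_of_surjective hs A
    rcases h.2.2 ((A.comap (QuotientGroup.mk' (N.subgroupOf R))).map f) (map_mono le_top)
      (map_le_normalizer_map f le_normalizer_of_normal) with h1 | h1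
    · left
      refine top_unique (L0.le_of_perfect_of_le_sup_central hT'
        (Z := f.ker.map (QuotientGroup.mk' (N.subgroupOf R))) ?_ (L0.comm_bot_mono hk' le_rfl le_top))
      have h2 := le_of_map_le_map h1.ge le_top le_top
      rw [top_inf_eq] at h2
      rw [← map_top_of_surjective _ hs]
      conv_rhs => rw [← hA', ← Subgroup.map_sup]
      exact map_mono h2
    · right
      refine L0.comm_bot_of_perfect hT' (L0.comm_bot_mono hk' ?_ le_rfl)
      rw [← map_commutator, Subgroup.map_eq_bot_iff] at h1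
      rw [← map_top_of_surjective _ hs]
      conv_lhs => rw [← hA', ← map_commutator]
      exact map_mono h1

/-- Let Q be a nontrivial large p-subgroup of the finite group H, U a nontrivial elementary abelian p-subgroup of H, and Q ≤ E ≤ N_H(U) with Q not normal in E. Suppose O_p(E/C_E(U)) = 1 and O^p(E)·C_E(U)/C_E(U) is quasisimple. Let E° be the weak closure of Q in E (generated by the conjugates of Q inside E) and E_∘ = O^p(E°). Then O^p(E)·C_E(U) = E_∘·C_E(U); E_∘ is perfect and equals O^p(E_∘); E_∘/C_{E_∘}(U) and E_∘/O_p(E_∘) are quasisimple; and E_∘ = [E_∘, Y] for every p-subgroup Y of E not centralizing U. -/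
theorem result {G : Type*} [Group G] [Finite G] {p : ℕ} [Fact p.Prime] (Q : Subgroup G) (hQp : IsPGroup p ↥Q) (hQ1 : Q ≠ ⊥) (hQ : Cfsg.IsLarge Q) (U : Subgroup G) (hU : Cfsg.IsElementaryAbelian p U) (hU1 : U ≠ ⊥) (E : Subgroup G) (hQE : Q ≤ E) (hEU : E ≤ Subgroup.normalizer ((U : Subgroup G) : Set G)) (hQn : ¬ E ≤ Subgroup.normalizer ((Q : Subgroup G) : Set G)) [hn : ((Subgroup.centralizer ((U : Subgroup G) : Set G)).subgroupOf E).Normal] (hred : Cfsg.pCore p (↥E ⧸ (Subgroup.centralizer ((U : Subgroup G) : Set G)).subgroupOf E) = ⊥) (hqs : Cfsg.IsQuasisimple ↥(((Cfsg.pResidual p ↥E) ⊔ (Subgroup.centralizer ((U : Subgroup G) : Set G)).subgroupOf E).map (QuotientGroup.mk' ((Subgroup.centralizer ((U : Subgroup G) : Set G)).subgroupOf E)))) (Er : Subgroup G) (hEr : Er = ((Cfsg.pResidual p ↥(Cfsg.weakClosure Q E)).map ((Cfsg.weakClosure Q E)).subtype)) [hn2 : ((Subgroup.centralizer ((U : Subgroup G) : Set G)).subgroupOf Er).Normal] : ((Cfsg.pResidual p ↥E).map (E).subtype) ⊔ (E ⊓ Subgroup.centralizer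 ((U : Subgroup G) : Set G)) = Er ⊔ (E ⊓ Subgroup.centralizer ((U : Subgroup G) : Set G)) ∧ ⁅Er, Er⁆ = Er ∧ ((Cfsg.pResidual p ↥Er).map (Er).subtype) = Er ∧ Cfsg.IsQuasisimple (↥Er ⧸ (Subgroup.centralizer ((U : Subgroup G) : Set G)).subgroupOf Er) ∧ Cfsg.IsQuasisimple (↥Er ⧸ Cfsg.pCore p ↥Er) ∧ ∀ Y : Subgroup G, Y ≤ E → IsPGroup p ↥Y → ¬ Y ≤ Subgroup.centralizer ((U : Subgroup G) : Set G) → ⁅Er, Y⁆ = Er := by
  have hw := large_wc hQ hQp
  have hUp := ea_isPGroup hU
  have hgen := hw.gen hQE
  have hWE := weakClosure_le Q E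
  have hc := large_commutator_weakClosure hQ hQp hUp hU1 hEU
  have hnW : E ≤ normalizer (weakClosure Q E : Set G) := le_normalizer_weakClosure Q le_normalizer
  have hW := hw.weakClosure_eq hQE
  rw [pResidualOf_def] at hEr
  rw [pResidualOf_def, pResidualOf_def]
  have e1 : ⁅Er, Q⁆ = Er := hEr ▸ commutator_pResidualOf_of_gen hgen hQp
  have e3 : pResidualOf p Er = Er := hEr ▸ pResidualOf_pResidualOf p _
  have hnR : E ≤ normalizer (Er : Set G) := hEr ▸ le_normalizer_pResidualOf' p hnW
  have hRW : Er ≤ weakClosure Q E := hEr ▸ pResidualOf_le p _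
  have hRE := hRW.trans hWE
  have hQC : ¬ Q ≤ centralizer (U : Set G) := fun h1 =>
    hQn (hEU.trans (hQ.2 U (le_centralizer_iff.mp h1) hU1))
  obtain ⟨f, hf⟩ : ∃ f, f = QuotientGroup.mk' ((centralizer (U : Set G)).subgroupOf E) := ⟨_, rfl⟩
  have hs : Function.Surjective f := hf ▸ QuotientGroup.mk'_surjective _
  have hker : f.ker = (centralizer (U : Set G)).subgroupOf E := hf ▸ QuotientGroup.ker_mk' _
  have hO : pCoreOf p (⊤ : Subgroup (E ⧸ (centralizer (U : Set G)).subgroupOf E)) = ⊥ := by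
    rw [pCoreOf_top, hred]
  have hq : L0.QS (pResidualOf p (⊤ : Subgroup (E ⧸ (centralizer (U : Set G)).subgroupOf E))) := by
    rw [← hf, Subgroup.map_sup, map_pResidual hs, (Subgroup.map_eq_bot_iff _).mpr hker.ge,
      sup_bot_eq] at hqs
    rw [pResidualOf_top]
    exact L0.qs_iff.mpr hqs
  have him : ∀ Y : Subgroup G, Y ≤ E → IsPGroup p Y → ¬ Y ≤ centralizer (U : Set G) →
      ⁅pResidualOf p ⊤, (Y.subgroupOf E).map f⁆ = pResidualOf p ⊤ := fun Y h1 h2 h3 =>
    commutator_eq_of_qs hO hq ((isPGroup_subgroupOf h2 E).map f) le_top (by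
      rw [ne_eq, Subgroup.map_eq_bot_iff, hker]
      exact fun h4 => h3 fun x hx => h4 (show (⟨x, h1 hx⟩ : E) ∈ Y.subgroupOf E from hx))
  have hback : ∀ A B : Subgroup G, A ≤ E → B ≤ E →
      (A.subgroupOf E).map f ≤ (B.subgroupOf E).map f → A ≤ B ⊔ (E ⊓ centralizer (U : Set G)) := by
    intro A B h1 h2 h3
    have h4 := map_mono (f := E.subtype) (le_of_map_le_map h3 le_top le_top)
    rwa [top_inf_eq, hker, Subgroup.map_sup, map_subgroupOf_eq_of_le h1,
      map_subgroupOf_eq_of_le h2, subgroupOf_map_subtype, inf_comm] at h4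
  have hR : (Er.subgroupOf E).map f = pResidualOf p ⊤ := by
    rw [hEr, ← pResidualOf_subgroupOf_eq hWE, map_pResidualOf]
    refine pResidualOf_eq_of_le ((him Q hQE hQp hQC).ge.trans ?_) le_top
    refine (commutator_mono le_top le_rfl).trans ?_
    rw [← map_top_of_surjective _ hs, ← map_commutator, ← subgroupOf_self,
      commutator_subgroupOf le_rfl hQE, hW]
    exact map_mono (comap_mono le_sup_right)
  have hE : ((pResidualOf p E).subgroupOf E).map f = pResidualOf p ⊤ := by
    rw [pResidualOf_subgroupOf, map_pResidual hs, pResidualOf_top]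
  have hOW := le_normalizer_pCoreOf p (weakClosure Q E)
  have key : ∀ N X : Subgroup G, N ≤ Er → Er ≤ normalizer (N : Set G) → ⁅Er, X⁆ = Er →
      X ≤ weakClosure Q E → X ≤ normalizer (N : Set G) →
      (Er.subgroupOf E).map f ≤ (N.subgroupOf E).map f → Er ≤ N := by
    intro N X h1 h2 h3 h4 h5 h6
    have h7 := le_inf (hback _ _ hRE (h1.trans hRE) h6) le_rfl
    rw [dedekind_left h1 ((h1.trans hRE).trans
      (le_normalizer_inf le_normalizer (le_normalizer_centralizer hEU)))] at h7
    have hp : IsPGroup p (pCoreOf p (weakClosure Q E) ⊓ Er : Subgroup G) :=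
      (isPGroup_pCoreOf p _).to_le inf_le_left
    have hn1 := le_normalizer_sup h2 (le_normalizer_inf (hRW.trans hOW) le_normalizer)
    refine e3.ge.trans (pResidualOf_le_of_le_sup ?_ hp (inf_le_right.trans h2))
    rw [e3]
    refine h3.ge.trans ((commutator_mono h7 le_rfl).trans (sup_commutator_le (h1.trans hn1)
      (inf_le_right.trans hn1) ((commutator_le_left_of_le_normalizer h5).trans le_sup_left)
      (le_trans (le_inf ?_ ((commutator_mono inf_le_right le_rfl).trans h3.le)) le_sup_right)))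
    rw [commutator_comm]
    exact (commutator_mono h4 (inf_le_left.trans inf_le_right)).trans hc
  have hperf : ⁅Er, Er⁆ = Er := by
    have h1 := le_normalizer_commutator hnR hnR
    refine le_antisymm (commutator_le_left_of_le_normalizer le_normalizer)
      (key _ Q (commutator_le_left_of_le_normalizer le_normalizer) (hRE.trans h1) e1
        (le_weakClosure hQE) (hQE.trans h1) ?_)
    rw [← commutator_subgroupOf hRE hRE, map_commutator, hR, hq.perfect]
  have hRC : ¬ Er ≤ centralizer (U : Set G) := fun h1 => hq.ne_bot (by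
    rw [← hR, Subgroup.map_eq_bot_iff, hker]; exact comap_mono h1)
  have hf' : L0.QS ((⊤ : Subgroup Er).map (f.comp (inclusion hRE))) := by
    rw [← map_map, ← MonoidHom.range_eq_map, inclusion_range, hR]; exact hq
  have hker' : (f.comp (inclusion hRE)).ker = (centralizer (U : Set G)).subgroupOf Er := by
    rw [← MonoidHom.comap_ker, hker]; rfl
  refine ⟨le_antisymm (sup_le (hback _ _ (pResidualOf_le p E) hRE (by rw [hR, hE])) le_sup_right)
    (sup_le (hback _ _ hRE (pResidualOf_le p E) (by rw [hR, hE])) le_sup_right), hperf, e3,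
    qs_quot _ hf' hperf hRC (by rw [hker']; exact commutator_le_left _ _), ?_,
    fun Y h1 h2 h3 => ?_⟩
  · haveI : ((pCoreOf p Er).subgroupOf Er).Normal := by rw [pCoreOf_subgroupOf]; infer_instance
    have h1 := qs_quot (N := pCoreOf p Er) _ hf' hperf (fun h1 => hRC ?_) ?_
    · exact (L0.isQuasisimple_congr
        (QuotientGroup.quotientMulEquivOfEq (pCoreOf_subgroupOf p Er))).mp h1
    · exact (qRed_iff_pCore_quotient.mpr hred).le_of_isPGroup hRE hnR
        ((isPGroup_pCoreOf p Er).to_le h1)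
    · rw [hker', ← subgroupOf_self, ← inf_subgroupOf_right, commutator_subgroupOf inf_le_right le_rfl]
      refine comap_mono ((le_inf ?_ ((commutator_mono inf_le_right le_rfl).trans hperf.le)).trans
        (pCoreOf_inf_le hRW))
      rw [commutator_comm]
      exact (commutator_mono hRW inf_le_left).trans hc
  · have h4 : ⁅Er, Y⁆ ≤ Er := commutator_le_left_of_le_normalizer (h1.trans hnR)
    have h5 : Er ≤ normalizer ((⁅Er, Y⁆ : Subgroup G) : Set G) := normalizer_commutator_ge_left _ _
    refine le_antisymm h4 (key _ Er h4 h5 hperf hRW h5 ?_)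
    rw [← commutator_subgroupOf hRE h1, map_commutator, hR, him Y h1 h2 h3]

end Cfsg.Agent.S2860
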