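import Cfsg.Statements.S2861
import Cfsg.Agent.H7.RK

set_option autoImplicit false
open Cfsg

namespace Cfsg.Agent.S2861

open Subgroup Cfsg.H7
open Cfsg.L0 (SN)
open scoped commutatorElement

/-- Standing hypotheses: G a finite group, S a Sylow p-subgroup, Q a nontrivial large p-subgroup of G contained in S, M a subgroup containing S with the basic property (M ∈ 𝔐_G(S)); Y_M the largest p-reduced normal subgroup of M and M† = M·C_G(Y_M). Let L ∈ 𝔏_G(Y_M) (L ∈ 𝔏_G(Y_M): Y_M ≤ L; O_p(L) is the normal closure in L of Y_M ∩ O_p(L) and normalizes Y_M; L is Y_M-minimal of characteristic p with N_L(Y_M) its unique maximal subgroup over Y_M; and L/O_p(L) ≅ SL₂(q) with q = |Y_M : Y_M ∩ O_p(L)|, or p = 2 and L/O_p(L) is a Suzuki group Sz(q) or dihedral of order 2r, r an odd prime) and A = O_p(L). Then Y_M·A/A is the unique nontrivial elementary abelian normal p-subgroup of N_L(Y_M)/A. -/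
theorem result {G : Type*} [Group G] [Finite G] {p : ℕ} [Fact p.Prime] (S : Sylow p G) (Q : Subgroup G) (hQp : IsPGroup p ↥Q) (hQ1 : Q ≠ ⊥) (hQS : Q ≤ (S : Subgroup G)) (hQ : Cfsg.IsLarge Q) (M : Subgroup G) (hSM : (S : Subgroup G) ≤ M) (hM : Cfsg.IsInFrakM p M) (L : Subgroup G) (hL : Cfsg.IsInFrakL p M L) (NL : Subgroup G) (hNL : NL = L ⊓ Subgroup.normalizer (((Cfsg.largestPReducedOf p M) : Subgroup G) : Set G)) [hn : (((Cfsg.pCoreOf p L)).subgroupOf NL).Normal] : let Ybar : Subgroup (↥NL ⧸ ((Cfsg.pCoreOf p L)).subgroupOf NL) := (((Cfsg.largestPReducedOf p M)).subgroupOf NL).map (QuotientGroup.mk' (((Cfsg.pCoreOf p L)).subgroupOf NL)); Ybar ≠ ⊥ ∧ Ybar.Normal ∧ Cfsg.IsElementaryAbelian p Ybar ∧ ∀ (V : Subgroup (↥NL ⧸ ((Cfsg.pCoreOf p L)).subgroupOf NL)), V.Normal → Cfsg.IsElementaryAbelian p V → V ≠ ⊥ → V = Ybar := by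
  intro Ybar
  obtain ⟨hZ, hne⟩ := rk_of_frakL hL
  obtain ⟨h1, h2, h3, h4, -, h6, -⟩ := hL
  have hY := pRed_Y p M
  have hNLL : NL ≤ L := hNL ▸ inf_le_left
  have hNLY : NL ≤ normalizer (largestPReducedOf p M : Set G) := hNL ▸ inf_le_right
  have hYN : largestPReducedOf p M ≤ NL := hNL ▸ le_inf h1 le_normalizer
  have hAN : pCoreOf p L ≤ NL := hNL ▸ le_inf (pCoreOf_le p L) h3
  obtain ⟨L₀, h7⟩ := (minOver_iff_subgroupOf h1).mpr h4
  have h8 : L₀ = NL := h7.toUniqMax.unique (hNL ▸ ⟨le_inf h1 le_normalizer, h6.1, h6.2⟩)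
  rw [h8] at h7
  have e : (pCoreOf p L).subgroupOf NL = (pCore p L).comap (inclusion hNLL) := by
    rw [← pCoreOf_subgroupOf]; rfl
  obtain ⟨ψ, hψ⟩ : ∃ ψ, ψ = QuotientGroup.map _ _ (inclusion hNLL) e.le := ⟨_, rfl⟩
  have h9 : ψ.comp (QuotientGroup.mk' _) = (QuotientGroup.mk' _).comp (inclusion hNLL) := by
    rw [hψ]; ext; rfl
  have h10 : Function.Injective ψ := by
    rw [← MonoidHom.ker_eq_bot_iff, hψ, QuotientGroup.ker_map, ← e, Subgroup.map_eq_bot_iff,
      QuotientGroup.ker_mk']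
  have h11 : Ybar.map ψ =
      ((largestPReducedOf p M).subgroupOf L).map (QuotientGroup.mk' (pCore p L)) := by
    rw [map_map, h9, ← map_map]
    congr 1
    ext x
    exact ⟨fun ⟨y, hy, h⟩ => h ▸ hy, fun hx => ⟨⟨x, hYN hx⟩, hx, rfl⟩⟩
  haveI : ((largestPReducedOf p M).subgroupOf NL).Normal :=
    (normal_subgroupOf_iff_le_normalizer hYN).mpr hNLY
  have hn' : Ybar.Normal := Normal.map this _ (QuotientGroup.mk'_surjective _)
  have h12 : (⊤ : Subgroup _).map ψ = normalizer (Ybar.map ψ : Set (L ⧸ pCore p L)) := by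
    refine le_antisymm (map_le_normalizer_map ψ le_normalizer_of_normal) fun x hx => ?_
    obtain ⟨x, rfl⟩ := QuotientGroup.mk'_surjective _ x
    have h13 : (x : G) ∈ NL := by
      refine h7.inf_normalizer_le le_sup_left (sup_le hYN hAN) ⟨x.2, mem_normalizer_of_cj_le ?_⟩
      rw [h11, mem_normalizer_iff_cj, ← map_cj] at hx
      have h14 := map_mono (f := L.subtype) (le_of_map_le_map hx.le le_top le_top)
      rw [map_cj, top_inf_eq, QuotientGroup.ker_mk', Subgroup.map_sup,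
        map_subgroupOf_eq_of_le h1, pCoreOf_def] at h14
      rw [cj_sup, cj_eq_of_mem_normalizer (le_normalizer_pCoreOf p L x.2)]
      exact sup_le h14 le_sup_right
    exact ⟨QuotientGroup.mk' _ ⟨x, h13⟩, mem_top _, DFunLike.congr_fun h9 ⟨x, h13⟩⟩
  rw [← h11] at hZ
  refine ⟨fun h13 => hne ?_, hn', ea_map (ea_subgroupOf hY.ea NL) _, fun V h13 h14 h15 => ?_⟩
  · rw [Subgroup.map_eq_bot_iff, QuotientGroup.ker_mk'] at h13
    exact fun x hx => h13 (show (⟨x, hYN hx⟩ : NL) ∈ _ from hx)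
  · refine map_injective h10 (hZ.irr _ (fun x hx => hZ.mem x (h12.le (map_mono le_top hx))
      ((isElementaryAbelian_iff.mp (ea_map h14 ψ)).2 x hx)) ?_
      (h12.ge.trans (map_le_normalizer_map ψ le_normalizer_of_normal)))
    rwa [ne_eq, map_eq_bot_iff_of_injective _ h10]

end Cfsg.Agent.S2861
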