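import Cfsg.Statements.S2862
import Cfsg.Agent.H7.FrakM

set_option autoImplicit false
open Cfsg

namespace Cfsg.Agent.S2862

open Subgroup Cfsg.H7
open Cfsg.L0 (SN)
open scoped commutatorElement

theorem aux1 {G : Type*} [Group G] [Finite G] {p : ℕ} [Fact p.Prime] {H L P Y N : Subgroup G}
    {g : G} (hH : IsCharP p H) (hw : WC p P ⊤) (hPH : P ≤ H) (hPY : P ≤ centralizer (Y : Set G))
    (hNP : normalizer (P : Set G) ≤ normalizer (Y : Set G)) (hY : Y ≤ centralizer (Y : Set G))
    (hLH : L ≤ H) (hg : g ∈ L) (hgen : Y ⊔ cj g Y = L) (hN : N ≤ L)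
    (hc : ∀ n ∈ N, cj n Y ≤ centralizer (Y : Set G)) : N ≤ normalizer (Y : Set G) := by
  have hEP := hw.pCoreOf_le_normalizer hPH le_top
  have hHE := le_normalizer_pCoreOf p H
  have hEp := isPGroup_pCoreOf p H
  have hEH := pCoreOf_le p H
  have hE := hH
  rw [IsCharP] at hE
  generalize pCoreOf p H = E at *
  have hEY := hEP.trans hNP
  have hYL : Y ≤ L := le_sup_left.trans hgen.le
  have hZY : ⁅E, Y⁆ ≤ Y := commutator_le_right_of_le_normalizer hEY
  have hZE : ⁅E, Y⁆ ≤ E := commutator_le_left_of_le_normalizer ((hYL.trans hLH).trans hHE)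
  have hq : ⁅⁅E, Y⁆, Y⁆ = ⊥ := commutator_eq_bot_iff'.mpr (hY.trans (centralizer_anti hZY))
  have h1 := quad_inf_centralizer (hLH.trans hHE) hg hq hgen
  have h2 := quad_centralizer_le (hLH.trans hHE) hg hq hgen
  have hNE : N ≤ normalizer (E : Set G) := (hN.trans hLH).trans hHE
  have hNZ : N ≤ normalizer ((⁅E, Y⁆ : Subgroup G) : Set G) := le_normalizer_iff_cj.mpr fun n hn => by
    refine le_trans (le_inf ?_ ((cj_mono hZY).trans (hc n hn))) h1.le
    rw [cj_commutator, cj_eq_of_mem_normalizer (hNE hn)]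
    exact commutator_mono le_rfl (cj_le_of_le' (hN hn) hYL)
  have hZC : ⁅E, Y⁆ ≤ E ⊓ centralizer (Y : Set G) := le_inf hZE (hZY.trans hY)
  have hCN : ⁅E ⊓ centralizer (Y : Set G), N⁆ ≤ ⁅E, Y⁆ :=
    (commutator_mono h2 le_rfl).trans (sup_commutator_le
      (inf_le_left.trans (normalizer_commutator_ge_left _ _)) le_normalizer
      (commutator_le_of_le_centralizer (hN.trans (le_centralizer_iff.mp inf_le_right)))
      (commutator_le_left_of_le_normalizer hNZ))
  have hNC : N ≤ normalizer ((E ⊓ centralizer (Y : Set G) : Subgroup G) : Set G) :=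
    le_normalizer_of_commutator_le le_rfl (hCN.trans hZC)
  have hPE : P ≤ normalizer (E : Set G) := hPH.trans hHE
  have hPC : P ≤ normalizer ((E ⊓ centralizer (Y : Set G) : Subgroup G) : Set G) :=
    le_normalizer_inf hPE (le_normalizer_of_le hPY)
  have hPZ : P ≤ centralizer ((⁅E, Y⁆ : Subgroup G) : Set G) := hPY.trans (centralizer_anti hZY)
  have h3 : ∀ n ∈ N, E ⊓ centralizer (Y : Set G) ≤ centralizer (cj n Y : Set G) := fun n hn => by
    have := cj_le_centralizer_cj n (inf_le_right : E ⊓ centralizer (Y : Set G) ≤ _)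
    rwa [cj_eq_of_mem_normalizer (hNC hn)] at this
  have h4 : ∀ n ∈ N, ⁅cj n Y, P⁆ ≤ E ⊓ centralizer (Y : Set G) := fun n hn => by
    refine le_inf (le_trans (le_inf ?_ (le_centralizer_iff.mp (le_centralizer_of_commutator_le_bot
      (three_subgroups le_normalizer_of_normal le_normalizer_of_normal le_normalizer_of_normal
        ?_ ?_)))) hE) ((Subgroup.commutator_le_sup _ _).trans (sup_le (hc n hn) hPY))
    · exact (Subgroup.commutator_le_sup _ _).trans
        (sup_le ((cj_le_of_le' (hN hn) hYL).trans hLH) hPH)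
    · refine commutator_le_of_le_centralizer (le_centralizer_iff.mp (le_trans ?_ (h3 n hn)))
      exact le_inf (commutator_le_right_of_le_normalizer hPE)
        ((commutator_le_left_of_le_normalizer hEP).trans hPY)
    · refine commutator_le_of_le_centralizer ?_
      rwa [← cj_eq_of_mem_normalizer (hNE hn), ← cj_commutator, cj_eq_of_mem_normalizer (hNZ hn)]
  have h5 : ⁅Y ⊔ ⁅N, Y⁆, P⁆ ≤ E ⊓ centralizer (Y : Set G) := by
    rw [← iSup_cj_eq_sup_commutator]
    exact iSup_commutator_le (fun n => le_normalizer_of_le_centralizer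
      (le_centralizer_iff.mp (h3 n n.2))) fun n => h4 n n.2
  have hCp : IsPGroup p (E ⊓ centralizer (Y : Set G) : Subgroup G) := hEp.to_le inf_le_left
  have hXC : Y ⊔ ⁅N, Y⁆ ≤ normalizer ((E ⊓ centralizer (Y : Set G) : Subgroup G) : Set G) := by
    rw [← iSup_cj_eq_sup_commutator]
    exact iSup_le fun n => le_normalizer_of_le_centralizer (le_centralizer_iff.mp (h3 n n.2))
  have hCZ : E ⊓ centralizer (Y : Set G) ≤ normalizer ((⁅E, Y⁆ : Subgroup G) : Set G) :=
    inf_le_left.trans (normalizer_commutator_ge_left _ _)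
  generalize E ⊓ centralizer (Y : Set G) = C at *
  have hZp : IsPGroup p (⁅E, Y⁆ : Subgroup G) := hEp.to_le hZE
  generalize ⁅E, Y⁆ = Z at *
  have h6 : ⁅Y ⊔ ⁅N, Y⁆ ⊔ C, P⁆ ≤ C :=
    sup_commutator_le hXC le_normalizer h5 (commutator_le_left_of_le_normalizer hPC)
  have hDC : P ⊔ N ≤ normalizer (C : Set G) := sup_le hPC hNC
  have hDZ : P ⊔ N ≤ normalizer (Z : Set G) := sup_le (le_normalizer_of_le_centralizer hPZ) hNZ
  have hDX : P ⊔ N ≤ normalizer ((Y ⊔ ⁅N, Y⁆ ⊔ C : Subgroup G) : Set G) :=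
    sup_le (le_normalizer_of_commutator_le le_rfl (h6.trans le_sup_right))
      (le_normalizer_sup (le_normalizer_sup_commutator _ _) hNC)
  have hK := hw.weakClosure_eq (le_sup_left : P ≤ P ⊔ N)
  have hgenK := sup_pResidualOf_of_gen (p := p) (hw.gen (le_sup_left : P ≤ P ⊔ N))
  have hKD := weakClosure_le P (P ⊔ N)
  have hfr := (hw.mono (le_sup_left : P ≤ P ⊔ N) le_top).frattini (le_weakClosure le_sup_left) hKD
    (le_normalizer_weakClosure P le_normalizer)
  have k1 : weakClosure P (P ⊔ N) ≤ stab (Y ⊔ ⁅N, Y⁆ ⊔ C) C := by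
    rw [hK]
    exact sup_commutator_le_of_normal (le_stab_iff.mpr ⟨hPC, h6⟩) (le_normalizer_stab hDX hDC)
  have k2 : weakClosure P (P ⊔ N) ≤ centralizer (Z : Set G) := by
    rw [hK]
    exact sup_commutator_le_of_normal hPZ (le_normalizer_centralizer hDZ)
  have k3 : pResidualOf p (P ⊔ N) ≤ stab C Z :=
    (pResidualOf_mono (sup_le_sup_left (le_stab_iff.mpr ⟨hNZ, hCN⟩) P)).trans
      (pResidualOf_sup_le hw.isPGroup (le_sup_left.trans (le_normalizer_stab hDC hDZ)))
  generalize weakClosure P (P ⊔ N) = K at *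
  have hR := pResidualOf_le p K
  have k4 : ⁅Y, pResidualOf p K⁆ ≤ Z := by
    rw [← pResidualOf_pResidualOf]
    refine commutator_pResidualOf_le (W := C) ((commutator_mono (le_sup_left.trans le_sup_left)
      hR).trans (le_stab_iff.mp k1).2) (le_stab_iff.mp ((pResidualOf_mono hKD).trans k3)).2 hCZ
      ((hR.trans hKD).trans hDZ) fun w hw => ?_
    obtain ⟨k, hk⟩ := isPGroup_iff_mem.mp hCp w hw
    exact ⟨k, hk ▸ one_mem _⟩
  have k5 : pResidualOf p K ≤ centralizer (Y : Set G) := by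
    rw [← pResidualOf_pResidualOf]
    exact pResidualOf_le_centralizer k4 (commutator_eq_bot_iff'.mpr (hR.trans k2)) hZp
  exact le_sup_right.trans (hfr.ge.trans (sup_le (hgenK.ge.trans
    (le_normalizer_of_le_centralizer (sup_le hPY k5))) (inf_le_right.trans hNP)))

/-- Standing hypotheses: G a finite group, S a Sylow p-subgroup, Q a nontrivial large p-subgroup of G contained in S, M a subgroup containing S with the basic property (M ∈ 𝔐_G(S)); Y_M the largest p-reduced normal subgroup of M and M† = M·C_G(Y_M). Suppose Y_M is char-p-tall and asymmetric in G, H ∈ ℌ_G(O_p(M)), and L is minimal among the subgroups of H containing Y_M with Y_M ≰ O_p(L). Then H = ⟨L, O_p(M)⟩ = ⟨hY_Mh⁻¹, O_p(M)⟩ for every h ∈ L outside N_L(Y_M); L is Y_M-minimal and of characteristic p, with N_L(Y_M) the unique maximal subgroup of L containing Y_M; [V, O^p(L)] ≠ 1 for every noncentral chief factor V/W of H inside O_p(H) (that is, O^p(L) does not act trivially on V/W); and the normal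 closure of O_p(L) ∩ Y_M in L lies in O_p(H). -/
theorem result {G : Type*} [Group G] [Finite G] {p : ℕ} [Fact p.Prime] (S : Sylow p G) (Q : Subgroup G) (hQp : IsPGroup p ↥Q) (hQ1 : Q ≠ ⊥) (hQS : Q ≤ (S : Subgroup G)) (hQ : Cfsg.IsLarge Q) (M : Subgroup G) (hSM : (S : Subgroup G) ≤ M) (hM : Cfsg.IsInFrakM p M) (htall : Cfsg.IsCharPTall p (Cfsg.largestPReducedOf p M)) (hasym : ¬ Cfsg.IsSymmetricIn (Cfsg.largestPReducedOf p M)) (H : Subgroup G) (hH : Cfsg.IsInFrakH p M H) (L : Subgroup G) (hLH : L ≤ H) (hYL : (Cfsg.largestPReducedOf p M) ≤ L) (hYO : ¬ (Cfsg.largestPReducedOf p M) ≤ (Cfsg.pCoreOf p L)) (hmin : ∀ L' : Subgroup G, L' ≤ L → (Cfsg.largestPReducedOf p M) ≤ L' → ¬ (Cfsg.largestPReducedOf p M) ≤ (Cfsg.pCoreOf p L') → L' = L) : (L ⊔ (Cfsg.pCoreOf p M) = H ∧ ∀ h ∈ L, h ∉ Subgroup.normalizer (((Cfsg.largestPReducedOf p M) : Subgroup G) : Set G) → (((Cfsg.largestPReducedOf p M) : Subgroup G).map (MulAut.conj (h : G)).toMonoidHom) ⊔ (Cfsg.pCoreOf p M) = H) ∧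 (Cfsg.IsMinimalOver (((Cfsg.largestPReducedOf p M)).subgroupOf L) ∧ Subgroup.centralizer (Cfsg.pCore p ↥L : Set ↥L) ≤ Cfsg.pCore p ↥L ∧ L ⊓ Subgroup.normalizer (((Cfsg.largestPReducedOf p M) : Subgroup G) : Set G) < L ∧ ∀ X : Subgroup G, (Cfsg.largestPReducedOf p M) ≤ X → X < L → X ≤ L ⊓ Subgroup.normalizer (((Cfsg.largestPReducedOf p M) : Subgroup G) : Set G)) ∧ (∀ V W' : Subgroup G, V ≤ (Cfsg.pCoreOf p H) → H ≤ Subgroup.normalizer ((V : Subgroup G) : Set G) → H ≤ Subgroup.normalizer ((W' : Subgroup G) : Set G) → W' < V → (∀ Z' : Subgroup G, H ≤ Subgroup.normalizer ((Z' : Subgroup G) : Set G) → W' ≤ Z' → Z' ≤ V → Z' = W' ∨ Z' = V) → ¬ ⁅V, H⁆ ≤ W' → ¬ ⁅V, ((Cfsg.pResidual p ↥L).map (L).subtype)⁆ ≤ W') ∧ (Subgroup.normalClosure (((((Cfsg.pCoreOf p L) ⊓ (Cfsg.largestPReducedOf p M)).subgroupOf L : Subgroup ↥L)) : Set ↥L)).map L.subtype ≤ (Cfsg.pCoreOf p H) := by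
  have h := FM.mk' S hQp hQ hSM hM
  have hF := FH.of_frakH hH
  have hHc := isCharP_iff.mpr hH.1
  have hw := h.wc hasym
  have hNP := h.normalizer_P_le_Y
  have hYp := (pRed_Y p M).isPGroup
  have hY := (pRed_Y p M).le_centralizer
  have hPY : pCoreOf p M ≤ _ := FM.P_le_C
  have hYP : _ ≤ pCoreOf p M := FM.Y_le_P
  have hPH := hF.le
  have hFmin := hF.min
  simp only [map_conj_eq_cj, pResidualOf_def]
  generalize largestPReducedOf p M = Y at *
  generalize pCoreOf p M = P at *
  have hmin' : ∀ X, Y ≤ X → X < L → Y ≤ pCoreOf p X := fun X h1 h2 => by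
    by_contra h3
    exact h2.ne (hmin X h2.le h1 h3)
  obtain ⟨g, hg, hgen⟩ : ∃ g ∈ L, Y ⊔ cj g Y = L := by
    by_contra h1
    push Not at h1
    refine hYO (le_pCoreOf_of_sn (L0.sn_of_forall_sn_sup_cj hYL fun g hg => ?_) hYp)
    have h2 := hmin' _ le_sup_left (lt_of_le_of_ne (sup_le hYL (cj_le_of_le' hg hYL)) (h1 g hg))
    exact (L0.sn_of_isPGroup (isPGroup_pCoreOf p _) h2).trans
      (SN.of_normal (pCoreOf_le p _) (le_normalizer_pCoreOf p _))
  have hEP := hw.pCoreOf_le_normalizer hPH le_top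
  have hEY := hEP.trans hNP
  have hHE := le_normalizer_pCoreOf p H
  have hmax : ∀ X, Y ≤ X → X < L → X ≤ L ⊓ normalizer (Y : Set G) := fun X h1 h2 => by
    have h3 := hmin' X h1 h2
    have hYR : Y ≤ pCoreOf p X ⊓ normalizer (Y : Set G) := le_inf h3 le_normalizer
    have h4 : X ⊓ normalizer ((pCoreOf p X ⊓ normalizer (Y : Set G) : Subgroup G) : Set G) ≤
        normalizer (Y : Set G) := by
      refine aux1 hHc hw hPH hPY hNP hY hLH hg hgen (inf_le_left.trans h2.le) fun n hn => ?_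
      refine le_centralizer_of_asym' hasym ((cj_le_of_le hn.2 hYR).trans inf_le_right) ?_
      have h5 := cj_le_normalizer_cj n (inf_le_right : pCoreOf p X ⊓ normalizer (Y : Set G) ≤ _)
      rw [cj_eq_of_mem_normalizer hn.2] at h5
      exact hYR.trans h5
    have h5 : pCoreOf p X ⊓ normalizer (Y : Set G) = pCoreOf p X := by
      by_contra h6
      exact (lt_inf_normalizer (isPGroup_pCoreOf p X) (lt_of_le_of_ne inf_le_left h6)).not_ge
        (le_inf inf_le_left ((inf_le_inf_right _ (pCoreOf_le p X)).trans h4))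
    rw [h5] at h4
    exact le_inf h2.le ((le_inf le_rfl (le_normalizer_pCoreOf p X)).trans h4)
  have hlt : L ⊓ normalizer (Y : Set G) < L := lt_of_le_of_ne inf_le_left fun h1 =>
    hYO (le_pCoreOf hYp hYL (h1.ge.trans inf_le_right))
  have hmo : MinOver Y L (L ⊓ normalizer (Y : Set G)) :=
    ⟨⟨le_inf hYL le_normalizer, hlt, hmax⟩, le_antisymm (sup_commutator_le_self hYL)
      (hgen.ge.trans (sup_le le_sup_left (cj_le_sup_commutator hg)))⟩
  have hLP : L ⊔ P = H := by
    by_contra h1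
    exact hYO ((le_inf (hFmin _ le_sup_right (lt_of_le_of_ne (sup_le hLH hPH) h1)) hYL).trans
      (pCoreOf_inf_le le_sup_left))
  have hEL : pCoreOf p H ≤ normalizer (L : Set G) := by
    have := le_normalizer_sup_commutator_of_normal hEY (hLH.trans hHE)
    rwa [hmo.gen] at this
  refine ⟨⟨hLP, fun x h1 h2 => le_antisymm (sup_le (cj_le_of_le' (hLH h1) (hYL.trans hLH)) hPH)
    (hLP.ge.trans (sup_le ((hmo.sup_cj_eq h1 fun h3 => h2 h3.2).ge.trans
      (sup_le (hYP.trans le_sup_right) le_sup_left)) le_sup_right))⟩,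
    ⟨(minOver_iff_subgroupOf hYL).mp ⟨_, hmo⟩, isCharP_iff.mp (hHc.of_normalized hLH hEL), hlt, hmax⟩,
    fun V W h1 h2 h3 h4 h5 h6 h7 => ?_, ?_⟩
  · have hVH := h1.trans (pCoreOf_le p H)
    have hC := le_normalizer_stab h2 h3
    have h8 : H ≤ P ⊔ stab V W := hLP.ge.trans (sup_le ((sup_pResidualOf_of_gen hmo.gen).ge.trans
      (sup_le_sup hYP (le_stab_iff.mpr ⟨((pResidualOf_le p L).trans hLH).trans h3, h7⟩))) le_sup_left)
    have hU : ⁅V, P⁆ ⊔ W ≤ V := sup_le (commutator_le_left_of_le_normalizer (hPH.trans h2)) h4.le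
    have h9 : ⁅V, H⁆ ≤ ⁅V, P⁆ ⊔ W := (commutator_mono le_rfl h8).trans (commutator_sup_le
      (le_normalizer_sup (normalizer_commutator_ge_right _ _) (hPH.trans h3))
      (le_normalizer_of_commutator_le hU ((commutator_stab_le V W).trans le_sup_right))
      le_sup_left ((commutator_stab_le V W).trans le_sup_right))
    rcases h5 (⁅V, H⁆ ⊔ W) (le_normalizer_sup (normalizer_commutator_ge_right _ _) h3) le_sup_right
      (sup_le (commutator_le_left_of_le_normalizer h2) h4.le) with h10 | h10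
    · exact h6 (le_sup_left.trans h10.le)
    · exact h4.not_ge (le_of_le_sup_commutator ((isPGroup_pCoreOf p H).to_le h1) hw.isPGroup
        (hVH.trans h3) (hPH.trans h3) (hPH.trans h2) (h10.ge.trans (sup_le h9 le_sup_right)))
  · rw [map_normalClosure_eq_sup_commutator (inf_le_right.trans hYL)]
    refine sup_commutator_le_of_normal ?_ (hLH.trans hHE)
    have hOY : pCoreOf p L ≤ normalizer (Y : Set G) := by
      have hp := isPGroup_sup (hYL.trans (le_normalizer_pCoreOf p L)) hYp (isPGroup_pCoreOf p L)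
      refine le_sup_right.trans ((hmax _ le_sup_left (lt_of_le_of_ne
        (sup_le hYL (pCoreOf_le p L)) fun h1 => hYO ?_)).trans inf_le_right)
      rw [h1] at hp
      rw [pCoreOf_eq_self_iff.mpr hp]; exact hYL
    have hOg : pCoreOf p L ≤ normalizer (cj g Y : Set G) := by
      have := cj_le_normalizer_cj g hOY
      rwa [cj_eq_of_mem_normalizer (le_normalizer_pCoreOf p L hg)] at this
    have hEg : pCoreOf p H ≤ normalizer (cj g Y : Set G) := by
      have := cj_le_normalizer_cj g hEY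
      rwa [cj_eq_of_mem_normalizer (hHE (hLH hg))] at this
    have hYH := hYL.trans hLH
    have hgH : cj g Y ≤ H := cj_le_of_le' (hLH hg) hYH
    have hZ : Y ⊓ cj g Y ≤ pCoreOf p H ⊓ centralizer (H : Set G) := by
      have h1 : Y ⊓ cj g Y ≤ centralizer (H : Set G) := by
        rw [← hLP, ← hgen, centralizer_sup, centralizer_sup]
        exact le_inf (le_inf (inf_le_left.trans hY) (inf_le_right.trans (cj_le_centralizer_cj g hY)))
          (inf_le_left.trans (le_centralizer_iff.mp hPY))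
      exact le_inf (hHc.le_pCoreOf (inf_le_left.trans hYH)
        (h1.trans (centralizer_anti (pCoreOf_le p H)))) h1
    have hZn : H ≤ normalizer ((pCoreOf p H ⊓ centralizer (H : Set G) : Subgroup G) : Set G) :=
      le_normalizer_inf hHE (le_normalizer_centralizer le_normalizer)
    have hEH := pCoreOf_le p H
    have hcE : ∀ X, X ≤ H → ⁅pCoreOf p H, X⁆ ≤ pCoreOf p H := fun X hX =>
      commutator_le_left_of_le_normalizer (hX.trans hHE)
    have h1 : ⁅⁅pCoreOf p H, H⁆, pCoreOf p L ⊓ Y⁆ ≤ pCoreOf p H ⊓ centralizer (H : Set G) := by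
      have e : ⁅pCoreOf p H, H⁆ = ⁅pCoreOf p H, Y⁆ ⊔ ⁅pCoreOf p H, cj g Y⁆ ⊔ ⁅pCoreOf p H, P⁆ := by
        rw [← commutator_sup_eq (hYH.trans hHE) (hgH.trans hHE), hgen,
          ← commutator_sup_eq (hLH.trans hHE) (hPH.trans hHE), hLP]
      rw [e]
      refine sup_commutator_le (((sup_le (hcE _ hYH) (hcE _ hgH)).trans hEH).trans hZn)
        (((hcE _ hPH).trans hEH).trans hZn) (sup_commutator_le (((hcE _ hYH).trans hEH).trans hZn)
        (((hcE _ hgH).trans hEH).trans hZn) ?_ (le_trans (le_inf ?_ ?_) hZ)) ?_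
      · exact commutator_le_of_le_centralizer (inf_le_right.trans (hY.trans
          (centralizer_anti (commutator_le_right_of_le_normalizer hEY))))
      · exact (commutator_mono (hcE _ hgH) inf_le_right).trans
          (commutator_le_right_of_le_normalizer hEY)
      · exact (commutator_mono (commutator_le_right_of_le_normalizer hEg) inf_le_left).trans
          (commutator_le_left_of_le_normalizer hOg)
      · exact commutator_le_of_le_centralizer (inf_le_right.trans (le_centralizer_iff.mp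
          ((commutator_le_right_of_le_normalizer hEP).trans hPY)))
    have hD := le_normalizer_inf le_normalizer
      (le_normalizer_stab (normalizer_commutator_ge_right (pCoreOf p H) H) hZn)
    have hB : pCoreOf p L ⊓ Y ≤ H ⊓ stab ⁅pCoreOf p H, H⁆ (pCoreOf p H ⊓ centralizer (H : Set G)) :=
      le_inf (inf_le_right.trans hYH) (le_stab_iff.mpr ⟨(inf_le_right.trans hYH).trans hZn, h1⟩)
    have hD1 : H ⊓ stab ⁅pCoreOf p H, H⁆ (pCoreOf p H ⊓ centralizer (H : Set G)) ≤ H := inf_le_left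
    have hD2 := (le_stab_iff.mp (inf_le_right :
      H ⊓ stab ⁅pCoreOf p H, H⁆ (pCoreOf p H ⊓ centralizer (H : Set G)) ≤ _)).2
    generalize H ⊓ stab ⁅pCoreOf p H, H⁆ (pCoreOf p H ⊓ centralizer (H : Set G)) = D at *
    refine hB.trans (hHc.le_pCoreOf_of_pResidualOf (SN.of_normal hD1 hD) ?_)
    rw [← pResidualOf_pResidualOf]
    refine pResidualOf_le_centralizer (commutator_pResidualOf_le (commutator_mono le_rfl hD1) hD2
      (((hcE _ le_rfl).trans hEH).trans hZn) (hD1.trans hZn) fun w hw => ?_)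
      (commutator_eq_bot_iff'.mpr (((pResidualOf_le p D).trans hD1).trans
        (le_centralizer_iff.mp inf_le_right))) ((isPGroup_pCoreOf p H).to_le inf_le_left)
    obtain ⟨k, hk⟩ := isPGroup_iff_mem.mp (isPGroup_pCoreOf p H) w (hcE _ le_rfl hw)
    exact ⟨k, hk ▸ one_mem _⟩

end Cfsg.Agent.S2862
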