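import Cfsg.Statements.S2863
import Cfsg.Agent.H7.RK
import Cfsg.Agent.H7.Isol

set_option autoImplicit false
open Cfsg

namespace Cfsg.Agent.S2863

open Subgroup Cfsg.H7
open Cfsg.L0 (SN)
open scoped commutatorElement

variable {G : Type*} [Group G] {p : ℕ}

structure QD (p : ℕ) (Y L A : Subgroup G) : Prop where
  min : MinOver Y L (L ⊓ normalizer (Y : Set G))
  ab : Y ≤ centralizer (Y : Set G)
  Yp : IsPGroup p Y
  LA : L ≤ normalizer (A : Set G)
  AL : A ≤ L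
  AY : A ≤ normalizer (Y : Set G)
  gen : (A ⊓ Y) ⊔ ⁅L, A ⊓ Y⁆ = A

theorem QD.YL {Y L A : Subgroup G} (h : QD p Y L A) : Y ≤ L := h.min.le.trans inf_le_left

theorem QD.cj {Y L A : Subgroup G} (h : QD p Y L A) {g : G} (hg : g ∈ L) : QD p (cj g Y) L A := by
  have h1 := h.min.cj g
  have h2 := cj_le_normalizer_cj g h.AY
  have h3 := congrArg (H7.cj g) h.gen
  have hA := cj_eq_of_mem_normalizer (h.LA hg)
  rw [cj_inf, cj_normalizer, cj_eq_of_mem hg] at h1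
  rw [hA] at h2
  rw [cj_sup, cj_commutator, cj_inf, hA, cj_eq_of_mem hg] at h3
  exact ⟨h1, cj_le_centralizer_cj g h.ab, isPGroup_cj h.Yp, h.LA, h.AL, h2, h3⟩

theorem mem_S {C L : Subgroup G} (hL : L ≤ centralizer (C : Set G)) {x a : G} (ha : a ∈ L) :
    a ∈ H9.commStab {x} C ↔ ⁅x, a⁆ ∈ C :=
  ⟨fun h => h.2 x rfl, fun h => ⟨centralizer_le_normalizer _ (hL ha), fun _ hy => hy ▸ h⟩⟩

theorem comm_symm {C : Subgroup G} {x a : G} (h : ⁅x, a⁆ ∈ C) : ⁅a, x⁆ ∈ C := by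
  rw [← commutatorElement_inv]; exact C.inv_mem h

theorem comm_of_le {C Y : Subgroup G} (hY : Y ≤ centralizer (Y : Set G)) {x a : G} (hx : x ∈ Y)
    (ha : a ∈ Y) : ⁅x, a⁆ ∈ C := by
  rw [commutatorElement_eq_one_iff_mul_comm.mpr (hY ha x hx)]; exact C.one_mem

variable [Finite G] [Fact p.Prime]

theorem QD.comm {Y L A : Subgroup G} (h : QD p Y L A) : ⁅A, A⁆ ≤ Y ⊓ centralizer (L : Set G) := by
  obtain ⟨g, hg, h1⟩ := SetLike.exists_of_lt h.min.lt
  have h2 := closure_inf_eq (h.min.sup_cj_eq hg h1) hg h.LA h.AY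
  have h3 : A ⊓ Y ≤ centralizer ((A ⊓ Y : Subgroup G) : Set G) :=
    inf_le_right.trans (h.ab.trans (centralizer_anti inf_le_right))
  rw [h.gen] at h2
  rw [← h.min.inf_cj_eq h.ab hg h1]
  refine le_trans ?_ (commutator_inf_cj_le hg h.LA h.AY)
  rw [← commutator_sup_sup_of_comm h3 (cj_le_centralizer_cj g h3), ← h2]

theorem QD.step1 {Y L A : Subgroup G} (h : QD p Y L A) {g y a : G} (hg : g ∈ L)
    (h1 : g ∉ normalizer (Y : Set G)) (hy : y ∈ Y) (h2 : y ∉ normalizer (H7.cj g Y : Set G))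
    (ha : a ∈ A) (h3 : ⁅y, a⁆ ∈ Y ⊓ centralizer (L : Set G)) : a ∈ Y := by
  have hC : L ≤ centralizer ((Y ⊓ centralizer (L : Set G) : Subgroup G) : Set G) :=
    le_centralizer_iff.mp inf_le_right
  have h' := h.cj hg
  have h4 := closure_inf_eq (h.min.sup_cj_eq hg fun h4 => h1 h4.2) hg h.LA h.AY
  rw [h.gen, cj_inf_eq hg h.LA] at h4
  obtain ⟨b, hb, c, hc, rfl⟩ := (mem_sup_of_le_normalizer (inf_le_left.trans
    (le_normalizer_inf le_normalizer h'.AY))).mp (h4.le ha)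
  have hcL := h.AL hc.1
  have h5 : c ∈ H9.commStab {y} (Y ⊓ centralizer (L : Set G)) :=
    (Subgroup.mul_mem_cancel_left _ ((mem_S hC (h.AL hb.1)).mpr (comm_of_le h.ab hy hb.2))).mp
      ((mem_S hC (h.AL ha)).mpr h3)
  have h6 : L ≤ H9.commStab {c} (Y ⊓ centralizer (L : Set G)) :=
    h'.min.le_of_not_le (fun x hx => (mem_S hC (h'.YL hx)).mpr (comm_of_le h'.ab hc.2 hx))
      fun h6 => h2 (h6 ⟨h.YL hy, (mem_S hC (h.YL hy)).mpr (comm_symm ((mem_S hC hcL).mp h5))⟩).2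
  have h7 : L ≤ centralizer {c} := by
    refine (sup_pResidualOf_of_gen (p := p) h'.min.gen).ge.trans (sup_le
      (le_centralizer_singleton_iff.mpr (h'.ab hc.2)) (pResidualOf_le_iff.mpr fun x hx h7 => ?_))
    exact mem_centralizer_singleton_iff.mpr (commutatorElement_eq_one_iff_mul_comm.mp
      (commute_of_coprime (h.Yp.to_le inf_le_left) h7 ((mem_S hC hx).mp (h6 hx)) (hC hx))).symm
  exact Y.mul_mem hb.2 ((cj_inf_centralizer hg).le
    ⟨hc.2, le_centralizer_singleton_iff.mp h7⟩).1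

theorem QD.step2 {Y L A : Subgroup G} (h : QD p Y L A) {g y z a b : G} (hg : g ∈ L)
    (hy : y ∈ Y) (h2 : y ∉ normalizer (H7.cj g Y : Set G)) (hz : z ∈ H7.cj g Y)
    (h3 : z ∉ normalizer (Y : Set G)) (ha : a ∈ A) (hb : b ∈ A)
    (h4 : ⁅a, y * z * b⁆ ∈ Y ⊓ centralizer (L : Set G)) : a ∈ Y ⊓ centralizer (L : Set G) := by
  have hC : L ≤ centralizer ((Y ⊓ centralizer (L : Set G) : Subgroup G) : Set G) :=
    le_centralizer_iff.mp inf_le_right
  have h' := h.cj hg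
  have h1 : g ∉ normalizer (Y : Set G) := fun h1 =>
    h2 (by rw [cj_eq_of_mem_normalizer h1]; exact le_normalizer hy)
  have e := h.min.inf_cj_eq h.ab hg fun h4 => h1 h4.2
  have hyL := h.YL hy
  have hzL := h'.YL hz
  have h5 : y * z ∈ H9.commStab {a} (Y ⊓ centralizer (L : Set G)) :=
    (Subgroup.mul_mem_cancel_right _ ((mem_S hC (h.AL hb)).mpr
      (h.comm (commutator_mem_commutator ha hb)))).mp
      ((mem_S hC (L.mul_mem (L.mul_mem hyL hzL) (h.AL hb))).mpr h4)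
  have h6 : ⁅a, z⁆ ∈ Y ⊓ centralizer (L : Set G) := by
    rw [← e]
    refine ⟨?_, commutator_le_right_of_le_normalizer h'.AY (commutator_mem_commutator ha hz)⟩
    have h7 := ((mem_S hC (L.mul_mem hyL hzL)).mp h5).1
    have h8 := commutator_le_right_of_le_normalizer h.AY (commutator_mem_commutator ha hy)
    have h9 : ⁅a, z⁆ = y⁻¹ * (⁅a, y⁆⁻¹ * ⁅a, y * z⁆) * y := by
      simp only [commutatorElement_def]; group
    rw [h9]
    exact Y.mul_mem (Y.mul_mem (Y.inv_mem hy) (Y.mul_mem (Y.inv_mem h8) h7)) hy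
  have h7 := (mem_S hC hyL).mp ((Subgroup.mul_mem_cancel_right _ ((mem_S hC hzL).mpr h6)).mp h5)
  rw [← e]
  refine ⟨h.step1 hg h1 hy h2 ha (comm_symm h7), h'.step1 (L.inv_mem hg) (fun h8 => h3 ?_) hz
    (by rwa [cj_inv_cj]) ha (by rw [cj_inf_centralizer hg]; exact comm_symm h6)⟩
  have h9 := cj_eq_of_mem_normalizer h8
  rw [cj_inv_cj] at h9
  rw [h9]; exact le_normalizer hz

/-- Standing hypotheses: G a finite group, S a Sylow p-subgroup, Q a nontrivial large p-subgroup of G contained in S, M a subgroup containing S with the basic property (M ∈ 𝔐_G(S)); Y_M the largest p-reduced normal subgroup of M and M† = M·C_G(Y_M). Let L ∈ 𝔏_G(Y_M) (L ∈ 𝔏_G(Y_M): Y_M ≤ L; O_p(L) is the normal closure in L of Y_M ∩ O_p(L) and normalizes Y_M; L is Y_M-minimal of characteristic p with N_L(Y_M) its unique maximal subgroup over Y_M; and L/O_p(L) ≅ SL₂(q) with q = |Y_M : Y_M ∩ O_p(L)|, or p = 2 and L/O_p(L) is a Suzuki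 group Sz(q) or dihedral of order 2r, r an odd prime), A = O_p(L), and C = C_{Y_M}(L). Then every element h of L whose order is not a power of p acts without nontrivial fixed points on A/C: for a ∈ A, hah⁻¹a⁻¹ ∈ C implies a ∈ C. -/
theorem result {G : Type*} [Group G] [Finite G] {p : ℕ} [Fact p.Prime] (S : Sylow p G) (Q : Subgroup G) (hQp : IsPGroup p ↥Q) (hQ1 : Q ≠ ⊥) (hQS : Q ≤ (S : Subgroup G)) (hQ : Cfsg.IsLarge Q) (M : Subgroup G) (hSM : (S : Subgroup G) ≤ M) (hM : Cfsg.IsInFrakM p M) (L : Subgroup G) (hL : Cfsg.IsInFrakL p M L) (h : G) (hh : h ∈ L) (hnp : ¬ ∃ k : ℕ, orderOf h = p ^ k) : ∀ a ∈ (Cfsg.pCoreOf p L), h * a * h⁻¹ * a⁻¹ ∈ (Cfsg.largestPReducedOf p M) ⊓ Subgroup.centralizer ((L : Subgroup G) : Set G) → a ∈ (Cfsg.largestPReducedOf p M) ⊓ Subgroup.centralizer ((L : Subgroup G) : Set G) := by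
  intro a ha h0
  obtain ⟨hZ, hne⟩ := rk_of_frakL hL
  obtain ⟨h1, h2, h3, h4, -, h6, -⟩ := hL
  have hY := pRed_Y p M
  obtain ⟨L₀, h7⟩ := (minOver_iff_subgroupOf h1).mpr h4
  rw [map_normalClosure_eq_sup_commutator (inf_le_left.trans h1), inf_comm] at h2
  have hq : QD p (largestPReducedOf p M) L (pCoreOf p L) :=
    ⟨⟨⟨le_inf h1 le_normalizer, h6.1, h6.2⟩, h7.gen⟩, hY.le_centralizer, hY.isPGroup,
      le_normalizer_pCoreOf p L, pCoreOf_le p L, h3, h2.symm⟩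
  have hea := hY.ea
  generalize largestPReducedOf p M = Y at *
  have hC : L ≤ centralizer ((Y ⊓ centralizer (L : Set G) : Subgroup G) : Set G) :=
    le_centralizer_iff.mp inf_le_right
  obtain ⟨π, hπ⟩ : ∃ π, π = QuotientGroup.mk' (pCore p L) := ⟨_, rfl⟩
  have hs : Function.Surjective π := hπ ▸ QuotientGroup.mk'_surjective _
  have hk : ∀ x : L, π x = 1 ↔ (x : G) ∈ pCoreOf p L := fun x => by
    rw [mem_pCoreOf_iff, hπ, QuotientGroup.mk'_apply, QuotientGroup.eq_one_iff]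
  rw [← hπ] at hZ
  have hpe : ∀ x : L, (∃ k : ℕ, π x ^ p ^ k = 1) → ∃ k : ℕ, (x : G) ^ p ^ k = 1 := by
    rintro x ⟨k, h8⟩
    rw [← map_pow, hk] at h8
    obtain ⟨j, h9⟩ := isPGroup_iff_mem.mp (isPGroup_pCoreOf p L) _ h8
    exact ⟨k + j, by rw [pow_add, pow_mul]; exact h9⟩
  obtain ⟨n, u, y, z, h8, h9, h10, h11, h12, h13⟩ := hZ.prod (π ⟨h, hh⟩)
    fun h8 => hnp (exists_pow_eq_one_iff_orderOf.mp (hpe _ h8))
  obtain ⟨u, rfl⟩ := hs u
  have lift : ∀ y : L ⧸ pCore p L, y ^ p = 1 → ∃ c y' : L, (y' : G) ∈ cj (c : G) Y ∧ π y' = y := by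
    intro y hy
    obtain ⟨g, y', h14, h15⟩ := hZ.conj y hy
    obtain ⟨c, rfl⟩ := hs g
    refine ⟨c⁻¹, c⁻¹ * y' * c⁻¹⁻¹, conj_mem_cj h14, ?_⟩
    simp only [map_mul, map_inv, h15]; group
  obtain ⟨c₁, y, hy, rfl⟩ := lift y h10
  obtain ⟨c₂, z, hz, rfl⟩ := lift z h11
  have h14 : ¬ ∃ k : ℕ, (π y * π z) ^ p ^ k = 1 := by
    rintro ⟨k, h14⟩
    obtain ⟨j, h15⟩ := h8
    refine h13 ⟨k + j, ?_⟩
    have h16 : (π y * π z) ^ p ^ (k + j) = 1 := by rw [pow_add, pow_mul, h14, one_pow]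
    have h17 : π u ^ p ^ (k + j) = 1 := by rw [add_comm, pow_add, pow_mul, h15, one_pow]
    rwa [← h12, h9.mul_pow, h17, mul_one] at h16
  have h15 : ∀ c : L, (y : G) ∈ normalizer (cj (c : G) Y : Set G) →
      (z : G) ∈ normalizer (cj (c : G) Y : Set G) → False := fun c h15 h16 => by
    have h17 : ∀ x : L, (x : G) ∈ normalizer (cj (c : G) Y : Set G) → π x ^ p = 1 →
        π x ∈ cj (π c) ((Y.subgroupOf L).map π) := fun x h17 h18 => by
      refine (hZ.cj (π c)).mem _ ?_ h18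
      rw [← map_cj, subgroupOf, cj_comap]
      refine map_le_normalizer_map π (H := zpowers x) (zpowers_le.mpr ?_) ⟨x, mem_zpowers x, rfl⟩
      rw [mem_normalizer_iff_cj, cj_comap]
      exact congrArg _ (cj_eq_of_mem_normalizer h17)
    exact h14 ⟨1, by
      rw [pow_one]
      exact (isElementaryAbelian_iff.mp (ea_cj (ea_map (ea_subgroupOf hea L) π) _)).2 _
        (mul_mem (h17 y h15 h10) (h17 z h16 h11))⟩
  obtain ⟨x, hx⟩ : ∃ x : L, x = ⟨h, hh⟩ ^ n := ⟨_, rfl⟩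
  rw [← map_pow, ← hx] at h9 h12
  have hb : ((y * z)⁻¹ * (x * u) : L).1 ∈ pCoreOf p L := by
    rw [← hk, map_mul, map_inv, map_mul, map_mul, h12, inv_mul_cancel]
  have hb' : (x⁻¹ * (u * x * u⁻¹) : L).1 ∈ pCoreOf p L := by
    rw [← hk]; simp only [map_mul, map_inv, ← h9.eq]; group
  have hAL := pCoreOf_le p L
  have hAA : ∀ a ∈ pCoreOf p L, pCoreOf p L ≤ H9.commStab {a} (Y ⊓ centralizer (L : Set G)) :=
    fun a ha b hb => (mem_S hC (hAL hb)).mpr (hq.comm (commutator_mem_commutator ha hb))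
  by_contra hcon
  have h16 : zpowers (u : G) ≤ normalizer ((pCoreOf p L ⊓ H9.commStab {(x : G)}
      (Y ⊓ centralizer (L : Set G)) : Subgroup G) : Set G) := by
    refine zpowers_le.mpr (inv_mem_iff.mp (mem_normalizer_of_conj_mem fun w hw => ?_))
    have h16 := cj_le_of_le (inv_mem (le_normalizer_pCoreOf p L u.2)) le_rfl (conj_mem_cj hw.1)
    refine ⟨h16, (mem_S hC (hAL h16)).mpr ?_⟩
    have h17 := (mem_S hC (L.mul_mem x.2 (hAL hb'))).mp (mul_mem ((mem_S hC x.2).mpr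
      (comm_symm ((mem_S hC (hAL hw.1)).mp hw.2))) (hAA w hw.1 hb'))
    have h18 := cj_le_of_le (centralizer_le_normalizer _ (hC (L.inv_mem u.2))) le_rfl
      (conj_mem_cj (comm_symm h17))
    convert h18 using 1
    simp only [commutatorElement_def, coe_mul, coe_inv]; group
  have h17 : a ∈ pCoreOf p L ⊓ H9.commStab {(x : G)} (Y ⊓ centralizer (L : Set G)) := by
    refine ⟨ha, (mem_S hC (hAL ha)).mpr (comm_symm ((mem_S hC x.2).mp ?_))⟩
    rw [hx, coe_pow]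
    exact pow_mem ((mem_S hC hh).mpr (comm_symm h0)) n
  obtain ⟨W, h18, h19, -, h20, -⟩ := exists_not_le_commutator_le'
    ((isPGroup_pCoreOf p L).to_le inf_le_left) h16
    (zpowers_le.mpr (centralizer_le_normalizer _ (hC u.2)))
    (by rw [pResidualOf_eq_bot_of_isPGroup (isPGroup_zpowers (hpe u h8)), commutator_bot_right]
        exact bot_le) fun h18 => hcon (h18 h17)
  obtain ⟨w, h21, h22⟩ := SetLike.not_le_iff_exists.mp h19
  have h23 := (mem_S hC (L.mul_mem x.2 u.2)).mp (mul_mem ((mem_S hC x.2).mpr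
    (comm_symm ((mem_S hC (hAL (h18 h21).1)).mp (h18 h21).2)))
    ((mem_S hC u.2).mpr (h20 (commutator_mem_commutator h21 (mem_zpowers _)))))
  have h24 : cj ((c₂ : G) * (c₁ : G)⁻¹) (cj (c₁ : G) Y) = cj (c₂ : G) Y := by
    rw [cj_mul, cj_inv_cj]
  refine h22 ((cj_inf_centralizer c₁.2).le ((hq.cj c₁.2).step2 (L.mul_mem c₂.2 (L.inv_mem c₁.2)) hy
    (by rw [h24]; exact fun h25 => h15 c₂ h25 (le_normalizer hz)) (h24 ▸ hz)
    (fun h25 => h15 c₁ (le_normalizer hy) h25) (h18 h21).1 hb ?_))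
  rw [cj_inf_centralizer c₁.2]
  convert h23 using 2
  simp only [coe_mul, coe_inv]; group

end Cfsg.Agent.S2863
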