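import Cfsg.Statements.S2864
import Cfsg.Agent.H7.FrakM

set_option autoImplicit false
open Cfsg

namespace Cfsg.Agent.S2864

open Subgroup Cfsg.H7
open Cfsg.L0 (SN)
open scoped commutatorElement

/-- Standing hypotheses: G a finite group, S a Sylow p-subgroup, Q a nontrivial large p-subgroup of G contained in S, M a subgroup containing S with the basic property (M ∈ 𝔐_G(S)); Y_M the largest p-reduced normal subgroup of M and M† = M·C_G(Y_M). Let I be a nontrivial normal p-subgroup of M and Y ≤ O_p(M†); let L be a subgroup of G containing Y and A a normal p-subgroup of L with I ≤ A ≤ M. If [Y, A] ≤ [I, A], then Y ≤ O_p(L). -/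
theorem result {G : Type*} [Group G] [Finite G] {p : ℕ} [Fact p.Prime] (S : Sylow p G) (Q : Subgroup G) (hQp : IsPGroup p ↥Q) (hQ1 : Q ≠ ⊥) (hQS : Q ≤ (S : Subgroup G)) (hQ : Cfsg.IsLarge Q) (M : Subgroup G) (hSM : (S : Subgroup G) ≤ M) (hM : Cfsg.IsInFrakM p M) (I : Subgroup G) (hI1 : I ≠ ⊥) (hIp : IsPGroup p ↥I) (hIM : I ≤ M ∧ M ≤ Subgroup.normalizer ((I : Subgroup G) : Set G)) (Y : Subgroup G) (hY : Y ≤ (Cfsg.pCoreOf p (M ⊔ Subgroup.centralizer (((Cfsg.largestPReducedOf p M) : Subgroup G) : Set G)))) (L : Subgroup G) (hYL : Y ≤ L) (A : Subgroup G) (hAp : IsPGroup p ↥A) (hAL : A ≤ L ∧ L ≤ Subgroup.normalizer ((A : Subgroup G) : Set G)) (hIA : I ≤ A) (hAM : A ≤ M) (hc : ⁅Y, A⁆ ≤ ⁅I, A⁆) : Y ≤ (Cfsg.pCoreOf p L) := by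
  have h := FM.mk' S hQp hQ hSM hM
  obtain ⟨K, h1, h2, h3⟩ := exists_sn_gen hYL
  have hKA : K ≤ normalizer (A : Set G) := h2.le.trans hAL.2
  have hAI : A ≤ normalizer (I : Set G) := hAM.trans hIM.2
  have hJA : I ⊔ ⁅K, I⁆ ≤ A := sup_commutator_le_of_normal hIA hKA
  have hKJ := le_normalizer_sup_commutator K I
  have hAJ := le_normalizer_sup_commutator_of_normal hAI hKA
  have h4 : K ≤ normalizer ((⁅I ⊔ ⁅K, I⁆, A⁆ : Subgroup G) : Set G) :=
    le_normalizer_commutator hKJ hKA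
  have h5 : K ≤ stab A ⁅I ⊔ ⁅K, I⁆, A⁆ := by
    refine h3.ge.trans (sup_commutator_le_of_normal (le_stab_iff.mpr ⟨h1.trans h4, ?_⟩)
      (le_normalizer_stab hKA h4))
    rw [commutator_comm]
    exact hc.trans (commutator_mono le_sup_left le_rfl)
  have h6 : I ⊔ ⁅K, I⁆ ≤ I := by
    refine le_of_le_sup_commutator (hAp.to_le hJA) hAp (hJA.trans hAI) hAI hAJ
      (sup_le le_sup_right (le_trans ?_ le_sup_left))
    exact (commutator_comm K I).le.trans
      ((commutator_mono hIA le_rfl).trans (le_stab_iff.mp h5).2)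
  have h7 : K ≤ dag p M := le_trans (le_normalizer_of_commutator_le le_rfl (by
    rw [commutator_comm]; exact le_sup_right.trans h6)) (h.normalizer_le hIp hI1 hIM.2)
  exact ((le_inf hY h1).trans (pCoreOf_inf_le h7)).trans (pCoreOf_le_of_sn h2)

end Cfsg.Agent.S2864
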