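import Cfsg.Statements.S2872
import Cfsg.Agent.H4.TT
import Cfsg.Agent.H1.Fitting
import Cfsg.Agent.H1.Frattini
import Cfsg.Agent.H7.Residual

set_option autoImplicit false
open Cfsg

namespace Cfsg.Agent.S2872

/-- Let S be a Sylow 2-subgroup of the finite group G. Then G has a proper normal subgroup of 2-power index (O²(G) ≠ G), or Ω₁(Z(S)) is contained in the Frattini subgroup of S, or N_G(S) acts nontrivially on Ω₁(Z(S)) by conjugation. -/
theorem result {G : Type*} [Group G] [Finite G] (S : Sylow 2 G) : Cfsg.pResidual 2 G ≠ ⊤ ∨ Cfsg.omegaOne 2 ((S : Subgroup G) ⊓ Subgroup.centralizer ((S : Subgroup G) : Set G)) ≤ (frattini ↥(S : Subgroup G)).map (S : Subgroup G).subtype ∨ ∃ g ∈ Subgroup.normalizer ((S : Subgroup G) : Set G), ∃ z ∈ Cfsg.omegaOne 2 ((S : Subgroup G) ⊓ Subgroup.centralizer ((S : Subgroup G) : Set G)), g * z * g⁻¹ ≠ z := by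
  by_contra! hc
  obtain ⟨h1, h2, h3⟩ := hc
  have hG : ∀ N : Subgroup G, N.index ≠ 2 := fun N hN => by
    have := Subgroup.normal_of_index_eq_two hN
    have h4 := H7.pResidual_le_of_isPGroup_quotient (p := 2) (N := N)
      (IsPGroup.of_card (n := 1) hN)
    rw [h1, top_le_iff] at h4
    rw [h4, Subgroup.index_top] at hN
    exact absurd hN (by norm_num)
  apply h2
  refine (Subgroup.closure_le _).mpr ?_
  rintro z ⟨⟨hzS, hzC⟩, hz2⟩
  refine ⟨⟨z, hzS⟩, H1.mem_frattini_iff.mpr fun M hM => ?_, rfl⟩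
  have : Group.IsNilpotent (S : Subgroup G) := S.isPGroup'.isNilpotent
  have := H1.coatom_normal_of_isNilpotent hM
  have hp := H1.index_prime_of_coatom_normal hM
  have hi : M.index = 2 := by
    obtain ⟨k, hk⟩ := S.isPGroup'.index M
    rw [hk] at hp ⊢
    rw [hp.eq_one_of_pow, pow_one]
  obtain ⟨g, hg, hgS⟩ := H4.exists_conj_mem_extremal hG (M := M.map (S : Subgroup G).subtype)
    (S := S) (T := S) (Subgroup.map_subtype_le M)
    (by rw [Subgroup.relIndex, Subgroup.subgroupOf,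
      Subgroup.comap_map_eq_self_of_injective (Subgroup.subtype_injective _), hi])
    (Nat.not_even_iff_odd.mp (by rw [even_iff_two_dvd]; exact S.not_dvd_index)) hz2 S.isPGroup'
    (fun x hx => hzC x hx)
  have hn : g⁻¹ ∈ Subgroup.normalizer ((S : Subgroup G) : Set G) :=
    Subgroup.mem_normalizer_fintype fun x hx => by rw [inv_inv]; exact hgS x hx
  have h5 := h3 _ hn z (Subgroup.subset_closure ⟨⟨hzS, hzC⟩, hz2⟩)
  rw [inv_inv] at h5
  rw [h5] at hg
  obtain ⟨y, hy, rfl⟩ := hg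
  exact hy

end Cfsg.Agent.S2872
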