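import Cfsg.Statements.S2874
import Mathlib


set_option autoImplicit false
open Cfsg

namespace Cfsg.Agent.S2874

open Matrix in
theorem a4_gens : ∃ r a : alternatingGroup (Fin 4), r ^ 3 = 1 ∧ r ≠ 1 ∧ a * a = 1 ∧ a ≠ 1 ∧
    a * (r * a * r⁻¹) = r⁻¹ * a * r ∧ (r * a * r⁻¹) * a = r⁻¹ * a * r ∧
    ∀ g, ∃ i j : Fin 3, g = r ^ (i : ℕ) ∨ g = r ^ (i : ℕ) * a * r ^ (j : ℕ) :=
  ⟨⟨Equiv.swap 0 1 * Equiv.swap 1 2, by simp⟩, ⟨Equiv.swap 0 1 * Equiv.swap 2 3, by simp⟩,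
    by decide, by decide, by decide, by decide, by decide, by decide, by decide +kernel⟩

theorem shape {R : Type*} [CommRing R] (a : Matrix (Fin 2) (Fin 2) R) (h1 : a * a = 1)
    (h2 : a * (!![0, -1; 1, -1] * a * !![-1, 1; -1, 0]) = !![-1, 1; -1, 0] * a * !![0, -1; 1, -1])
    (h3 : (!![0, -1; 1, -1] * a * !![-1, 1; -1, 0]) * a = !![-1, 1; -1, 0] * a * !![0, -1; 1, -1]) :
    ∃ s t : R, 2 * s = 0 ∧ 2 * t = 0 ∧ a = !![1 + t, s; s + t, 1 + t] := by
  obtain ⟨x, y, z, u, rfl⟩ : ∃ x y z u, a = !![x, y; z, u] := ⟨_, _, _, _, Matrix.eta_fin_two a⟩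
  simp only [← Matrix.ext_iff, Fin.forall_fin_two] at h1 h2 h3
  simp at h1 h2 h3
  refine ⟨y, x - 1, ?_, ?_, ?_⟩
  · grind
  · grind
  · ext i j; fin_cases i <;> fin_cases j <;> simp <;> grind

/-- The standard element of order three. -/
def W (R : Type*) [CommRing R] : GL (Fin 2) R :=
  ⟨!![0, -1; 1, -1], !![-1, 1; -1, 0], by ext i j; fin_cases i <;> fin_cases j <;> simp,
    by ext i j; fin_cases i <;> fin_cases j <;> simp⟩

theorem two_torsion {k : ℕ} (x : ZMod (2 ^ (k + 1))) (h : 2 * x = 0) : x = 0 ∨ x = 2 ^ k := by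
  have h1 : ((2 * x.val : ℕ) : ZMod (2 ^ (k + 1))) = 0 := by simpa using h
  rw [ZMod.natCast_eq_zero_iff] at h1
  obtain ⟨c, hc⟩ : 2 ^ k ∣ x.val :=
    (Nat.mul_dvd_mul_iff_left two_pos).1 ((pow_succ' 2 k).symm.dvd.trans h1)
  have h2 := x.val_lt
  rw [hc, pow_succ, Nat.mul_lt_mul_left (by positivity)] at h2
  rw [← ZMod.natCast_zmod_val x, hc]
  interval_cases c <;> simp

theorem isUnit_of_cast {k : ℕ} (x : ZMod (2 ^ (k + 1)))
    (h : ZMod.castHom (dvd_pow_self 2 k.succ_ne_zero) (ZMod 2) x ≠ 0) : IsUnit x := by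
  rw [← ZMod.natCast_zmod_val x] at h ⊢
  rw [map_natCast, Ne, ZMod.natCast_eq_zero_iff_even, Nat.not_even_iff_odd] at h
  exact (ZMod.isUnit_iff_coprime _ _).2 (Nat.Coprime.pow_right _ (Nat.coprime_two_right.2 h))

theorem exists_conj {k : ℕ} (r : GL (Fin 2) (ZMod (2 ^ (k + 1)))) (h3 : r ^ 3 = 1) (h1 : r ≠ 1) :
    ∃ P : GL (Fin 2) (ZMod (2 ^ (k + 1))), r = P * W _ * P⁻¹ := by
  let φ := ZMod.castHom (dvd_pow_self 2 k.succ_ne_zero) (ZMod 2)
  have key : ∀ a b c d : ZMod 2, (!![a, b; c, d] ^ 3 = 1) →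
      (!![a, b; c, d] ^ 2 + !![a, b; c, d] + 1).det ≠ 0 ∨ ((!![a, b; c, d] - 1).det ≠ 0 ∧ c ≠ 0) := by
    decide +kernel
  have h4 : r.1 ^ 3 = 1 := by rw [← Units.val_pow_eq_pow_val, h3, Units.val_one]
  have h5 : (r.1 - 1) * (r.1 ^ 2 + r.1 + 1) = 0 := by rw [← sub_eq_zero.2 h4]; noncomm_ring
  have e := Matrix.eta_fin_two (φ.mapMatrix r.1)
  have hu : ∀ M : Matrix (Fin 2) (Fin 2) (ZMod (2 ^ (k + 1))), (φ.mapMatrix M).det ≠ 0 → IsUnit M :=
    fun M h => (Matrix.isUnit_iff_isUnit_det M).2 (isUnit_of_cast _ (by rwa [RingHom.map_det]))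
  rcases key _ _ _ _ (by rw [← e, ← map_pow, h4, map_one]) with h | ⟨h, h'⟩
  · rw [(hu _ (by rwa [map_add, map_add, map_pow, map_one, e])).mul_left_eq_zero, sub_eq_zero] at h5
    exact absurd (Units.ext h5) h1
  · rw [(hu _ (by rwa [map_sub, map_one, e])).mul_right_eq_zero] at h5
    obtain ⟨P, hP⟩ := (Matrix.isUnit_iff_isUnit_det !![1, r.1 0 0; 0, r.1 1 0]).2
      (by simpa using isUnit_of_cast _ h')
    refine ⟨P, eq_mul_inv_of_mul_eq (Units.ext ?_)⟩
    have e1 := congrFun (congrFun h5 0) 0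
    have e2 := congrFun (congrFun h5 1) 0
    simp [pow_two, Matrix.mul_apply] at e1 e2
    ext i j
    fin_cases i <;> fin_cases j <;> simp [hP, W, Matrix.mul_apply]
    · linear_combination e1
    · linear_combination e2

theorem normal_form {k : ℕ} (H : Subgroup (GL (Fin 2) (ZMod (2 ^ (k + 1)))))
    (e : ↥H ≃* ↥(alternatingGroup (Fin 4))) : ∃ P : GL (Fin 2) (ZMod (2 ^ (k + 1))),
      ∃ a : GL (Fin 2) (ZMod (2 ^ (k + 1))), a.1 = !![1, 2 ^ k; 2 ^ k, 1] ∧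
        H = (Subgroup.closure {W _, a}).map (MulAut.conj P).toMonoidHom := by
  obtain ⟨r, a, h1, h2, h3, h4, h5, h6, h7⟩ := a4_gens
  let ψ := H.subtype.comp e.symm.toMonoidHom
  have hψ : Function.Injective ψ := H.subtype_injective.comp e.symm.injective
  obtain ⟨P, hP⟩ := exists_conj (ψ r) (by rw [← map_pow, h1, map_one])
    fun h => h2 (hψ (h.trans (map_one ψ).symm))
  let χ := (MulAut.conj P⁻¹).toMonoidHom.comp ψ
  have hr : χ r = W _ := by simp [χ, hP, mul_assoc]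
  have hχ : Function.Injective χ := (MulAut.conj P⁻¹).injective.comp hψ
  have hcl : ∀ b, b = a ∨ b = r * a * r⁻¹ ∨ b = r⁻¹ * a * r →
      H = (Subgroup.closure {W _, χ b}).map (MulAut.conj P).toMonoidHom := fun b hb => by
    have h8 : Subgroup.closure {r, b} = ⊤ := by
      have m1 : r ∈ Subgroup.closure {r, b} := Subgroup.subset_closure (by simp)
      have m2 : b ∈ Subgroup.closure {r, b} := Subgroup.subset_closure (by simp)
      have m3 : a ∈ Subgroup.closure {r, b} := by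
        rcases hb with rfl | rfl | rfl
        · exact m2
        · simpa [mul_assoc] using mul_mem (mul_mem (inv_mem m1) m2) m1
        · simpa [mul_assoc] using mul_mem (mul_mem m1 m2) (inv_mem m1)
      rw [eq_top_iff]
      intro g _
      obtain ⟨i, j, rfl | rfl⟩ := h7 g
      · exact pow_mem m1 _
      · exact mul_mem (mul_mem (pow_mem m1 _) m3) (pow_mem m1 _)
    rw [← hr, ← Set.image_pair, ← MonoidHom.map_closure, h8, Subgroup.map_map,
      show (MulAut.conj P).toMonoidHom.comp χ = ψ from MonoidHom.ext fun g => by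
        simp [χ, mul_assoc], ← Subgroup.map_map, Subgroup.map_top_of_surjective _ e.symm.surjective,
      ← MonoidHom.range_eq_map, H.range_subtype]
  have v1 := congrArg (fun g => (χ g).1) h3
  have v2 := congrArg (fun g => (χ g).1) h5
  have v3 := congrArg (fun g => (χ g).1) h6
  simp only [map_mul, map_inv, hr, map_one, Units.val_mul, Units.val_one] at v1 v2 v3
  obtain ⟨s, t, hs, ht, ha⟩ := shape _ v1 v2 v3
  have h2k : (2 : ZMod (2 ^ (k + 1))) ^ k + 2 ^ k = 0 := by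
    rw [← two_mul, ← pow_succ']; exact_mod_cast ZMod.natCast_self (2 ^ (k + 1))
  rcases two_torsion s hs with rfl | rfl <;> rcases two_torsion t ht with rfl | rfl
  · exact absurd (hχ (Units.ext (by rw [ha, map_one]; simp [Matrix.one_fin_two]))) h4
  · refine ⟨P, _, ?_, hcl _ (Or.inr (Or.inl rfl))⟩
    simp only [map_mul, map_inv, hr, Units.val_mul, ha]
    ext i j
    fin_cases i <;> fin_cases j <;> simp [W, Matrix.mul_apply] <;> grind
  · exact ⟨P, _, by simpa using ha, hcl _ (Or.inl rfl)⟩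
  · refine ⟨P, _, ?_, hcl _ (Or.inr (Or.inr rfl))⟩
    simp only [map_mul, map_inv, hr, Units.val_mul, ha]
    ext i j
    fin_cases i <;> fin_cases j <;> simp [W, Matrix.mul_apply] <;> grind

/-- For k ≥ 2, any two subgroups of GL₂(ℤ/2ᵏℤ) (the automorphism group of the homocyclic group ℤ/2ᵏ × ℤ/2ᵏ) that are isomorphic to the alternating group of degree 4 are conjugate. -/
theorem result (k : ℕ) (hk : 2 ≤ k) (H₁ H₂ : Subgroup (GL (Fin 2) (ZMod (2 ^ k)))) (h₁ : Nonempty (↥H₁ ≃* ↥(alternatingGroup (Fin 4)))) (h₂ : Nonempty (↥H₂ ≃* ↥(alternatingGroup (Fin 4)))) : ∃ g : GL (Fin 2) (ZMod (2 ^ k)), H₂ = H₁.map (MulAut.conj g).toMonoidHom := by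
  obtain ⟨k, rfl⟩ : ∃ j, k = j + 1 := ⟨k - 1, by omega⟩
  obtain ⟨P, a, ha, rfl⟩ := normal_form H₁ h₁.some
  obtain ⟨Q, b, hb, rfl⟩ := normal_form H₂ h₂.some
  refine ⟨Q * P⁻¹, ?_⟩
  rw [Subgroup.map_map, Units.ext (hb.trans ha.symm)]
  congr 1
  ext g : 1
  simp [mul_assoc]

end Cfsg.Agent.S2874
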