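import Cfsg.Statements.S2879
import Cfsg.Agent.H1.SL23

set_option autoImplicit false
set_option linter.style.haveILetI false
set_option linter.unusedVariables false
open Cfsg

namespace Cfsg.Agent.S2879

open Subgroup
open scoped commutatorElement

theorem mem_normalizer_zpowers {G : Type*} [Group G] [Finite G] {a k : G}
    (h : k * a * k⁻¹ ∈ zpowers a) : k ∈ normalizer (zpowers a : Set G) :=
  H8.mem_normalizer_of_forall (by
    rintro _ ⟨n, rfl⟩
    simp only
    rw [← conj_zpow]; exact zpow_mem h n)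

theorem main {G : Type*} [Group G] [Finite G] (hsol : Group.IsSolvable G)
    (hO : pPrimeCore 2 G = ⊥) (T : Sylow 2 G) (x : G) (hxT : x ∈ (T : Subgroup G))
    (hidx : (zpowers x).relIndex T ∣ 2) (y : G) (hyT : y ∈ (T : Subgroup G)) (hyX : y ∉ zpowers x)
    (hC : ∀ y ∈ (T : Subgroup G), y ∉ zpowers x → ∀ c ∈ zpowers x, c * y = y * c → c ^ 2 = 1)
    (hx2 : x ^ 2 ≠ 1) (hne : (T : Subgroup G) ≠ ⊤)
    (hZ : ((T : Subgroup G) ⊓ centralizer ((T : Subgroup G) : Set G)).Normal) :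
    ∃ U : Subgroup G, U.Normal ∧ Nonempty (↥U ≃* Matrix.SpecialLinearGroup (Fin 2) (ZMod 3)) := by
  haveI : Fact (Nat.Prime 2) := ⟨Nat.prime_two⟩
  haveI : Fact (Nat.Prime 3) := ⟨Nat.prime_three⟩
  set Q := pCore 2 G with hQdef
  haveI hQn : Q.Normal := inferInstance
  have hQ : IsPGroup 2 Q := H7.isPGroup_pCore 2 G
  have hQT : Q ≤ T := hQ.le_sylow_of_normal T
  have hCQ : centralizer (Q : Set G) ≤ Q := by
    have h1 : fittingSubgroup G ≤ Q := by
      have := L0.fitting_le_pCore_sup_pPrimeCore (G := G) 2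
      rwa [hO, sup_bot_eq] at this
    exact (centralizer_le h1).trans (H1.centralizer_fitting_le.trans h1)
  have hXT : zpowers x ≤ T := zpowers_le.2 hxT
  have hmul : ∀ u ∈ (T : Subgroup G), ∀ v ∈ (T : Subgroup G), u ∉ zpowers x → v ∉ zpowers x →
      u * v ∈ zpowers x := fun u hu v hv => H9.mul_mem_of_relIndex_two hidx hu hv
  -- the central involution
  have hZ1 : ∀ w ∈ (T : Subgroup G) ⊓ centralizer ((T : Subgroup G) : Set G),
      w ∈ zpowers x ∧ w ^ 2 = 1 := by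
    rintro w ⟨hw, hw'⟩
    have h1 : w ∈ zpowers x := by
      by_contra h
      exact hx2 (hC w hw h x (mem_zpowers x) (mem_centralizer_iff.1 hw' x hxT))
    exact ⟨h1, hC y hyT hyX w h1 (mem_centralizer_iff.1 hw' y hyT).symm⟩
  obtain ⟨⟨z, hz⟩, hz1⟩ := ne_bot_iff_exists_ne_one.1 (H1.inf_centralizer_ne_bot_of_isPGroup
    T.isPGroup' T.isPGroup' le_normalizer (fun h => hyX (by
      rw [h, mem_bot] at hyT; rw [hyT]; exact one_mem _)))
  replace hz1 : z ≠ 1 := fun h => hz1 (Subtype.ext h)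
  have hzc : ∀ h : G, h * z * h⁻¹ = z := fun h =>
    H1.eq_of_sq_eq_one_of_mem_zpowers (hZ1 _ (hZ.conj_mem z hz h)).1 (hZ1 z hz).1
      (hZ1 _ (hZ.conj_mem z hz h)).2 (hZ1 z hz).2 (by simpa using hz1) hz1
  have hzQ : z ∈ Q := H7.le_pCore (T.isPGroup'.to_le inf_le_left) hz
  obtain ⟨n, hn⟩ := (le_zpowers_iff x (Q ⊓ zpowers x)).1 inf_le_right
  have hodd : ∀ g : G, (orderOf g).Coprime 2 → g ∈ normalizer ((Q ⊓ zpowers x : Subgroup G) : Set G) →
      g = 1 := by
    intro g ho hg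
    haveI : IsCyclic (Q ⊓ zpowers x : Subgroup G) := by rw [hn]; infer_instance
    have h1 := H1.mem_centralizer_of_isCyclic_two (hQ.to_le inf_le_left) hg ho
    have h2 : g ∈ centralizer (Q : Set G) := by
      refine H8.mem_centralizer_of_commutator_commute hQ (le_normalizer_of_normal (mem_top g)) ho
        fun u hu => mem_centralizer_iff.1 h1 _ ?_
      have h3 : g * u * g⁻¹ ∈ Q := hQn.conj_mem u hu g
      refine ⟨Q.mul_mem h3 (Q.inv_mem hu), ?_⟩
      by_cases h4 : u ∈ zpowers x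
      · exact mul_mem ((mem_normalizer_iff.1 hg u).1 ⟨hu, h4⟩).2 ((zpowers x).inv_mem h4)
      · exact hmul _ (hQT h3) _ (hQT (Q.inv_mem hu))
          (fun h5 => h4 ((mem_normalizer_iff.1 hg u).2 ⟨h3, h5⟩).2) (by simpa using h4)
    exact H8.eq_one_of_pElt_of_coprime (H8.isPGroup_iff_forall.1 hQ g (hCQ h2)) ho
  have hNT : normalizer ((Q ⊓ zpowers x : Subgroup G) : Set G) ≤ T := by
    refine (T.is_maximal' (H8.isPGroup_iff_forall.2 fun k hk => ?_) (L0.le_normalizer_inf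
      le_normalizer_of_normal (H9.le_normalizer_of_relIndex_two hXT hidx))).le
    obtain ⟨j, hj⟩ := H8.exists_pow_coprime 2 k
    exact ⟨j, hodd _ hj (pow_mem hk _)⟩
  obtain ⟨g, hg1, hgo⟩ : ∃ g : G, g ≠ 1 ∧ (orderOf g).Coprime 2 := by
    obtain ⟨r, hr, hd⟩ := Nat.exists_prime_and_dvd (index_eq_one.not.2 hne)
    haveI := Fact.mk hr
    obtain ⟨g, hg⟩ := exists_prime_orderOf_dvd_card' (G := G) r (hd.trans (index_dvd_card _))
    refine ⟨g, by rintro rfl; exact hr.ne_one (by simpa using hg.symm), ?_⟩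
    rw [hg, Nat.coprime_primes hr Nat.prime_two]
    rintro rfl
    exact T.not_dvd_index hd
  have hg2 : g ^ 2 ∉ normalizer ((Q ⊓ zpowers x : Subgroup G) : Set G) := fun h =>
    hg1 (H8.eq_one_of_pElt_of_coprime ⟨1, hodd _ (hgo.coprime_dvd_left (orderOf_pow_dvd 2)) h⟩ hgo)
  have key : ∀ a : G, Q ⊓ zpowers x = zpowers a → g * a * g⁻¹ ∉ zpowers x ∧ a ^ 4 = 1 ∧ a ^ 2 = z ∧
      (g * a * g⁻¹) * a * (g * a * g⁻¹)⁻¹ = a⁻¹ ∧
      (∀ q ∈ Q, q ∈ zpowers a ∨ q * (g * a * g⁻¹)⁻¹ ∈ zpowers a) := by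
    intro a ha
    have haQ : a ∈ Q ⊓ zpowers x := ha ▸ mem_zpowers a
    have hbQ : g * a * g⁻¹ ∈ Q := hQn.conj_mem a haQ.1 g
    have hbX : g * a * g⁻¹ ∉ zpowers x := fun h =>
      hg1 (hodd g hgo (by rw [ha]; exact mem_normalizer_zpowers (ha ▸ ⟨hbQ, h⟩)))
    have h4 : a ^ 4 = 1 := by
      have := hC _ (hQT hbQ) hbX _ (hmul _ (hQT hbQ) _ (hQT hbQ) hbX hbX) (by group)
      rw [← pow_two, ← pow_mul, conj_pow] at this
      simpa using this
    have hza : z ∈ zpowers a := ha ▸ ⟨hzQ, (hZ1 z hz).1⟩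
    have h2 : a ^ 2 ≠ 1 := by
      intro h
      have h5 : a = z := H1.eq_of_sq_eq_one_of_mem_zpowers (mem_zpowers a) hza h (hZ1 z hz).2
        (by rintro rfl; exact hbX (by simp)) hz1
      rw [h5, hzc] at hbX
      exact hbX (hZ1 z hz).1
    have h2' : a ^ 2 = z := H1.eq_of_sq_eq_one_of_mem_zpowers (pow_mem (mem_zpowers a) 2) hza
      (by rw [← pow_mul]; exact h4) (hZ1 z hz).2 h2 hz1
    refine ⟨hbX, h4, h2', ?_, fun q hq => ?_⟩
    · have h5 : (g * a * g⁻¹) * a * (g * a * g⁻¹)⁻¹ ∈ zpowers a := by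
        rw [← ha]
        exact ⟨hQn.conj_mem a haQ.1 _, (mem_normalizer_iff.1
          (H9.le_normalizer_of_relIndex_two hXT hidx (hQT hbQ)) a).1 haQ.2⟩
      rcases H1.mem_zpowers_four h4 h5 with h | h | h | h
      · rw [conj_eq_one_iff] at h
        exact absurd (by rw [h, one_pow]) h2
      · exact absurd (hC _ (hQT hbQ) hbX a haQ.2 (mul_inv_eq_iff_eq_mul.1 h).symm) h2
      · have h6 := congrArg (· ^ 2) h
        simp only [conj_pow] at h6
        rw [← pow_mul, h4, conj_eq_one_iff] at h6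
        exact absurd h6 h2
      · exact h
    · rw [← ha]
      by_cases h : q ∈ zpowers x
      · exact Or.inl ⟨hq, h⟩
      · exact Or.inr ⟨Q.mul_mem hq (Q.inv_mem hbQ),
          hmul _ (hQT hq) _ (hQT (inv_mem hbQ)) h (by rwa [inv_mem_iff])⟩
  obtain ⟨a, ha, hc⟩ : ∃ a, Q ⊓ zpowers x = zpowers a ∧
      g * (g * a * g⁻¹) * g⁻¹ = a * (g * a * g⁻¹) := by
    set a := x ^ n
    obtain ⟨hbX, h4, h2, hba, hq⟩ := key a hn
    have haQ : a ∈ Q ⊓ zpowers x := hn ▸ mem_zpowers a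
    have hb2 : (g * a * g⁻¹) ^ 2 = a ^ 2 := by rw [conj_pow, h2, hzc]
    rcases hq _ (hQn.conj_mem _ (hQn.conj_mem a haQ.1 g) g) with h | h
    · exact absurd (by rw [hn]; exact mem_normalizer_zpowers (by
        convert h using 1; simp only [pow_two]; group)) hg2
    rcases H1.mem_zpowers_four h4 h with h | h | h | h
    · rw [mul_inv_eq_one, mul_left_inj, mul_right_inj] at h
      exact absurd (h.symm ▸ haQ.2) hbX
    · exact ⟨a, hn, mul_inv_eq_iff_eq_mul.1 h⟩
    · rw [mul_inv_eq_iff_eq_mul, ← hb2, ← pow_succ, conj_pow, mul_left_inj, mul_right_inj] at h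
      exact absurd (h.symm ▸ pow_mem haQ.2 _) hbX
    · refine ⟨a⁻¹, by rw [zpowers_inv, hn], ?_⟩
      rw [mul_inv_eq_iff_eq_mul] at h
      set b := g * a * g⁻¹ with hb
      have e1 : g * a⁻¹ * g⁻¹ = b⁻¹ := by rw [hb]; group
      have e2 : g * b⁻¹ * g⁻¹ = b⁻¹ * a := by rw [← conj_inv, h]; group
      rw [e1, e2, ← mul_left_cancel_iff (a := b), mul_inv_cancel_left, ← mul_assoc, ← conj_inv, hba,
        inv_inv]
  obtain ⟨hbX, h4, h2, hba, hq⟩ := key a ha
  set b := g * a * g⁻¹ with hb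
  have haQ : a ∈ Q ⊓ zpowers x := ha ▸ mem_zpowers a
  have hb2 : b ^ 2 = a ^ 2 := by rw [hb, conj_pow, h2, hzc]
  have hbab : b * a * b = a := by
    calc b * a * b = (b * a * b⁻¹) * b ^ 2 := by simp only [pow_two]; group
      _ = a := by rw [hba, hb2]; group
  have hg3 : g ^ 3 = 1 := by
    refine hodd _ (hgo.coprime_dvd_left (orderOf_pow_dvd 3)) ?_
    rw [ha]
    refine mem_normalizer_zpowers ?_
    have : g ^ 3 * a * (g ^ 3)⁻¹ = a := by
      calc g ^ 3 * a * (g ^ 3)⁻¹ = g * (g * b * g⁻¹) * g⁻¹ := by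
            rw [hb]; simp only [pow_succ, pow_zero, one_mul, mul_inv_rev, mul_assoc]
        _ = g * (a * b) * g⁻¹ := by rw [hc]
        _ = (g * a * g⁻¹) * (g * b * g⁻¹) := by group
        _ = a := by rw [hc, ← hb, ← mul_assoc, hbab]
    rw [this]; exact mem_zpowers a
  obtain ⟨φ, hφa, hφg⟩ := H1.exists_hom_sl23 a g h4 hg3
    (by rw [h2]; exact (mul_inv_eq_iff_eq_mul.1 (hzc g)).symm) (by
      calc (a * g) ^ 3 = a * b * (g * b * g⁻¹) * g ^ 3 := by
            rw [hb]; simp only [pow_succ, pow_zero, one_mul, mul_assoc, inv_mul_cancel_left]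
        _ = a * (b * a * b⁻¹) * b ^ 2 := by rw [hc, hg3]; simp only [pow_two]; group
        _ = a ^ 2 := by rw [hba, hb2]; group)
  have haU : zpowers a ≤ φ.range := zpowers_le.2 ⟨_, hφa⟩
  have hgU : g ∈ φ.range := ⟨_, hφg⟩
  have hbU : b ∈ φ.range := mul_mem (mul_mem hgU (haU (mem_zpowers a))) (inv_mem hgU)
  have hQU : Q ≤ φ.range := fun q hq' => by
    rcases hq q hq' with h | h
    · exact haU h
    · simpa using mul_mem (haU h) hbU
  have ho3 : orderOf g = 3 := orderOf_eq_prime hg3 hg1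
  have h3 : 3 ∣ Nat.card φ.range := ho3.symm.dvd.trans (φ.range.orderOf_dvd_natCard hgU)
  have h8 : 8 ∣ Nat.card Q := by
    have ho4 : orderOf a = 2 ^ 2 := orderOf_eq_prime_pow (by rw [pow_one, h2]; exact hz1) h4
    rw [← H8.card_mul_relIndex (zpowers_le.2 haQ.1), Nat.card_zpowers, ho4]
    exact mul_dvd_mul_left 4 (H8.dvd_relIndex_of_not_le hQ fun h =>
      hbX (ha.ge (h (hQn.conj_mem a haQ.1 g))).2)
  have hinj : Function.Injective φ := by
    refine H3.Words.injective_of_card_range φ ?_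
    rw [H1.card_sl23]
    exact Nat.le_of_dvd Nat.card_pos
      (Nat.Coprime.mul_dvd_of_dvd_of_dvd (by norm_num : Nat.Coprime 8 3)
        (h8.trans (card_dvd_of_le hQU)) h3)
  refine ⟨φ.range, ?_, ⟨(MonoidHom.ofInjective hinj).symm⟩⟩
  have hi3 : (T : Subgroup G).index ≤ 3 := by
    have hs : Function.Surjective fun i : Fin 3 => ((g ^ (i : ℕ) : G) : G ⧸ (T : Subgroup G)) := by
      intro w
      induction w using QuotientGroup.induction_on with | H h => ?_
      have hN : ∀ i : Fin 3, (g ^ (i : ℕ))⁻¹ * (h * a * h⁻¹) * g ^ (i : ℕ) ∈ zpowers a →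
          ∃ i : Fin 3, ((g ^ (i : ℕ) : G) : G ⧸ (T : Subgroup G)) = h := fun i hi =>
        ⟨i, QuotientGroup.eq.2 (hNT (by
          rw [ha]; exact mem_normalizer_zpowers (by convert hi using 1; group)))⟩
      rcases hq _ (hQn.conj_mem a haQ.1 h) with h1 | h1
      · exact hN 0 (by simpa using h1)
      have hc' : (g ^ 2)⁻¹ * (a * b) * g ^ 2 = a := by
        rw [← hc, hb]; simp only [pow_two]; group
      rcases H1.mem_zpowers_four h4 h1 with h1 | h1 | h1 | h1 <;> rw [mul_inv_eq_iff_eq_mul] at h1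
      · refine hN 1 ?_
        rw [h1, hb]; simp [mul_assoc]
      · refine hN 2 ?_
        rw [h1]; change (g ^ 2)⁻¹ * (a * b) * g ^ 2 ∈ _
        rw [hc']; exact mem_zpowers a
      · refine hN 1 ?_
        rw [h1, ← hb2, ← pow_succ, hb, conj_pow]; simp [mul_assoc]
      · refine hN 2 ?_
        have e : a⁻¹ * b = (a * b)⁻¹ := by
          rw [eq_inv_iff_mul_eq_one]
          calc a⁻¹ * b * (a * b) = a⁻¹ * (b * a * b) := by group
            _ = 1 := by rw [hbab]; group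
        rw [h1, e]
        change (g ^ 2)⁻¹ * (a * b)⁻¹ * g ^ 2 ∈ _
        have : (g ^ 2)⁻¹ * (a * b)⁻¹ * g ^ 2 = ((g ^ 2)⁻¹ * (a * b) * g ^ 2)⁻¹ := by group
        rw [this, hc']; exact inv_mem (mem_zpowers a)
    simpa [index_eq_card] using Nat.card_le_card_of_surjective _ hs
  have h6 : Q.index ∣ 6 :=
    (index_dvd_of_le (H7.le_pCore (T.isPGroup'.to_le (normalCore_le _)))).trans
      ((H1.index_normalCore_dvd_factorial _).trans (Nat.factorial_dvd_factorial hi3))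
  have h7 : 3 ∣ Q.relIndex φ.range := by
    obtain ⟨k, hk⟩ := hQ.exists_card_eq
    rw [← H8.card_mul_relIndex hQU, hk] at h3
    exact (Nat.Coprime.pow_right k (by norm_num : Nat.Coprime 3 2)).dvd_of_dvd_mul_left h3
  rw [← relIndex_mul_index hQU] at h6
  have h9 : φ.range.index ∣ 2 :=
    Nat.dvd_of_mul_dvd_mul_left (by norm_num : 0 < 3) ((mul_dvd_mul_right h7 _).trans h6)
  rcases (Nat.dvd_prime Nat.prime_two).1 h9 with h | h
  · exact normal_of_index_eq_one h
  · exact normal_of_index_eq_two h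

/-- The common shape of dihedral and semidihedral groups. -/
def Shape (S : Type*) [Group S] : Prop :=
  ∃ x y : S, (∀ u v, u ∉ zpowers x → v ∉ zpowers x → u * v ∈ zpowers x) ∧ y ∉ zpowers x ∧
    (∀ y, y ∉ zpowers x → ∀ c ∈ zpowers x, c * y = y * c → c ^ 2 = 1) ∧ x ^ 2 ≠ 1

theorem Shape.of_equiv {S S' : Type*} [Group S] [Group S'] (e : S ≃* S') (h : Shape S') :
    Shape S := by
  obtain ⟨x, y, h1, h2, h3, h4⟩ := h
  have hm : ∀ u, u ∈ zpowers (e.symm x) ↔ e u ∈ zpowers x := fun u => by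
    constructor
    · rintro ⟨k, rfl⟩; exact ⟨k, by simp⟩
    · rintro ⟨k, hk⟩; exact ⟨k, e.injective (by simpa using hk)⟩
  refine ⟨e.symm x, e.symm y, fun u v hu hv => ?_, by simpa [hm] using h2,
    fun u hu c hc h => e.injective ?_, fun h => h4 (by simpa using congrArg e h)⟩
  · rw [hm] at hu hv ⊢
    rw [map_mul]; exact h1 _ _ hu hv
  · rw [hm] at hu hc
    rw [map_pow, map_one]
    exact h3 _ hu _ hc (by simpa using congrArg e h)

theorem shape_dihedral {n : ℕ} (hn : 4 ≤ n) : Shape (DihedralGroup n) := by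
  haveI : NeZero n := ⟨by omega⟩
  have h1 : ∀ i, DihedralGroup.r i ∈ zpowers (DihedralGroup.r 1 : DihedralGroup n) := fun i =>
    ⟨i.val, by simp⟩
  have h2 : ∀ i, DihedralGroup.sr i ∉ zpowers (DihedralGroup.r 1 : DihedralGroup n) := by
    rintro i ⟨k, hk⟩
    simp at hk
  refine ⟨DihedralGroup.r 1, DihedralGroup.sr 0, ?_, h2 0, ?_, fun h => ?_⟩
  · rintro (i | i) (j | j) hu hv
    · exact absurd (h1 _) hu
    · exact absurd (h1 _) hu
    · exact absurd (h1 _) hv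
    · exact h1 _
  · rintro (j | j) hy (i | i) hc h
    · exact absurd (h1 _) hy
    · exact absurd (h1 _) hy
    · simp only [DihedralGroup.r_mul_sr, DihedralGroup.sr_mul_r, DihedralGroup.sr.injEq] at h
      rw [pow_two, DihedralGroup.r_mul_r, DihedralGroup.one_def]
      congr 1
      linear_combination -h
    · exact absurd hc (h2 _)
  · have := Nat.le_of_dvd two_pos (orderOf_dvd_of_pow_eq_one h)
    rw [DihedralGroup.orderOf_r_one] at this
    omega

theorem shape_quasi {S : Type*} [Group S] (h : IsQuasiDihedral S) : Shape S := by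
  obtain ⟨n, hn, hS, x, y, hx, hy, hxy⟩ := h
  obtain ⟨m, rfl⟩ : ∃ m, n = m + 3 := ⟨n - 3, by omega⟩
  have hi : (zpowers x).index = 2 := by
    have := (zpowers x).card_mul_index
    rw [Nat.card_zpowers, hx, hS, pow_succ 2 (m + 3)] at this
    exact Nat.eq_of_mul_eq_mul_left (by positivity) this
  have h1 : ∀ u v, u ∉ zpowers x → v ∉ zpowers x → u * v ∈ zpowers x := fun u v hu hv =>
    (mul_mem_iff_of_index_two hi).2 (by tauto)
  have h2 : ∀ c ∈ zpowers x, c * y = y * c → c ^ 2 = 1 := by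
    rintro _ ⟨k, rfl⟩ h
    simp only at h ⊢
    have e1 : (x ^ k) ^ (2 ^ (m + 3 - 1) - 1) = x ^ k := by
      rw [← zpow_natCast, ← zpow_mul, mul_comm, zpow_mul, zpow_natCast, ← hxy, conj_zpow, ← h]
      group
    have e2 : 2 ^ (m + 3 - 1) - 1 = 2 * (2 ^ (m + 1) - 1) + 1 := by
      have : 1 ≤ 2 ^ (m + 1) := Nat.one_le_two_pow
      rw [show m + 3 - 1 = m + 1 + 1 by omega, pow_succ]; omega
    rw [e2, pow_succ, mul_eq_right, pow_mul] at e1
    refine H8.eq_one_of_pow_coprime (n := 2 ^ (m + 3)) (Nat.Coprime.pow_right _ ?_) e1 ?_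
    · rw [Nat.coprime_two_right]
      exact Nat.Even.sub_odd Nat.one_le_two_pow (by simp [Nat.even_pow]) odd_one
    · rw [← pow_mul, mul_comm, pow_mul, ← zpow_natCast (x ^ k), ← zpow_mul, mul_comm, zpow_mul,
        zpow_natCast, ← hx, pow_orderOf_eq_one, one_zpow, one_pow]
  have h3 : x ^ 2 ≠ 1 := fun h => by
    have := Nat.le_of_dvd two_pos (orderOf_dvd_of_pow_eq_one h)
    rw [hx, pow_add] at this
    have : 1 ≤ 2 ^ m := Nat.one_le_two_pow
    omega
  have h4 : y ∉ zpowers x := by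
    rintro ⟨k, hk⟩
    exact h3 (h2 x (mem_zpowers x) (by rw [← hk]; simp only; group))
  refine ⟨x, y, h1, h4, fun w hw c hc h => h2 c hc ?_, h3⟩
  obtain ⟨k, hk⟩ := h1 w y⁻¹ hw (by rwa [inv_mem_iff])
  obtain ⟨j, rfl⟩ := hc
  simp only at hk h ⊢
  have e : y = (x ^ k)⁻¹ * w := by rw [hk]; group
  rw [e, mul_assoc _ w, ← h]; group

/-- Let G be a finite solvable group with O(G) = 1 whose Sylow 2-subgroup T is dihedral of order at least 8 or semidihedral, with G ≠ T and Z(T) normal in G. Then G has a normal subgroup isomorphic to SL₂(3). -/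
theorem result {G : Type*} [Group G] [Finite G] (hsol : IsSolvable G) (hO : Cfsg.oddCore G = ⊥) (T : Sylow 2 G) (hT : (∃ n : ℕ, 4 ≤ n ∧ Nonempty (↥(T : Subgroup G) ≃* DihedralGroup n)) ∨ Cfsg.IsQuasiDihedral ↥(T : Subgroup G)) (hne : (T : Subgroup G) ≠ ⊤) (hZ : ((T : Subgroup G) ⊓ Subgroup.centralizer ((T : Subgroup G) : Set G)).Normal) : ∃ U : Subgroup G, U.Normal ∧ Nonempty (↥U ≃* Matrix.SpecialLinearGroup (Fin 2) (ZMod 3)) := by
  have h : Shape (T : Subgroup G) := by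
    rcases hT with ⟨n, hn, ⟨e⟩⟩ | h
    · exact (shape_dihedral hn).of_equiv e
    · exact shape_quasi h
  obtain ⟨x, y, h1, h2, h3, h4⟩ := h
  have hm : ∀ u : (T : Subgroup G), (u : G) ∈ zpowers (x : G) ↔ u ∈ zpowers x := fun u => by
    constructor
    · rintro ⟨k, hk⟩; exact ⟨k, Subtype.ext (by simpa using hk)⟩
    · rintro ⟨k, rfl⟩; exact ⟨k, by simp⟩
  refine main hsol hO T x x.2 (H9.relIndex_dvd_two_of_forall fun a ha b hb ha' hb' => ?_) y y.2
    (by rwa [hm]) (fun w hw hw' c hc h => ?_) (fun h => h4 (Subtype.ext h)) hne hZ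
  · exact (hm (⟨a, ha⟩ * ⟨b, hb⟩)).2 (h1 _ _ (by rwa [← hm]) (by rwa [← hm]))
  · have hcT : c ∈ (T : Subgroup G) := zpowers_le.2 x.2 hc
    exact congrArg Subtype.val
      (h3 ⟨w, hw⟩ (by rwa [← hm]) ⟨c, hcT⟩ (by rwa [← hm]) (Subtype.ext h))

end Cfsg.Agent.S2879
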