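import Cfsg.Statements.S2880
import Cfsg.Agent.L0.Class2
import Cfsg.Agent.H8.Syl
-- import your own Cfsg.Agent.* helpers here

set_option autoImplicit false
open Cfsg

namespace Cfsg.Agent.S2880

open Subgroup Cfsg.L0
open scoped commutatorElement


/-- Let E be an extraspecial 2-group of order 2^(2m+1) of plus type, that is, containing an elementary abelian subgroup of order 2^(m+1) (equivalently, a central product of m dihedral groups of order 8). Then E has exactly 2^(2m) − 2^m elements of order 4. -/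
theorem result {E : Type*} [Group E] [Finite E] (m : ℕ) (hm : 1 ≤ m) (hE : Cfsg.IsExtraspecial 2 E) (hcard : Nat.card E = 2 ^ (2 * m + 1)) (hplus : ∃ A : Subgroup E, Cfsg.IsElementaryAbelian 2 A ∧ Nat.card A = 2 ^ (m + 1)) : Nat.card {x : E // orderOf x = 4} = 2 ^ (2 * m) - 2 ^ m := by
  obtain ⟨A, hA, hAc⟩ := hplus
  obtain ⟨z, hz1, hz2, hZ⟩ := es_two_center hE
  have h := es_le hE
  have hcomm : ∀ a ∈ A, ∀ b ∈ A, a * b = b * a := fun a ha b hb => by
    have := hA.1
    exact congrArg Subtype.val (mul_comm' (⟨a, ha⟩ : A) ⟨b, hb⟩)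
  set B := A ⊔ center E with hB
  have hBC : B ≤ centralizer (B : Set E) := by
    rw [hB, centralizer_sup]
    exact le_inf (sup_le (fun a ha b hb => hcomm b hb a ha) (center_le_centralizer _))
      (le_centralizer_iff.1 (center_le_centralizer _))
  have hB2 : ∀ b ∈ B, b * b = 1 := fun b hb => by
    obtain ⟨a, ha, c, hc, rfl⟩ := mem_sup_of_normal_right.1 hb
    have e1 : a * a = 1 := by rw [← pow_two]; exact hA.2 a ha
    have e2 : c * c = 1 := by rw [← pow_two]; exact es_pow_center hE hc
    calc a * c * (a * c) = a * (c * a) * c := by group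
      _ = a * a * (c * c) := by rw [← mem_center_iff.1 hc a]; group
      _ = 1 := by rw [e1, e2, one_mul]
  have h1 := index_centralizer_eq h (es_isCyclic hE) B
  have h2 := H8.card_mul_relIndex (le_sup_right : center E ≤ B)
  have h3 := (centralizer (B : Set E)).card_mul_index
  have h4 := card_le_of_le hBC
  have h5 := card_le_of_le (le_sup_left : A ≤ B)
  rw [hE.2, ← h1] at h2
  rw [hcard] at h3
  rw [hAc] at h5
  have e0 : 2 ^ (2 * m + 1) = 2 ^ m * 2 ^ (m + 1) := by ring
  have h6 : 2 ^ m ≤ (centralizer (B : Set E)).index := by rw [pow_succ] at h5; omega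
  have h7 : Nat.card (centralizer (B : Set E)) ≤ 2 ^ (m + 1) := by
    refine Nat.le_of_mul_le_mul_left (?_ : 2 ^ m * _ ≤ _) (by positivity)
    rw [← e0, ← h3, mul_comm]; exact Nat.mul_le_mul_left _ h6
  have hBcard : Nat.card B = 2 ^ (m + 1) := le_antisymm (h4.trans h7) h5
  have hCB : B = centralizer (B : Set E) := eq_of_le_of_card_ge hBC (h7.trans h5)
  have hex : ∀ q : E ⧸ B, ∃ a ∈ B, ∀ x : E, (x : E ⧸ B) = q → x ∉ B → ⁅a, x⁆ = z := by
    intro q
    obtain ⟨y, rfl⟩ := QuotientGroup.mk_surjective q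
    by_cases hy : y ∈ B
    · exact ⟨1, one_mem _, fun x hx hxB => absurd (by
        simpa using mul_mem hy (inv_mem (QuotientGroup.eq.1 hx))) hxB⟩
    · rw [hCB, mem_centralizer_iff] at hy
      push Not at hy
      obtain ⟨a, ha, hay⟩ := hy
      refine ⟨a, ha, fun x hx _ => ?_⟩
      have e1 : x = y * (x⁻¹ * y)⁻¹ := by group
      have e2 : ⁅a, (x⁻¹ * y)⁻¹⁆ = 1 :=
        commutatorElement_eq_one_iff_mul_comm.2 (hBC (inv_mem (QuotientGroup.eq.1 hx)) a ha)
      rw [e1, comm_mul_right h, e2, mul_one]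
      exact ((hZ _).1 (comm_mem_center h a y)).resolve_left
        fun e => hay (commutatorElement_eq_one_iff_mul_comm.1 e)
  choose c hc1 hc2 using hex
  set f : E → E := fun x => x * c x with hf
  have hfq : ∀ x, ((f x : E) : E ⧸ B) = x := fun x =>
    (QuotientGroup.eq.2 (by simpa [hf] using hc1 x)).symm
  have hff : ∀ x, f (f x) = x := fun x => by
    change f x * c (f x) = x
    rw [hfq, hf]; simp only [mul_assoc, hB2 _ (hc1 _), mul_one]
  have hfinj : Function.Injective f := Function.LeftInverse.injective hff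
  have hfB : ∀ x, x ∉ B → f x ∉ B := fun x hx e => hx (by simpa [hf] using mul_mem e (inv_mem (hc1 x)))
  have hsq : ∀ x, x ∉ B → f x ^ 2 = x ^ 2 * z := fun x hx => by
    rw [hf, mul_pow_class2 h, hc2 x x rfl hx, pow_two (c x), hB2 _ (hc1 _)]; simp
  set S : Set E := {x | x ∉ B ∧ x ^ 2 = 1} with hS
  set T : Set E := {x | x ∉ B ∧ x ^ 2 = z} with hT
  have hST : S.ncard = T.ncard := by
    refine le_antisymm (Set.ncard_le_ncard_of_injOn f (fun x hx => ⟨hfB x hx.1, ?_⟩) hfinj.injOn)
      (Set.ncard_le_ncard_of_injOn f (fun x hx => ⟨hfB x hx.1, ?_⟩) hfinj.injOn)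
    · rw [hsq x hx.1, hx.2, one_mul]
    · rw [hsq x hx.1, hx.2, hz2]
  have hU : S ∪ T = (B : Set E)ᶜ := by
    ext x
    constructor
    · rintro (hx | hx) <;> exact hx.1
    · intro hx
      rcases (hZ _).1 (es_pow_mem hE x) with e | e
      exacts [Or.inl ⟨hx, e⟩, Or.inr ⟨hx, e⟩]
  have hD : Disjoint S T := Set.disjoint_left.2 fun x h1 h2 => hz1 (h2.2.symm.trans h1.2)
  have h8 := Set.ncard_union_eq hD
  have h9 := Set.ncard_add_ncard_compl (B : Set E)
  have h10 : (B : Set E).ncard = 2 ^ (m + 1) := hBcard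
  rw [← hU, h8, hST, h10, hcard] at h9
  have h11 : {x : E | orderOf x = 4} = T := by
    ext x
    constructor
    · intro hx
      have h2 : x ^ 2 ≠ 1 := fun e => by
        have := orderOf_dvd_of_pow_eq_one e
        rw [hx] at this; exact absurd this (by decide)
      exact ⟨fun e => h2 (by rw [pow_two, hB2 x e]), ((hZ _).1 (es_pow_mem hE x)).resolve_left h2⟩
    · intro hx
      exact orderOf_eq_prime_pow (p := 2) (n := 1) (by rw [pow_one, hx.2]; exact hz1)
        (by rw [pow_succ, pow_one, pow_mul, hx.2, pow_two, hz2])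
  change {x : E | orderOf x = 4}.ncard = _
  rw [h11]
  rw [pow_succ, pow_succ] at h9
  omega

end Cfsg.Agent.S2880
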