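import Cfsg.Statements.S2881
import Cfsg.Agent.S2880
-- import your own Cfsg.Agent.* helpers here

set_option autoImplicit false
open Cfsg

namespace Cfsg.Agent.S2881

theorem ord2 : orderOf (2 : ZMod 5) = 4 :=
  orderOf_eq_prime_pow (p := 2) (n := 1) (by decide) (by decide)


/-- Let E be an extraspecial 2-group of order 2^(2m+1) of plus type (containing an elementary abelian subgroup of order 2^(m+1)), and let ω be an automorphism of E of order 5 whose fixed points are exactly the centre of E. Then m is divisible by 4. -/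
theorem result {E : Type*} [Group E] [Finite E] (m : ℕ) (hm : 1 ≤ m) (hE : Cfsg.IsExtraspecial 2 E) (hcard : Nat.card E = 2 ^ (2 * m + 1)) (hplus : ∃ A : Subgroup E, Cfsg.IsElementaryAbelian 2 A ∧ Nat.card A = 2 ^ (m + 1)) (ω : E ≃* E) (hω : orderOf ω = 5) (hfix : ∀ x : E, ω x = x ↔ x ∈ Subgroup.center E) : 4 ∣ m := by
  have h1 := S2880.result m hm hE hcard hplus
  have : Fact (Nat.Prime 5) := ⟨by norm_num⟩
  have hp : IsPGroup 5 (Subgroup.zpowers (ω : MulAut E)) :=
    IsPGroup.of_card (n := 1) (by rw [Nat.card_zpowers]; exact hω)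
  let X : SubMulAction (Subgroup.zpowers (ω : MulAut E)) E :=
    { carrier := {x | orderOf x = 4}
      smul_mem' := fun g x hx => (MulEquiv.orderOf_eq (g : MulAut E) x).trans hx }
  have h2 := hp.card_modEq_card_fixedPoints X
  have h3 : Nat.card (MulAction.fixedPoints (Subgroup.zpowers (ω : MulAut E)) X) = 0 := by
    rw [Nat.card_eq_zero]
    left
    refine ⟨fun ⟨x, hx⟩ => ?_⟩
    have h4 := (hfix x).1 (congrArg Subtype.val (hx ⟨ω, Subgroup.mem_zpowers _⟩))
    have h5 := orderOf_dvd_of_pow_eq_one (L0.es_pow_center hE h4)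
    have h6 : orderOf (x : E) = 4 := x.2
    rw [h6] at h5; exact absurd h5 (by decide)
  have h4 : Nat.card X = 2 ^ (2 * m) - 2 ^ m := h1
  rw [h3, h4] at h2
  have h5 : 5 ∣ 2 ^ m * (2 ^ m - 1) := by
    rw [Nat.mul_sub_one, ← pow_add, ← two_mul]; exact (Nat.modEq_zero_iff_dvd.1 h2)
  have h6 : 5 ∣ 2 ^ m - 1 := (Nat.Coprime.dvd_mul_left (by
    exact Nat.Coprime.pow_right m (by norm_num))).1 h5
  have h7 : (2 : ZMod 5) ^ m = 1 := by
    have := (ZMod.natCast_eq_zero_iff _ _).2 h6
    rw [Nat.cast_sub Nat.one_le_two_pow, sub_eq_zero] at this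
    exact_mod_cast this
  rw [← ord2]; exact orderOf_dvd_of_pow_eq_one h7

end Cfsg.Agent.S2881
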