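import Cfsg.Statements.S2882
import Cfsg.Agent.H1.Golay
import Cfsg.Agent.H8.Syl

set_option autoImplicit false
set_option linter.style.haveILetI false
set_option linter.unusedVariables false
open Cfsg

namespace Cfsg.Agent.S2882

open Cfsg.H1.Golay in
/-- Tree level of a pair of numbers. -/
def lv (a b : ℕ) : ℕ := (877084265192700025411477708428863281728817499567577965251136052275529739294333898908983707426658403033446099397223767288768753438722284623241951802364754395444385419297175853617203965834147976756192235687032315887263004966217802277308656933650110626308528960294764697680706573988424241748908399506365107099470035284985082063338593852542484824110161679712845849930551067853416831966012593677081566496977313209932408860573712249455708443032191923408566605955153815084499631810576267148753292822949213892627832598921042536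 >>> (3 * (24 * a + b))) % 8

open Cfsg.H1.Golay in
/-- Tree level of a pair of points. -/
def lev (a b : GolayPt) : ℕ := lv (enc a) (enc b)

/-- The permutations preserving the tree. -/
def T : Subgroup (Equiv.Perm GolayPt) :=
  H8.mkSub {σ | ∀ a b, lev (σ a) (σ b) = lev a b} (fun _ _ => rfl)
    fun _ ha _ hb a b => (ha _ _).trans (hb a b)

theorem lev_bin : ∀ a b c, lev a b = lev b c → lev a c + 1 ≤ lev a b ∨ a = b := by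
  decide +kernel

theorem lev_le : ∀ a b, lev a b ≤ 5 := by decide +kernel

theorem lev_zero : ∀ a b, lev a b = 0 ↔ a = b := by decide +kernel

theorem T_pow {σ : Equiv.Perm GolayPt} (h : σ ∈ T) : σ ^ 2 ^ 5 = 1 := by
  have key : ∀ k a, lev a ((σ ^ 2 ^ k) a) ≤ 5 - k := by
    intro k
    induction k with
    | zero => exact fun a => lev_le _ _
    | succ k ih =>
      intro a
      have h1 : σ ^ 2 ^ k ∈ T := pow_mem h _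
      rw [pow_succ, pow_mul, sq, Equiv.Perm.mul_apply]
      rcases lev_bin a _ _ (h1 a _).symm with h2 | h2
      · have := ih a; omega
      · rw [← h2, ← h2, (lev_zero a a).2 rfl]; omega
  ext a
  have := key 5 a
  rw [← (lev_zero _ _).1 (Nat.le_zero.1 this)]; rfl

/-- Generators of the Sylow subgroup. -/
def gs : List (List ℕ) := [[9, 1, 17, 3, 14, 20, 21, 7, 8, 0, 22, 19, 12, 13, 4, 15, 23, 2, 18, 11, 5, 6, 10, 16], [5, 1, 6, 8, 10, 0, 2, 18, 3, 9, 4, 23, 12, 13, 19, 15, 22, 17, 7, 14, 20, 21, 16, 11], [2, 1, 0, 18, 11, 6, 5, 8, 7, 9, 23, 4, 12, 13, 16, 15, 14, 17, 3, 22, 20, 21, 19, 10], [2, 1, 0, 18, 14, 5, 6, 7, 8, 17, 22, 16, 15, 13, 4, 12, 11, 9, 3, 23, 20, 21, 10, 19], [0, 3, 2, 1, 16, 5, 6, 15, 12, 9, 19, 22, 8, 18, 23, 7, 4, 17, 13, 10, 20, 21, 11, 14], [0, 4, 2, 16, 1, 5, 6, 22, 14, 9, 13, 15, 23, 10, 8, 11,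 3, 17, 19, 18, 20, 21, 7, 12]]

/-- Words. -/
def wt : List (List (List ℕ)) := [[[], [], [], [4], [5], [], [2, 3], [1, 4, 3, 1], [1, 4, 1], [], [1, 5, 1], [2, 5, 2], [1, 4, 1, 4], [1, 5, 1, 5], [0, 5, 0], [2, 5, 2, 5], [4, 5], [2, 3], [2, 4, 2], [0, 5, 2, 0], [0, 1, 0], [0, 1, 2, 0], [0, 5, 1, 0], [0, 4, 5, 0]], [[], [], [2], [], [], [1], [1, 2], [1, 2], [1], [0], [1], [2], [], [], [0], [3], [0, 2], [0, 3], [2], [0, 1], [1, 0], [1, 2, 0], [1, 0], [1, 2]], [[2], [2], [2], [2, 4], [2, 5], [3], [2], [1, 4, 1, 2], [5, 3, 5], [2], [1, 2, 5, 1], [5, 2], [5, 3, 4, 5], [4, 2, 4], [5, 3], [5, 2, 5], [2, 4, 5], [3], [4, 2], [4, 2, 5], [0, 1, 0, 2], [0, 3, 1, 0], [5, 2, 4], [5, 3, 4]], [[4], [4], [2, 4], [4], [0, 2, 4], [1, 4], [1, 2, 4], [3, 4], [4], [0, 4], [0, 1, 4], [1, 0, 4], [1, 4], [2, 4], [1, 2, 4], [1, 2, 4], [4], [0, 3, 4],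 [4], [1, 4], [1, 0, 4], [1, 2, 0, 4], [2, 4], [0, 4]], [[5], [5], [2, 5], [0, 2, 5], [5], [1, 5], [1, 2, 5], [1, 0, 5], [0, 5], [0, 5], [5], [3, 5], [1, 2, 5], [1, 5], [1, 5], [2, 5], [5], [0, 3, 5], [0, 1, 5], [2, 5], [1, 0, 5], [1, 2, 0, 5], [1, 2, 5], [5]], [[1], [1], [1, 3], [1, 4], [1, 5], [1], [1], [2, 4, 1, 2], [4, 1], [1], [5, 1], [1, 2, 5, 2], [4, 1, 4], [5, 1, 5], [1, 5, 3], [4, 1, 4, 3], [1, 4, 5], [1, 3], [1, 4, 3], [5, 1, 4], [0, 1, 0, 1], [0, 1, 2, 0, 1], [4, 5, 1], [1, 5, 3, 4]], [[3, 1], [1, 2], [1, 2], [1, 2, 4], [1, 2, 5], [1, 2], [1, 2], [4, 1, 2], [2, 4, 1], [1, 2], [2, 5, 1], [1, 5, 2], [2, 4, 1, 4], [1, 4, 2, 4], [1, 2, 5, 3], [1, 5, 2, 5], [1, 2, 4, 5], [3, 1], [1, 4, 2], [5, 3, 1], [0, 1, 0, 1, 2], [0, 3, 1, 0, 1], [1, 5, 2, 4], [5, 1, 2]], [[1, 4, 3, 1], [4, 1, 2], [1, 4, 1, 2], [4, 3, 1], [0, 4,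 1, 2], [2, 4, 1, 2], [4, 1, 2], [4, 1, 2], [4, 1, 2], [0, 4, 1, 2], [4, 2, 0, 1], [1, 4, 3, 1], [1, 4, 1, 2], [2, 4, 1, 2], [0, 4, 3, 1], [1, 4, 3, 1], [1, 4, 1, 2], [0, 4, 3, 1], [4, 1, 2], [4, 1, 2], [4, 1, 0, 2], [4, 1, 2, 0], [0, 4, 1, 0, 2], [4, 3, 1]], [[1, 4, 1], [4, 1], [5, 3, 5], [4, 1], [5, 0, 5], [4, 1], [2, 4, 1], [4, 1], [4, 1], [0, 4, 1], [4, 1, 0], [0, 4, 1], [1, 4, 1], [2, 4, 1], [1, 4, 1], [5, 3, 5], [2, 4, 1], [0, 3, 4, 1], [3, 4, 1], [0, 4, 1, 0], [4, 1, 0], [2, 4, 1, 0], [4, 1], [1, 0, 4, 1]], [[0], [0], [0, 2], [0, 4], [0, 5], [0, 1], [0, 1, 2], [0, 4, 1, 2], [0, 4, 1], [0], [0, 5, 1], [0, 5, 2], [0, 4, 1, 4], [0, 4, 2, 4], [5, 0], [0, 5, 2, 5], [0, 4, 5], [0], [0, 4, 2], [5, 0, 1], [0], [2, 0, 3], [0, 4, 5, 1], [4, 5, 0]], [[1, 5, 1], [5, 1], [1, 2, 5, 1], [0, 5, 1], [5, 1], [5, 1], [2, 5, 1], [0, 1,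 5, 1], [0, 2, 5, 1], [0, 5, 1], [5, 1], [5, 1], [1, 2, 5, 1], [1, 5, 1], [2, 5, 1], [2, 5, 1], [1, 2, 5, 1], [0, 3, 5, 1], [1, 0, 5, 1], [1, 5, 1], [1, 0, 5, 1], [1, 2, 0, 5, 1], [5, 1], [3, 5, 1]], [[2, 5, 2], [5, 2], [5, 2], [0, 1, 5, 2], [3, 5, 2], [1, 2, 5, 2], [1, 5, 2], [0, 5, 2], [1, 0, 5, 2], [0, 5, 2], [5, 2], [5, 2], [1, 2, 5, 2], [1, 5, 2], [5, 2], [2, 5, 2], [1, 5, 2], [0, 3, 5, 2], [4, 5, 3], [1, 2, 5, 2], [1, 0, 5, 2], [5, 3, 1, 0], [2, 5, 2], [5, 2]], [[1, 4, 1, 4], [4, 1, 4], [5, 3, 4, 5], [4, 1, 4], [2, 4, 1, 4], [4, 1, 4], [2, 4, 1, 4], [5, 3, 4, 5], [1, 4, 1, 4], [0, 4, 1, 4], [0, 4, 1, 0, 4], [4, 1, 4], [4, 1, 4], [3, 4, 1, 4], [5, 2, 5, 3], [4, 1, 4], [4, 5, 0, 5], [0, 3, 4, 1, 4], [2, 4, 1, 4], [4, 1, 0, 4], [4, 1, 0, 4], [2, 4, 1, 0, 4], [0, 4, 1, 4], [1, 4, 1, 4]], [[1, 5, 1, 5], [4, 2, 4], [4, 2,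 4], [4, 2, 4], [5, 1, 5], [5, 1, 5], [1, 4, 2, 4], [5, 1, 5], [1, 4, 2, 4], [0, 4, 2, 4], [0, 4, 3, 4], [1, 4, 2, 4], [4, 3, 4], [4, 2, 4], [1, 4, 3, 4], [4, 2, 4], [0, 5, 1, 5], [0, 4, 3, 4], [1, 5, 1, 5], [0, 4, 2, 4], [5, 1, 5, 0], [1, 4, 2, 0, 4], [4, 3, 4], [4, 2, 4]], [[0, 5, 0], [5, 0], [5, 3], [0, 1, 5, 3], [1, 5, 0], [1, 5, 3], [1, 2, 5, 3], [4, 1, 5], [0, 5, 0], [5, 0], [1, 2, 5, 0], [5, 3], [2, 5, 3], [1, 5, 0], [5, 0], [2, 5, 0], [5, 0], [0, 5, 3], [4, 5, 2], [5, 3], [1, 5, 0], [1, 2, 5, 0], [5, 0], [5, 0]], [[2, 5, 2, 5], [3, 5, 2, 5], [5, 2, 5], [1, 5, 2, 5], [5, 2, 5], [4, 1, 4, 3], [1, 5, 2, 5], [2, 5, 2, 5], [5, 2, 5], [0, 5, 2, 5], [1, 5, 2, 5], [2, 5, 2, 5], [5, 2, 5], [5, 2, 5], [4, 3, 1, 4], [5, 2, 5], [4, 1, 4, 3], [5, 2, 5, 0], [4, 1, 4, 3], [4, 5, 3, 5], [1, 0, 5, 2, 5], [1, 5, 2, 5, 0], [0, 5, 2,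 5], [0, 4, 3, 1, 4]], [[4, 5], [5, 0, 2], [2, 4, 5], [4, 5], [4, 5], [1, 4, 5], [1, 2, 4, 5], [2, 4, 5], [1, 2, 4, 5], [0, 4, 5], [2, 4, 5], [1, 2, 4, 5], [0, 4, 5], [0, 1, 4, 5], [4, 5], [1, 0, 4, 5], [4, 5], [0, 3, 4, 5], [1, 4, 5], [4, 5], [1, 0, 4, 5], [5, 1, 2, 0], [3, 4, 5], [1, 4, 5]], [[2, 0], [0, 3], [0, 3], [0, 3, 4], [0, 3, 5], [0, 1, 3], [0, 3, 1], [0, 4, 3, 1], [0, 3, 4, 1], [0, 3], [0, 3, 5, 1], [0, 3, 5, 2], [0, 3, 4, 1, 4], [0, 4, 3, 4], [0, 5, 3], [5, 2, 5, 0], [0, 3, 4, 5], [0, 3], [0, 4, 3], [5, 2, 0], [0, 3], [2, 0], [0, 5, 1, 3], [0, 5, 3, 4]], [[2, 4, 2], [4, 2], [4, 2], [4, 2], [4, 2, 0], [1, 4, 3], [1, 4, 2], [4, 2], [4, 3], [0, 4, 2], [0, 4, 2], [4, 3], [1, 4, 2], [2, 4, 2], [4, 2], [1, 4, 3], [1, 0, 4, 3], [0, 4, 3], [4, 2], [0, 4, 3], [1, 0, 4, 2], [1, 4, 2, 0], [1, 4, 2], [1, 4, 3]], [[0, 5, 2,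 0], [5, 0, 1], [4, 2, 5], [5, 1, 4], [4, 2, 5], [5, 1, 4], [5, 3, 1], [0, 5, 2, 0], [4, 2, 5], [5, 0, 1], [1, 5, 0, 1], [5, 0, 1], [1, 4, 3, 5], [0, 4, 2, 5], [4, 3, 5], [4, 3, 5], [4, 2, 5], [5, 2, 0], [0, 4, 3, 5], [4, 2, 5], [1, 5, 0, 1], [1, 5, 2, 0], [4, 2, 5], [5, 3, 1]], [[1, 0], [1, 0], [1, 0, 2], [1, 0, 4], [1, 0, 5], [1, 0, 1], [1, 0, 1, 2], [4, 1, 0, 2], [4, 1, 0], [1, 0], [1, 0, 5, 1], [1, 0, 5, 2], [4, 1, 0, 4], [5, 1, 5, 0], [1, 5, 0], [1, 0, 5, 2, 5], [1, 0, 4, 5], [1, 0, 3], [1, 0, 4, 2], [1, 5, 0, 1], [1, 0], [1, 0], [5, 1, 0], [1, 4, 5, 0]], [[1, 2, 0], [1, 2, 0], [3, 1, 0], [1, 2, 0, 4], [1, 2, 0, 5], [1, 2, 0, 1], [3, 1, 0, 1], [4, 1, 2, 0], [2, 4, 1, 0], [3, 1, 0], [1, 2, 0, 5, 1], [5, 3, 1, 0], [2, 4, 1, 0, 4], [1, 4, 2, 0, 4], [1, 2, 5, 0], [1, 5, 2, 5, 0], [5, 1, 2, 0], [1, 2, 0], [1, 4, 2, 0], [1,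 5, 2, 0], [1, 2, 0], [1, 2, 0], [2, 5, 1, 0], [1, 2, 4, 5, 0]], [[0, 5, 1, 0], [5, 1, 0], [5, 2, 4], [5, 2, 4], [1, 5, 2, 4], [4, 5, 1], [1, 5, 2, 4], [1, 4, 5, 1], [4, 5, 1], [0, 4, 5, 1], [4, 5, 1], [1, 4, 5, 1], [0, 4, 5, 1], [1, 5, 1, 0], [4, 5, 1], [0, 5, 2, 4], [5, 1, 3], [0, 5, 1, 3], [0, 5, 1, 3], [4, 5, 1], [5, 1, 0], [2, 5, 1, 0], [4, 5, 1], [5, 2, 4]], [[0, 4, 5, 0], [5, 1, 2], [5, 3, 4], [4, 5, 0], [4, 5, 0], [1, 5, 3, 4], [5, 1, 2], [2, 4, 5, 0], [2, 5, 3, 4], [4, 5, 0], [5, 3, 4], [4, 5, 0], [0, 4, 5, 0], [1, 5, 1, 2], [4, 5, 0], [2, 5, 1, 2], [1, 4, 5, 0], [0, 5, 3, 4], [0, 5, 1, 2], [5, 1, 2], [1, 4, 5, 0], [1, 2, 4, 5, 0], [5, 3, 4], [4, 5, 0]]]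

/-- Base pairs. -/
def bs (a l : ℕ) : ℕ × ℕ :=
  if lv 0 a < 4 then (0, [0, 2, 5, 9, 0, 1].getD l 0) else (1, [1, 13, 12, 3, 4, 0].getD l 0)

open Cfsg.H1.Golay in
theorem gs_mem : ∀ l ∈ gs, ∃ σ ∈ T ⊓ M24, ∀ p, enc (σ p) = l.getD (enc p) 0 := by
  have h1 : ∀ l ∈ gs, chkM l l = true := by decide +kernel
  have h2 : ∀ l ∈ gs, ∀ a < 24, ∀ b < 24, lv (l.getD a 0) (l.getD b 0) = lv a b := by
    decide +kernel
  intro l hl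
  obtain ⟨σ, hσ, e⟩ := exists_of_chkM (h1 l hl)
  refine ⟨σ, ⟨fun a b => ?_, hσ⟩, e⟩
  rw [lev, e, e, h2 l hl _ (enc_lt a) _ (enc_lt b)]; rfl

open Cfsg.H1.Golay in
theorem exists_base (a b : GolayPt) : ∃ σ ∈ T ⊓ M24, σ (dec (bs (enc a) (lev a b)).1) = a ∧
    σ (dec (bs (enc a) (lev a b)).2) = b := by
  have h : ∀ a < 24, ∀ b < 24, (∀ i ∈ (wt.getD a []).getD b [], i < gs.length) ∧
      (bs a (lv a b)).1 < 24 ∧ (bs a (lv a b)).2 < 24 ∧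
      apw gs ((wt.getD a []).getD b []) (bs a (lv a b)).1 = a ∧
      apw gs ((wt.getD a []).getD b []) (bs a (lv a b)).2 = b := by decide +kernel
  obtain ⟨h1, h2, h3, h4, h5⟩ := h _ (enc_lt a) _ (enc_lt b)
  obtain ⟨σ, hσ, e⟩ := exists_of_word gs_mem h1
  refine ⟨σ, hσ, enc_injective ?_, enc_injective ?_⟩
  · rw [e, lev, enc_dec _ h2, h4]
  · rw [e, lev, enc_dec _ h3, h5]

theorem lev_eq_iff (a b c : GolayPt) :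
    lev a c = lev a b ↔ ∃ σ ∈ T ⊓ M24, σ a = a ∧ σ b = c := by
  constructor
  · intro h
    obtain ⟨σ, hσ, e1, e2⟩ := exists_base a b
    obtain ⟨τ, hτ, e3, e4⟩ := exists_base a c
    rw [h] at e3 e4
    refine ⟨τ * σ⁻¹, mul_mem hτ (inv_mem hσ), ?_, ?_⟩
    · rw [Equiv.Perm.mul_apply, Equiv.Perm.inv_eq_iff_eq.2 e1.symm, e3]
    · rw [Equiv.Perm.mul_apply, Equiv.Perm.inv_eq_iff_eq.2 e2.symm, e4]
  · rintro ⟨σ, hσ, e1, e2⟩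
    have := hσ.1 a b
    rwa [e1, e2] at this

/-- Suborbit lengths. -/
def cnt (a b : GolayPt) : ℕ := (Finset.univ.filter fun c => lev a c = lev a b).card

theorem lev_eq_cnt : ∀ a b, lev a b = if a = b then 0 else if cnt a b = 1 then 1 else
    if cnt a b = 2 then 2 else if cnt a b = 4 then 3 else
    if cnt a b = 8 ∧ cnt b a = 8 then 4 else 5 := by decide +kernel

theorem mem_T {g : Equiv.Perm GolayPt} (h : ∀ σ, σ ∈ T ⊓ M24 ↔ g * σ * g⁻¹ ∈ T ⊓ M24) :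
    g ∈ T := by
  have hc : ∀ a b, cnt (g a) (g b) = cnt a b := by
    intro a b
    symm
    refine Finset.card_equiv g fun c => ?_
    simp only [Finset.mem_filter, Finset.mem_univ, true_and, lev_eq_iff]
    constructor
    · rintro ⟨σ, hσ, e1, e2⟩
      exact ⟨_, (h σ).1 hσ, by simp [e1], by simp [e2]⟩
    · rintro ⟨σ, hσ, e1, e2⟩
      refine ⟨g⁻¹ * σ * g, (h _).2 (by simpa [mul_assoc] using hσ), by simp [e1], by simp [e2]⟩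
  intro a b
  rw [lev_eq_cnt, lev_eq_cnt a b]
  simp only [hc, g.apply_eq_iff_eq]

/-- In the Mathieu group of degree 24 (realised as the automorphism group of the extended binary Golay code) every Sylow 2-subgroup is self-normalizing. -/
theorem result (S : Sylow 2 ↥Cfsg.M24) : Subgroup.normalizer ((S : Subgroup ↥Cfsg.M24) : Set ↥Cfsg.M24) = (S : Subgroup ↥Cfsg.M24) := by
  haveI : Fact (Nat.Prime 2) := ⟨Nat.prime_two⟩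
  have hP : IsPGroup 2 (T.subgroupOf M24) := by
    intro x
    exact ⟨5, Subtype.ext (Subtype.ext (T_pow x.2))⟩
  have hN : Subgroup.normalizer (T.subgroupOf M24 : Set M24) = T.subgroupOf M24 := by
    refine le_antisymm (fun g hg => ?_) Subgroup.le_normalizer
    refine mem_T fun σ => ⟨fun h => ⟨(hg ⟨σ, h.2⟩).1 h.1, ?_⟩, fun h => ?_⟩
    · exact M24.mul_mem (M24.mul_mem g.2 h.2) (M24.inv_mem g.2)
    · have h2 : σ ∈ M24 := by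
        simpa [mul_assoc] using M24.mul_mem (M24.mul_mem (M24.inv_mem g.2) h.2) g.2
      exact ⟨(hg ⟨σ, h2⟩).2 h.1, h2⟩
  obtain ⟨Q, hQ⟩ := hP.exists_le_sylow
  have hQe : (Q : Subgroup M24) = T.subgroupOf M24 := by
    by_contra hne
    have := H8.lt_inf_normalizer Q.isPGroup' (lt_of_le_of_ne hQ (Ne.symm hne))
    rw [hN] at this
    exact this.not_ge inf_le_right
  have h1 := Sylow.card_eq_index_normalizer S
  rw [Sylow.card_eq_index_normalizer Q, ← Sylow.coe_coe Q, hQe, hN, ← hQe] at h1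
  symm
  refine Subgroup.eq_of_le_of_card_ge Subgroup.le_normalizer ?_
  have h2 := (Subgroup.normalizer (S : Set M24)).card_mul_index
  have h3 := (Q : Subgroup M24).card_mul_index
  rw [← h1, ← h3, Sylow.card_eq_multiplicity Q, ← Sylow.card_eq_multiplicity S] at h2
  exact (Nat.eq_of_mul_eq_mul_right (Nat.pos_of_ne_zero Subgroup.index_ne_zero_of_finite) h2).le

end Cfsg.Agent.S2882
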