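import Cfsg.Statements.S2933
import Cfsg.Agent.L0.Fpf3b
import Cfsg.Agent.H9.Coprime
-- import your own Cfsg.Agent.* helpers here

set_option autoImplicit false
open Cfsg

namespace Cfsg.Agent.S2933

section
open Subgroup Cfsg.L0

theorem main {T : Type*} [Group T] [Finite T] [Nontrivial T] (hT : IsPGroup 2 T) {ρ τ : T →* T}
    (h : Fpf3 ρ) (hτ : ∀ x, τ (τ x) = x)
    (hF : Nat.card (MonoidHom.eqLocus τ (MonoidHom.id T)) ≤ 4) :
    (Nat.card T = 16 ∧ ∀ x : T, x ^ 2 = 1) ∨ (∃ n : ℕ, 1 ≤ n ∧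
      Nonempty (T ≃* Multiplicative (ZMod (2 ^ n)) × Multiplicative (ZMod (2 ^ n)))) ∨
      ∃ α γ, Nonempty (Syl64.Mdl α γ ≃* T) := by
  have : Fact (Nat.Prime 2) := ⟨Nat.prime_two⟩
  have hZ := h.commutator_le_center fun x e => by
    obtain ⟨k, hk⟩ := hT x
    have := Nat.dvd_gcd (orderOf_dvd_of_pow_eq_one e) (orderOf_dvd_of_pow_eq_one hk)
    rwa [Nat.Coprime.gcd_eq_one (Nat.Coprime.pow_right k (by decide)), Nat.dvd_one,
      orderOf_eq_one_iff] at this
  by_cases hb : commutator T = ⊥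
  · let _ : CommGroup T := ⟨fun a b => commutatorElement_eq_one_iff_mul_comm.1
      (mem_bot.1 (hb ▸ commutator_mem_commutator (mem_top a) (mem_top b)))⟩
    rcases fpf3_ab hT h hτ hF with ⟨x, hx⟩ | h1
    · exact Or.inr (Or.inl (fpf3_homocyclic hT h hx))
    · exact Or.inl h1
  rcases fpf3_ab (hT.of_surjective Abelianization.of QuotientGroup.mk_surjective)
    h.abelianization (τ := Abelianization.map τ) (fun x => by
      obtain ⟨x, rfl⟩ := QuotientGroup.mk_surjective x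
      exact congrArg Abelianization.of (hτ x)) ((card_fix_abelianization_le τ).trans hF) with
    ⟨x, hx⟩ | h1
  · obtain ⟨x, rfl⟩ := QuotientGroup.mk_surjective x
    refine absurd ?_ hb
    have h1 : closure {x, ρ x} ⊔ center T = ⊤ := by
      have h2 : (closure {x, ρ x}).map Abelianization.of = ⊤ := by
        rw [MonoidHom.map_closure, Set.image_pair]
        exact hx
      have := congrArg (comap Abelianization.of) h2
      rw [comap_map_eq, Abelianization.ker_of, comap_top] at this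
      exact eq_top_iff.2 (this ▸ sup_le_sup_left hZ _)
    have h2 : ∀ y ∈ ({x, ρ x} : Set T), y ∈ center T := by
      intro y hy
      have h3 : ⊤ ≤ centralizer {y} := by
        refine h1 ▸ sup_le ((closure_le _).2 fun z hz => mem_centralizer_singleton_iff.2 ?_)
          (center_le_centralizer _)
        rcases hy with rfl | rfl <;> rcases hz with rfl | rfl
        exacts [rfl, (h.comm _).symm, h.comm _, rfl]
      exact mem_center_iff.2 fun g => mem_centralizer_singleton_iff.1 (h3 (mem_top g))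
    rw [sup_eq_right.2 ((closure_le _).2 h2)] at h1
    exact eq_bot_iff.2 (commutator_le.2 fun a _ b _ => commutatorElement_eq_one_iff_mul_comm.2
      (mem_center_iff.1 (h1 ▸ mem_top b) a))
  · exact Or.inr (Or.inr (fpf3_mdl h hZ hb h1.1 h1.2))

end

/-- Let T be a 2-subgroup of a finite group G, V ≤ Z(T) a four-group, and t, ρ ∈ N_G(V) ∩ N_G(T) elements of order 2 and 3 with t commuting with ρ and with V. If [V, ρ] = V and C_T(t) = V, then T is elementary abelian of order 16, or homocyclic of rank 2 (ℤ/2ⁿ × ℤ/2ⁿ for some n ≥ 1), or isomorphic to a Sylow 2-subgroup of PSL₃(4) or of PSU₃(4). -/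
theorem result {G : Type*} [Group G] [Finite G] (T V : Subgroup G) (hT : IsPGroup 2 ↥T) (hVT : V ≤ T ⊓ Subgroup.centralizer (T : Set G)) (hV : Nat.card ↥V = 4 ∧ ∀ v ∈ V, v ^ 2 = 1) (t ρ : G) (ht : orderOf t = 2) (hρ : orderOf ρ = 3) (htn : t ∈ Subgroup.normalizer (V : Set G) ⊓ Subgroup.normalizer (T : Set G)) (hρn : ρ ∈ Subgroup.normalizer (V : Set G) ⊓ Subgroup.normalizer (T : Set G)) (htρ : t * ρ = ρ * t) (htV : t ∈ Subgroup.centralizer (V : Set G)) (hVρ : ⁅V, Subgroup.zpowers ρ⁆ = V) (hCt : T ⊓ Subgroup.centralizer ({t} : Set G) = V) : (Nat.card ↥T = 16 ∧ ∀ x ∈ T, x ^ 2 = 1) ∨ (∃ n : ℕ, 1 ≤ n ∧ Nonempty (↥T ≃* Multiplicative (ZMod (2 ^ n)) × Multiplicative (ZMod (2 ^ n)))) ∨ (∃ (F : Type) (_ : Field F) (_ : Fintype F), Fintype.card F = 4 ∧ ∀ P : Sylow 2 (Matrix.ProjectiveSpecialLinearGroup (Fin 3) F), Nonempty (↥T ≃* ↥(P : Subgroup (Matrix.ProjectiveSpecialLinearGroup (Fin 3) F)))) ∨ (∃ (F : Type) (_ : Field F) (_ : Fintype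 F), Fintype.card F = 16 ∧ ∀ P : Sylow 2 (Cfsg.PSU 3 F 4), Nonempty (↥T ≃* ↥(P : Subgroup (Cfsg.PSU 3 F 4)))) := by
  have : Fact (Nat.Prime 2) := ⟨Nat.prime_two⟩
  let ρ' : T →* T := (T.normalizerMonoidHom ⟨ρ, hρn.2⟩).toMonoidHom
  let τ : T →* T := (T.normalizerMonoidHom ⟨t, htn.2⟩).toMonoidHom
  have hρ' : ∀ x, (ρ' x).1 = ρ * x * ρ⁻¹ := fun _ => rfl
  have hτ : ∀ x, (τ x).1 = t * x * t⁻¹ := fun _ => rfl
  have t2 : t * t = 1 := by rw [← pow_two, ← ht, pow_orderOf_eq_one]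
  have r3 : ρ * ρ * ρ = 1 := by rw [← pow_three', ← hρ, pow_orderOf_eq_one]
  have hVc : IsMulCommutative V := ⟨⟨fun a b => Subtype.ext
    (Subgroup.mem_centralizer_iff.1 (hVT b.2).2 a (hVT a.2).1)⟩⟩
  have h1 := H9.commutator_inf_centralizer_eq_bot (A := Subgroup.zpowers ρ) (K := V)
    (Subgroup.zpowers_le.2 hρn.1) (by rw [Nat.card_zpowers, hρ, hV.1]; decide)
  rw [hVρ] at h1
  have h2 : T ⊓ Subgroup.centralizer (Subgroup.zpowers ρ : Set G) = ⊥ := by
    by_contra hb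
    refine H7.inf_centralizer_ne_bot (p := 2) (P := Subgroup.zpowers t)
      (IsPGroup.of_card (n := 1) (by rw [Nat.card_zpowers, ht]; rfl)) (hT.to_le inf_le_left)
      (Subgroup.zpowers_le.2 (Subgroup.inf_normalizer_le_normalizer_inf ⟨htn.2,
        Subgroup.le_normalizer ?_⟩)) hb (eq_bot_iff.2 (h1 ▸ le_inf ?_ ?_))
    · rintro _ ⟨k, rfl⟩
      exact (Commute.zpow_left htρ.symm k).eq
    · rw [← hCt]
      exact inf_le_inf inf_le_left (Subgroup.centralizer_le (by simp))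
    · exact inf_le_left.trans inf_le_right
  have hf : L0.Fpf3 ρ' := by
    refine ⟨fun x => Subtype.ext ?_, fun x e => Subtype.ext (Subgroup.mem_bot.1 (h2 ▸ ⟨x.2, ?_⟩))⟩
    · rw [hρ', hρ', hρ']
      calc _ = (ρ * ρ * ρ) * x * (ρ * ρ * ρ)⁻¹ := by group
        _ = _ := by rw [r3]; group
    · have e' := congrArg Subtype.val e
      rw [hρ', mul_inv_eq_iff_eq_mul] at e'
      rintro _ ⟨k, rfl⟩
      exact (Commute.zpow_left e' k).eq
  have : Nontrivial T := (Subgroup.nontrivial_iff_ne_bot T).2 fun e => by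
    have := Subgroup.card_le_of_le (e ▸ hVT.trans inf_le_left : V ≤ ⊥)
    rw [hV.1, Subgroup.card_bot] at this
    omega
  rcases main hT hf (τ := τ) (fun x => Subtype.ext (by
      rw [hτ, hτ]
      calc _ = (t * t) * x * (t * t)⁻¹ := by group
        _ = _ := by rw [t2]; group)) (by
      rw [← hV.1]
      refine Nat.card_le_card_of_injective (fun x => ⟨x.1.1, hCt ▸ ⟨x.1.2, ?_⟩⟩)
        fun x y e => Subtype.ext (Subtype.ext (congrArg (fun z : V => z.1) e))
      have e' : (τ x.1).1 = x.1.1 := congrArg Subtype.val x.2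
      rw [hτ, mul_inv_eq_iff_eq_mul] at e'
      exact Subgroup.mem_centralizer_singleton_iff.2 e'.symm) with h | h | ⟨α, γ, ⟨e⟩⟩
  · exact Or.inl ⟨h.1, fun x hx => congrArg Subtype.val (h.2 ⟨x, hx⟩)⟩
  · exact Or.inr (Or.inl h)
  · rcases L0.Syl64.mdl_cases α γ with ⟨⟨e'⟩⟩ | ⟨⟨e'⟩⟩
    · refine Or.inr (Or.inr (Or.inl ⟨H3.F4, inferInstance, inferInstance, H3.card_F4, fun P => ?_⟩))
      obtain ⟨e2⟩ := L0.Syl64.psl_sylow P
      exact ⟨(e.symm.trans e').trans e2⟩
    · refine Or.inr (Or.inr (Or.inr ⟨L0.Syl64.F16, inferInstance, inferInstance,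
        L0.Syl64.card_F16, fun P => ?_⟩))
      obtain ⟨e2⟩ := L0.Syl64.psu_sylow P
      exact ⟨(e.symm.trans e').trans e2⟩

end Cfsg.Agent.S2933
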