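import Cfsg.Statements.S2934
import Cfsg.Agent.H9.RankOne
import Cfsg.Agent.H9.Generation
import Cfsg.Agent.H1.SL23
import Cfsg.Agent.L0.Class2
import Cfsg.Agent.H7.Comm
import Cfsg.Agent.H9.Util
-- import your own Cfsg.Agent.* helpers here

set_option autoImplicit false
open Cfsg

namespace Cfsg.Agent.S2934

section
set_option linter.unusedSectionVars false
open Subgroup
open scoped commutatorElement

variable {G : Type*} [Group G] [Finite G]

/-- At most one involution. -/
def U1 (R : Subgroup G) : Prop := ∀ x ∈ R, ∀ y ∈ R, orderOf x = 2 → orderOf y = 2 → x = y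

theorem U1.mono {R A : Subgroup G} (h : U1 R) (hA : A ≤ R) : U1 A :=
  fun x hx y hy => h x (hA hx) y (hA hy)

theorem U1.uniq {R : Subgroup G} (h : U1 R) : H9.UniqueOrderP 2 R := by
  have : Fact (Nat.Prime 2) := ⟨Nat.prime_two⟩
  intro x y hx hx2 hy2
  by_cases hy : y = 1
  · rw [hy]; exact one_mem _
  have : x = y := Subtype.ext (h x x.2 y y.2 (by rw [orderOf_coe]; exact orderOf_eq_prime hx2 hx)
    (by rw [orderOf_coe]; exact orderOf_eq_prime hy2 hy))
  rw [this]; exact mem_zpowers _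

theorem le_centralizer_of_isCyclic {p : ℕ} [hp : Fact p.Prime] (hp2 : p ≠ 2) {R D : Subgroup G}
    (hR : IsPGroup 2 R) (hc : IsCyclic R) (hD : IsPGroup p D) (hn : D ≤ normalizer (R : Set G)) :
    R ≤ centralizer (D : Set G) := by
  refine le_centralizer_iff.1 fun d hd => H1.mem_centralizer_of_isCyclic_two hR (hn hd) ?_
  obtain ⟨k, hk⟩ := H7.isPGroup_iff_orderOf.1 hD d hd
  rw [hk]
  exact Nat.Coprime.pow_left k ((Nat.coprime_primes hp.out Nat.prime_two).2 hp2)

theorem q8lem {p : ℕ} [hp : Fact p.Prime] (hp2 : p ≠ 2) {R D : Subgroup G} (hR : IsPGroup 2 R)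
    (hu : U1 R) (hD : IsPGroup p D) (hn : D ≤ normalizer (R : Set G))
    (hnc : ¬ R ≤ centralizer (D : Set G)) :
    p = 3 ∧ Nat.card R = 8 ∧ Nat.card (R ⊓ centralizer (D : Set G) : Subgroup G) = 2 ∧
      ¬ R ≤ centralizer (R : Set G) := by
  have : Fact (Nat.Prime 2) := ⟨Nat.prime_two⟩
  have hcyc : ¬ IsCyclic R := fun h => hnc (le_centralizer_of_isCyclic hp2 hR h hD hn)
  have hab : ¬ R ≤ centralizer (R : Set G) := fun h => hcyc (hu.uniq.isCyclic_of_comm hR
    ⟨⟨fun a b => Subtype.ext (h b.2 a a.2)⟩⟩)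
  obtain ⟨-, n, hn1, ⟨e⟩⟩ := (hu.uniq.isCyclic_or_quaternion hR).resolve_left hcyc
  have hcard : Nat.card R = 4 * 2 ^ n := by
    rw [Nat.card_congr e.toEquiv, Nat.card_eq_fintype_card, QuaternionGroup.card]
  set C := R ⊓ centralizer (D : Set G) with hC
  have h1 : Nat.card R ≡ Nat.card C [MOD p] := H1.card_modEq_card_inf_centralizer hD hn
  have h2 : Nat.card C < Nat.card R := H7.card_lt_of_lt (lt_of_le_of_ne inf_le_left fun e =>
    hnc (e ▸ inf_le_right))
  have h3 : Nat.card C ∣ Nat.card R := card_dvd_of_le inf_le_left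
  have hp2' : ∀ k, ¬ p ∣ 2 ^ k := fun k h =>
    hp2 ((Nat.prime_dvd_prime_iff_eq hp.out Nat.prime_two).1 (hp.out.dvd_of_dvd_pow h))
  rcases Nat.lt_or_ge 1 n with hn2 | hn2
  · exfalso
    set a : G := (e.symm (QuaternionGroup.a 1)).1 with ha
    have hoa : orderOf a = 2 * 2 ^ n := by
      rw [ha, orderOf_coe, MulEquiv.orderOf_eq, QuaternionGroup.orderOf_a_one]
    have haR : a ∈ R := (e.symm _).2
    have h4 : D ≤ normalizer (zpowers a : Set G) := fun d hd => by
      refine H7.mem_normalizer_of_cj_le ?_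
      rw [H7.cj_zpowers, zpowers_le]
      have hm : d * a * d⁻¹ ∈ R := (mem_normalizer_iff.1 (hn hd) a).1 haR
      have ho : orderOf (e ⟨_, hm⟩) = 2 * 2 ^ n := by
        rw [MulEquiv.orderOf_eq, ← orderOf_coe]
        exact (H7.orderOf_conj' d a).trans hoa
      rcases hi : e ⟨_, hm⟩ with i | i
      · have : (⟨_, hm⟩ : R) = (e.symm (QuaternionGroup.a 1)) ^ i.val := by
          rw [← map_pow, QuaternionGroup.a_one_pow, ZMod.natCast_zmod_val, ← hi,
            MulEquiv.symm_apply_apply]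
        have h5 : d * a * d⁻¹ = a ^ i.val := congrArg Subtype.val this
        rw [h5]
        exact npow_mem_zpowers _ _
      · rw [hi, QuaternionGroup.orderOf_xa] at ho
        have : 2 ^ 2 ≤ 2 ^ n := Nat.pow_le_pow_right (by decide) hn2
        omega
    have h5 : zpowers a ≤ C := le_inf (zpowers_le.2 haR) (le_centralizer_of_isCyclic hp2
      (hR.to_le (zpowers_le.2 haR)) inferInstance hD h4)
    have h6 := card_dvd_of_le h5
    rw [Nat.card_zpowers, hoa] at h6
    obtain ⟨c, hc⟩ := h6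
    rw [hc, hcard] at h1 h2 h3
    have hpos : 0 < 2 ^ n := by positivity
    have hc1 : c = 1 := by
      have : c < 2 := by nlinarith
      have : c ≠ 0 := by rintro rfl; simp at h3
      omega
    subst hc1
    have h7 := (Nat.modEq_iff_dvd' h2.le).1 h1.symm
    exact hp2' (n + 1) (by rwa [show 2 ^ (n + 1) = 4 * 2 ^ n - 2 * 2 ^ n * 1 by omega])
  · obtain rfl : n = 1 := by omega
    have h8 : Nat.card R = 8 := hcard
    obtain ⟨z, hz⟩ := exists_prime_orderOf_dvd_card' (G := R) 2 (by rw [h8]; decide)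
    have hz2 : orderOf (z : G) = 2 := by rw [orderOf_coe, hz]
    have hzC : zpowers (z : G) ≤ C := zpowers_le.2 ⟨z.2, fun d hd => by
      have := hu _ ((mem_normalizer_iff.1 (hn hd) z).1 z.2) z z.2
        ((H7.orderOf_conj' d z).trans hz2) hz2
      exact mul_inv_eq_iff_eq_mul.1 this⟩
    have h6 := card_dvd_of_le hzC
    rw [Nat.card_zpowers, hz2] at h6
    rw [h8] at h1 h2 h3
    have h7 := (Nat.modEq_iff_dvd' h2.le).1 h1.symm
    have h9 : Nat.card C = 2 ∨ Nat.card C = 4 := by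
      generalize Nat.card C = c at *
      interval_cases c <;> omega
    rcases h9 with h9 | h9
    · rw [h9] at h7
      refine ⟨?_, h8, h9, hab⟩
      rcases (Nat.Prime.dvd_mul hp.out).1 (show p ∣ 2 * 3 from h7) with h | h
      · exact absurd h (hp2' 1)
      · exact (Nat.prime_dvd_prime_iff_eq hp.out Nat.prime_three).1 h
    · rw [h9] at h7
      exact absurd h7 (hp2' 2)

theorem relIndex_centralizer_le {E R : Subgroup G} (hn : E ≤ normalizer (R : Set G)) {x : G}
    (hx : x ∈ R) : (centralizer {x}).relIndex E ≤ Nat.card R := by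
  let _ : MulAction E G := MulAction.compHom G ((MulAut.conj (G := G)).comp E.subtype)
  have h1 : MulAction.stabilizer E x = (centralizer {x}).subgroupOf E := by
    ext g
    rw [MulAction.mem_stabilizer_iff, mem_subgroupOf, mem_centralizer_singleton_iff]
    exact mul_inv_eq_iff_eq_mul
  rw [relIndex, ← h1, MulAction.index_stabilizer]
  refine (Set.ncard_le_ncard (t := (R : Set G)) ?_).trans (Nat.card_coe_set_eq _).ge
  rintro _ ⟨g, rfl⟩
  exact (mem_normalizer_iff.1 (hn g.2) x).1 hx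

theorem card_sup_le {A B Z W : Subgroup G} (hA : A ≤ W) (hB : W ≤ normalizer (B : Set G))
    (h1 : Z ≤ A) (h2 : Z ≤ B) (hZ : Nat.card Z = 2) (h8 : Nat.card B ≤ 8) :
    Nat.card (A ⊔ B : Subgroup G) ≤ 4 * Nat.card A := by
  have h3 := H7.card_sup_mul_card_inf (hA.trans hB)
  have h4 := card_le_of_le (le_inf h1 h2)
  rw [hZ] at h4
  nlinarith

theorem main {p : ℕ} [hp : Fact p.Prime] (hp2 : p ≠ 2) {W E : Subgroup G} (hW : IsPGroup 2 W)
    (hE : IsPGroup p E) (hn : E ≤ normalizer (W : Set G)) (hab : IsMulCommutative E)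
    (hnc : ¬ IsCyclic E) (hf : ∀ e ∈ E, e ∈ centralizer (W : Set G) → e = 1)
    (hu : ∀ e ∈ E, e ≠ 1 → U1 (W ⊓ centralizer {e})) :
    Nat.card E = 9 ∧ ⁅W, W⁆ = W ⊓ centralizer (W : Set G) ∧
      Nat.card (W ⊓ centralizer (W : Set G) : Subgroup G) = 2 ∧
      (Nat.card W = 2 ^ 5 ∨ Nat.card W = 2 ^ 7 ∨ Nat.card W = 2 ^ 9) ∧
      W ⊓ centralizer (E : Set G) = W ⊓ centralizer (W : Set G) := by
  have : Fact (Nat.Prime 2) := ⟨Nat.prime_two⟩
  have hEE : ∀ a ∈ E, ∀ b ∈ E, a * b = b * a := fun a ha b hb =>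
    congrArg Subtype.val (hab.is_comm.comm (⟨a, ha⟩ : E) ⟨b, hb⟩)
  obtain ⟨q, hq, u, v, hu1, hv1, hv2, huv⟩ := @H9.exists_indep_of_not_isCyclic E
    { (inferInstance : Group E) with mul_comm := hab.is_comm.comm } _ hnc
  obtain rfl : p = q := by
    obtain ⟨k, hk⟩ := H7.isPGroup_iff_orderOf.1 hE v v.2
    have := Fact.mk hq
    rw [orderOf_coe, orderOf_eq_prime hv1 hv2] at hk
    exact ((Nat.prime_dvd_prime_iff_eq hq hp.out).1 (hq.dvd_of_dvd_pow hk.dvd)).symm
  have hu1' : (u : G) ^ p = 1 := congrArg Subtype.val hu1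
  have hv1' : (v : G) ^ p = 1 := congrArg Subtype.val hv1
  have hv2' : (v : G) ≠ 1 := fun e => hv2 (Subtype.ext e)
  have huv' : ∀ i : ℕ, (u : G) * v ^ i ≠ 1 := fun i e => huv i (Subtype.ext e)
  have huvE : ∀ i : ℕ, (u : G) * v ^ i ∈ E := fun i => mul_mem u.2 (pow_mem v.2 i)
  set R : G → Subgroup G := fun e => W ⊓ centralizer {e} with hR
  set C := W ⊓ centralizer (E : Set G) with hC
  have hp2' : ∀ K : Subgroup G, K ≤ W → ¬ p ∣ Nat.card K := fun K hK h => by
    obtain ⟨k, hk⟩ := (hW.to_le hK).exists_card_eq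
    rw [hk] at h
    exact hp2 ((Nat.prime_dvd_prime_iff_eq hp.out Nat.prime_two).1 (hp.out.dvd_of_dvd_pow h))
  have gen : ∀ K M : Subgroup G, K ≤ W → E ≤ normalizer (K : Set G) → K ⊓ centralizer {(v : G)} ≤ M →
      (∀ i : ℕ, K ⊓ centralizer {(u : G) * v ^ i} ≤ M) → K ≤ M := fun K M h1 h2 h3 h4 =>
    (H9.CoprimeAct.of_isPGroup_left hE (hp2' K h1) h2).generation hp.out u.2 v.2
      (hEE _ u.2 _ v.2) (hp2' K h1) (hu1' ▸ one_mem _) (hv1' ▸ one_mem _) h3 h4
  have gen' : ∀ K M : Subgroup G, K ≤ W → E ≤ normalizer (K : Set G) →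
      (∀ e ∈ E, e ≠ 1 → K ⊓ centralizer {e} ≤ M) → K ≤ M := fun K M h1 h2 h3 =>
    gen K M h1 h2 (h3 _ v.2 hv2') fun i => h3 _ (huvE i) (huv' i)
  have hEc : ∀ e ∈ E, E ≤ normalizer (centralizer {e} : Set G) := fun e he =>
    H7.le_normalizer_of_le fun a ha => mem_centralizer_singleton_iff.2 (hEE a ha e he)
  have hCR : ∀ e ∈ E, C ≤ R e := fun e he => inf_le_inf_left _
    (centralizer_le (Set.singleton_subset_iff.2 he))
  have key : ∀ e ∈ E, e ≠ 1 → ∀ A : Subgroup G, A ≤ R e → E ≤ normalizer (A : Set G) → ¬ A ≤ C →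
      p = 3 ∧ A = R e ∧ Nat.card A = 8 ∧ Nat.card C = 2 ∧ ¬ A ≤ centralizer (A : Set G) := by
    intro e he he1 A hA hAn hAC
    have h1 := q8lem hp2 (hW.to_le (hA.trans inf_le_left)) ((hu e he he1).mono hA) hE hAn
      fun h => hAC (le_inf (hA.trans inf_le_left) h)
    have h2 := q8lem hp2 (hW.to_le (inf_le_left : R e ≤ W)) (hu e he he1) hE
      (H7.le_normalizer_inf hn (hEc e he)) fun h => hAC (le_inf (hA.trans inf_le_left) (hA.trans h))
    refine ⟨h1.1, H7.eq_of_le_of_card_le hA (by rw [h1.2.1, h2.2.1]), h1.2.1, ?_, h1.2.2.2⟩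
    rw [← h2.2.2.1, le_antisymm (le_inf (hCR e he) inf_le_right) (inf_le_inf_right _ inf_le_left)]
  have keyR : ∀ e ∈ E, e ≠ 1 → ¬ R e ≤ C → p = 3 ∧ Nat.card (R e) = 8 ∧ Nat.card C = 2 ∧
      ¬ R e ≤ centralizer (R e : Set G) := fun e he he1 h =>
    have := key e he he1 _ le_rfl (H7.le_normalizer_inf hn (hEc e he)) h
    ⟨this.1, this.2.2⟩
  have hnR : ∀ e ∈ E, e ≠ 1 → ¬ W ≤ R e := fun e he he1 h => he1 (hf e he fun w hw =>
    mem_centralizer_singleton_iff.1 (h hw).2)
  obtain ⟨e₀, he₀, he₀1, h₀⟩ : ∃ e ∈ E, e ≠ 1 ∧ ¬ R e ≤ C := by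
    by_contra h
    push Not at h
    exact hnR v v.2 hv2' ((gen' W C le_rfl hn h).trans (hCR v v.2))
  obtain ⟨e₁, he₁, he₁1, h₁⟩ : ∃ e ∈ E, e ≠ 1 ∧ ¬ R e ≤ R e₀ := by
    by_contra h
    push Not at h
    exact hnR e₀ he₀ he₀1 (gen' W _ le_rfl hn h)
  have h₁' : ¬ R e₁ ≤ C := fun h => h₁ (h.trans (hCR e₀ he₀))
  obtain ⟨rfl, k1, k2, k3⟩ := keyR e₀ he₀ he₀1 h₀
  set Z := W ⊓ centralizer (W : Set G) with hZ
  have hZn : E ≤ normalizer (Z : Set G) := H7.le_normalizer_inf hn (H7.le_normalizer_centralizer hn)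
  have hZC : Z ≤ C := gen' Z C inf_le_left hZn fun e he he1 => by
    by_contra h
    refine (key e he he1 _ (inf_le_inf_right _ inf_le_left)
      (H7.le_normalizer_inf hZn (hEc e he)) h).2.2.2.2 ?_
    exact (inf_le_left.trans inf_le_right).trans
      (H7.centralizer_anti (inf_le_left.trans inf_le_left))
  have hW1 : W ≠ ⊥ := fun h => hnR v v.2 hv2' (h ▸ bot_le)
  have hZ1 : Z ≠ ⊥ := H7.inf_centralizer_ne_bot hW hW le_normalizer hW1
  have hZC' : C = Z := by
    refine (H7.eq_of_le_of_card_le hZC ?_).symm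
    rw [k2]
    exact (one_lt_card_iff_ne_bot _).2 hZ1
  have hWZ : W ≤ normalizer (Z : Set G) :=
    H7.le_normalizer_of_le_centralizer (le_centralizer_iff.1 inf_le_right)
  have hWW : ⁅W, W⁆ ≤ W := H7.commutator_le_left_of_le_normalizer le_normalizer
  have hD : ⁅W, W⁆ ≤ Z := by
    by_contra h
    obtain ⟨X, x1, x2, x3, -⟩ := H7.exists_not_le_commutator_le hW hWW
      (H7.le_normalizer_commutator le_normalizer le_normalizer) h
    have hNn : E ≤ normalizer ((⁅W, W⁆ ⊓ H7.stab W Z : Subgroup G) : Set G) :=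
      H7.le_normalizer_inf (H7.le_normalizer_commutator hn hn) (H7.le_normalizer_stab hn hZn)
    refine x2 ((le_inf x1 (H7.le_stab_iff.2 ⟨(x1.trans hWW).trans hWZ, by
      rw [commutator_comm]; exact x3.trans inf_le_left⟩)).trans
      (gen' _ Z (inf_le_left.trans hWW) hNn fun e he he1 => ?_))
    by_contra h'
    refine (key e he he1 _ (inf_le_inf_right _ (inf_le_left.trans hWW))
      (H7.le_normalizer_inf hNn (hEc e he)) (hZC' ▸ h')).2.2.2.2 ?_
    have h3 : ⁅⁅W, W⁆, H7.stab W Z⁆ ≤ ⊥ := by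
      have h4 : ⁅Z, W⁆ ≤ ⊥ := (commutator_eq_bot_iff_le_centralizer.2 inf_le_right).le
      refine H7.three_subgroups le_normalizer_of_normal le_normalizer_of_normal
        le_normalizer_of_normal ((commutator_mono (H7.commutator_stab_le W Z) le_rfl).trans h4) ?_
      rw [commutator_comm (H7.stab W Z)]
      exact (commutator_mono (H7.commutator_stab_le W Z) le_rfl).trans h4
    exact (inf_le_left.trans inf_le_left).trans
      ((commutator_eq_bot_iff_le_centralizer.1 (le_bot_iff.1 h3)).trans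
        (H7.centralizer_anti (inf_le_left.trans inf_le_right)))
  have hZ2 : Nat.card Z = 2 := hZC' ▸ k2
  have hD' : ⁅W, W⁆ = Z := by
    refine H7.eq_of_le_of_card_le hD ?_
    rw [hZ2]
    refine (one_lt_card_iff_ne_bot _).2 fun h => k3 ?_
    exact inf_le_left.trans ((commutator_eq_bot_iff_le_centralizer.1 h).trans
      (H7.centralizer_anti inf_le_left))
  have hR8 : ∀ e ∈ E, e ≠ 1 → Nat.card (R e) ≤ 8 := fun e he he1 => by
    by_cases h : R e ≤ C
    · exact (card_le_of_le h).trans (by omega)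
    · exact (keyR e he he1 h).2.1.le
  have hZR : ∀ e ∈ E, Z ≤ R e := fun e he => hZC.trans (hCR e he)
  have hRn : ∀ e ∈ E, W ≤ normalizer (R e : Set G) := fun e he =>
    H7.le_normalizer_of_commutator_le inf_le_left (hD.trans (hZR e he))
  have h512 : Nat.card W ≤ 512 := by
    have h1 : W ≤ R v ⊔ R (u * v ^ 0) ⊔ R (u * v ^ 1) ⊔ R (u * v ^ 2) := by
      refine gen W _ le_rfl hn (le_sup_left.trans (le_sup_left.trans le_sup_left)) fun i => ?_
      have : (v : G) ^ i = v ^ (i % 3) := by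
        conv_lhs => rw [← Nat.div_add_mod i 3, pow_add, pow_mul, hv1', one_pow, one_mul]
      rw [this]
      obtain h | h | h : i % 3 = 0 ∨ i % 3 = 1 ∨ i % 3 = 2 := by omega
      · rw [h]; exact le_sup_right.trans (le_sup_left.trans le_sup_left)
      · rw [h]; exact le_sup_right.trans le_sup_left
      · rw [h]; exact le_sup_right
    have h2 := card_sup_le (A := R v) inf_le_left (hRn _ (huvE 0)) (hZR _ v.2) (hZR _ (huvE 0)) hZ2
      (hR8 _ (huvE 0) (huv' 0))
    have h3 := card_sup_le (sup_le inf_le_left inf_le_left : R v ⊔ R (u * v ^ 0) ≤ W)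
      (hRn _ (huvE 1)) ((hZR _ v.2).trans le_sup_left) (hZR _ (huvE 1)) hZ2
      (hR8 _ (huvE 1) (huv' 1))
    have h4 := card_sup_le (sup_le (sup_le inf_le_left inf_le_left) inf_le_left :
      R v ⊔ R (u * v ^ 0) ⊔ R (u * v ^ 1) ≤ W)
      (hRn _ (huvE 2)) ((hZR _ v.2).trans (le_sup_left.trans le_sup_left)) (hZR _ (huvE 2)) hZ2
      (hR8 _ (huvE 2) (huv' 2))
    have h5 := card_le_of_le h1
    have h6 := hR8 _ v.2 hv2'
    omega
  have hidx : ∀ e ∈ E, e ≠ 1 → ¬ R e ≤ C → (centralizer (R e : Set G)).relIndex E ≤ 3 := by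
    intro e he he1 h
    obtain ⟨x, hx, hx'⟩ := SetLike.not_le_iff_exists.1 h
    have hRe : E ≤ normalizer (R e : Set G) := H7.le_normalizer_inf hn (hEc e he)
    have h1 : E ⊓ centralizer {x} ≤ centralizer (R e : Set G) := by
      rw [le_centralizer_iff]
      by_contra h'
      have h2 := (q8lem (R := R e) hp2 (hW.to_le inf_le_left) (hu e he he1) hE.to_inf_left
        (inf_le_left.trans hRe) h').2.2.1
      have h3 : C < R e ⊓ centralizer ((E ⊓ centralizer {x} : Subgroup G) : Set G) :=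
        SetLike.lt_iff_le_and_exists.2 ⟨le_inf (hCR e he)
          (inf_le_right.trans (H7.centralizer_anti inf_le_left)), x, mem_inf.2 ⟨hx, fun y hy =>
            mem_centralizer_singleton_iff.1 hy.2⟩, hx'⟩
      have := H7.card_lt_of_lt h3
      omega
    have h2 := relIndex_centralizer_le hRe hx
    rw [(keyR e he he1 h).2.1, ← inf_relIndex_left] at h2
    have h3 := (relIndex_le_of_le_left h1 (H9.relIndex_pos _ _).ne').trans h2
    obtain ⟨k, hk⟩ := hE.exists_card_eq
    obtain ⟨j, -, hj⟩ := (Nat.dvd_prime_pow Nat.prime_three).1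
      (hk ▸ H9.relIndex_dvd_card' (centralizer (R e : Set G)) E)
    rw [hj] at h3 ⊢
    have : j < 2 := by
      by_contra h'
      have := Nat.pow_le_pow_right (show 0 < 3 by decide) (not_lt.1 h')
      omega
    exact Nat.pow_le_pow_right (n := 3) (by decide) (show j ≤ 1 by omega)
  refine ⟨?_, hD', hZ2, ?_, hZC'⟩
  · have h1 : E ⊓ (centralizer (R e₀ : Set G) ⊓ centralizer (R e₁ : Set G)) = ⊥ := by
      rw [eq_bot_iff]
      intro x hx
      by_contra hx1
      have f : ∀ e, x ∈ centralizer (R e : Set G) → R e ≤ R x := fun e h y hy =>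
        ⟨hy.1, mem_centralizer_singleton_iff.2 (h y hy)⟩
      have h2 := H7.eq_of_le_of_card_le (f e₀ hx.2.1) (k1 ▸ hR8 x hx.1 hx1)
      exact h₁ (h2 ▸ f e₁ hx.2.2)
    have h2 := relIndex_inf_le (H := centralizer (R e₀ : Set G)) (K := centralizer (R e₁ : Set G))
      (L := E)
    rw [← inf_relIndex_left, h1, relIndex_bot_left] at h2
    have h3 := h2.trans (Nat.mul_le_mul (hidx e₀ he₀ he₀1 h₀) (hidx e₁ he₁ he₁1 h₁'))
    obtain ⟨k, hk⟩ := hE.exists_card_eq
    rw [hk] at h3 ⊢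
    have : k < 3 := by
      by_contra h'
      have := Nat.pow_le_pow_right (show 0 < 3 by decide) (not_lt.1 h')
      omega
    interval_cases k
    · exact absurd (isCyclic_of_card_dvd_prime (p := 3) (by rw [hk]; decide)) hnc
    · exact absurd (isCyclic_of_card_dvd_prime (p := 3) (by rw [hk]; decide)) hnc
    · rfl
  · have h1 := H1.card_modEq_card_inf_centralizer hE hn
    rw [k2] at h1
    have h2 := H7.card_lt_of_lt (lt_of_le_of_ne (inf_le_left : R e₀ ≤ W)
      fun h => hnR e₀ he₀ he₀1 h.ge)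
    obtain ⟨k, hk⟩ := hW.exists_card_eq
    rw [hk] at h1 h2 h512 ⊢
    rw [k1] at h2
    have : k < 10 := by
      by_contra h'
      have := Nat.pow_le_pow_right (show 0 < 2 by decide) (not_lt.1 h')
      omega
    clear * - h1 h2 this
    interval_cases k <;> simp_all [Nat.ModEq]

end

/-- Let p be an odd prime, W a finite 2-group and E a non-cyclic abelian p-subgroup of Aut(W) such that, for every nontrivial e ∈ E, the fixed points of e in W contain at most one involution. Then E has order 9, W is extraspecial of order 2⁵, 2⁷ or 2⁹, and the common fixed points of E in W form exactly the centre Z(W). -/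
theorem result {W : Type*} [Group W] [Finite W] (hW : IsPGroup 2 W) {p : ℕ} [Fact p.Prime] (hp : p ≠ 2) (E : Subgroup (MulAut W)) (hE : IsPGroup p ↥E) (hab : IsMulCommutative ↥E) (hnc : ¬ IsCyclic ↥E) (hfix : ∀ e ∈ E, e ≠ 1 → ∀ x y : W, orderOf x = 2 → orderOf y = 2 → e x = x → e y = y → x = y) : Nat.card ↥E = 9 ∧ Cfsg.IsExtraspecial 2 W ∧ (Nat.card W = 2 ^ 5 ∨ Nat.card W = 2 ^ 7 ∨ Nat.card W = 2 ^ 9) ∧ {x : W | ∀ e ∈ E, e x = x} = (Subgroup.center W : Set W) := by
  let G := W ⋊[E.subtype] E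
  have : Finite G := Finite.of_equiv _ SemidirectProduct.equivProd.symm
  let i : W →* G := SemidirectProduct.inl
  let j : E →* G := SemidirectProduct.inr
  have hi : Function.Injective i := SemidirectProduct.inl_injective
  have hj : Function.Injective j := SemidirectProduct.inr_injective
  have hc : ∀ (e : E) (w : W), j e * i w * (j e)⁻¹ = i (e.1 w) := fun e w => by
    rw [← map_inv]; exact (SemidirectProduct.inl_aut (φ := E.subtype) e w).symm
  have hc' : ∀ (e : E) (w : W), i w * j e = j e * i w ↔ e.1 w = w := fun e w => by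
    rw [← hi.eq_iff, ← hc, mul_inv_eq_iff_eq_mul, eq_comm]
  have ei : W ≃* i.range := MonoidHom.ofInjective hi
  have ej : E ≃* j.range := MonoidHom.ofInjective hj
  have : Fact (Nat.Prime 2) := ⟨Nat.prime_two⟩
  obtain ⟨h1, h2, h3, h4, h5⟩ := main hp (W := i.range) (E := j.range) (hW.of_equiv ei)
    (hE.of_equiv ej) (by
      rintro _ ⟨e, rfl⟩
      refine Cfsg.H7.mem_normalizer_of_conj_mem ?_
      rintro _ ⟨w, rfl⟩
      exact ⟨_, (hc e w).symm⟩)
    ⟨⟨by
      rintro ⟨_, a, rfl⟩ ⟨_, b, rfl⟩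
      refine Subtype.ext ?_
      change j a * j b = j b * j a
      rw [← map_mul, ← map_mul, hab.is_comm.comm]⟩⟩
    (fun h => hnc (isCyclic_of_surjective _ ej.symm.surjective))
    (by
      rintro _ ⟨e, rfl⟩ h
      have : e = 1 := Subtype.ext (MulEquiv.ext fun w => (hc' e w).1 (h _ ⟨w, rfl⟩))
      rw [this, map_one])
    (by
      rintro _ ⟨e, rfl⟩ h _ ⟨⟨x, rfl⟩, hx⟩ _ ⟨⟨y, rfl⟩, hy⟩ ox oy
      rw [orderOf_injective i hi] at ox oy
      rw [hfix e.1 e.2 (fun h' => h (by rw [show e = 1 from Subtype.ext h', map_one])) x y ox oy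
        ((hc' e x).1 (Subgroup.mem_centralizer_singleton_iff.1 hx))
        ((hc' e y).1 (Subgroup.mem_centralizer_singleton_iff.1 hy))])
  have hZ : (Subgroup.center W).map i = i.range ⊓ Subgroup.centralizer (i.range : Set G) := by
    ext g
    constructor
    · rintro ⟨w, hw, rfl⟩
      refine ⟨⟨w, rfl⟩, ?_⟩
      rintro _ ⟨y, rfl⟩
      rw [← map_mul, ← map_mul, Subgroup.mem_center_iff.1 hw]
    · rintro ⟨⟨w, rfl⟩, hw⟩
      exact ⟨w, Subgroup.mem_center_iff.2 fun y => hi (by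
        rw [map_mul, map_mul]; exact hw _ ⟨y, rfl⟩), rfl⟩
  refine ⟨(Nat.card_congr ej.toEquiv).trans h1, Cfsg.L0.isExtraspecial_of hW ?_ ?_,
    (Nat.card_congr ei.toEquiv).symm ▸ h4, ?_⟩
  · apply Subgroup.map_injective hi
    rw [hZ, ← h2, commutator_def, Subgroup.map_commutator, ← MonoidHom.range_eq_map]
  · rw [← h3, ← hZ, Subgroup.card_map_of_injective hi]
  · ext w
    rw [SetLike.mem_coe, ← Subgroup.mem_map_iff_mem hi, hZ, ← h5]
    constructor
    · intro h
      refine ⟨⟨w, rfl⟩, ?_⟩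
      rintro _ ⟨e, rfl⟩
      exact ((hc' e w).2 (h e.1 e.2)).symm
    · intro h e he
      exact (hc' ⟨e, he⟩ w).1 (h.2 _ ⟨⟨e, he⟩, rfl⟩).symm

end Cfsg.Agent.S2934
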