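import Cfsg.Statements.S2970
import Cfsg.Agent.H8.Isolated

set_option autoImplicit false
open Cfsg

namespace Cfsg.Agent.S2970

open Subgroup Cfsg.L0 Cfsg.H8
open scoped commutatorElement


/-- Let G be a finite group, p a prime and x ∈ G an element of p-power order which is isolated in G. Then the image of x in any quotient G ⧸ N is isolated in G ⧸ N; and if x ≠ 1 and the Sylow p-subgroups of G are cyclic, then G has a normal p-complement. -/
theorem result {G : Type*} [Group G] [Finite G] {p : ℕ} [Fact p.Prime] (x : G) (hx : ∃ k : ℕ, orderOf x = p ^ k) (hiso : Cfsg.IsIsolated x) : (∀ (N : Subgroup G) [N.Normal], Cfsg.IsIsolated (QuotientGroup.mk x : G ⧸ N)) ∧ (x ≠ 1 → (∀ P : Sylow p G, IsCyclic ↥(P : Subgroup G)) → Cfsg.HasNormalPComplement p G) := by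
  have hxp := pElt_of_orderOf hx
  refine ⟨fun N _ => isIsolated_map (QuotientGroup.mk'_surjective N) hiso hxp, fun hx1 hc => ?_⟩
  obtain ⟨P, hP⟩ := (H7.isPGroup_zpowers hxp).exists_le_sylow
  have hxP : x ∈ (P : Subgroup G) := hP (mem_zpowers x)
  have := hc P
  refine hasNormalPComplement_of_frobenius P fun U hU _ g hg hcop => ?_
  have hUc : IsCyclic U := Subgroup.isCyclic_of_le hU
  have h1 := H9.le_centralizer_of_omega (p := p) (A := zpowers g) (P := U)
    (by rw [Nat.card_zpowers]; exact (Nat.Prime.coprime_iff_not_dvd Fact.out).1 hcop.symm)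
    (P.isPGroup'.to_le hU) (zpowers_le.2 hg) (fun y hy hyp => by
      obtain ⟨z, hz, hzp⟩ := exists_orderOf_eq_of_dvd_card (p := p)
        (dvd_card_of_ne_bot (H7.isPGroup_zpowers hxp) (by simpa using hx1))
      have hzP : z ∈ (P : Subgroup G) := hP hz
      have hcm : Commute z y := H7.isMulCommutative_iff_mem.1 this.isMulCommutative z hzP y (hU hy)
      have hea := sup_zpowers_ea hcm (by rw [← hzp, pow_orderOf_eq_one]) hyp
      have hcy : IsCyclic ↥(zpowers z ⊔ zpowers y) :=
        Subgroup.isCyclic_of_le (sup_le (zpowers_le.2 hzP) (zpowers_le.2 (hU hy)))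
      have hyz : y ∈ zpowers z := mem_of_card_sup_zpowers_le (by
        rw [Nat.card_zpowers, hzp, ← IsCyclic.exponent_eq_card]
        exact Nat.le_of_dvd (Fact.out : p.Prime).pos (Monoid.exponent_dvd_of_forall_pow_eq_one
          fun a => Subtype.ext (hea.2 a a.2)))
      have h2 := iso_pow_conj_eq hiso P.isPGroup' hxP (zpowers_le.2 hz hyz)
        (hU (conj_mem_of_mem_normalizer hg hy))
      rw [zpowers_eq_closure, centralizer_closure]
      exact mem_centralizer_singleton_iff.2 (mul_inv_eq_iff_eq_mul.1 h2).symm)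
  exact le_centralizer_iff.1 h1 (mem_zpowers g)

end Cfsg.Agent.S2970
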