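import Cfsg.Statements.S2971
import Cfsg.Agent.H8.Isolated

set_option autoImplicit false
open Cfsg

namespace Cfsg.Agent.S2971

open Subgroup Cfsg.L0 Cfsg.H8
open scoped commutatorElement


/-- Let G be a finite group and p an odd prime such that G has p-rank at most 1 (no elementary abelian subgroup of order p²). If x ∈ G is an isolated element of order p, then x is central modulo the largest normal subgroup of G of order prime to p. -/
theorem result {G : Type*} [Group G] [Finite G] {p : ℕ} [Fact p.Prime] (hp : p ≠ 2) (hrk : Cfsg.PRankLE p 1 G) (x : G) (hx : orderOf x = p) (hiso : Cfsg.IsIsolated x) : Cfsg.InZStar p x := by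
  have hxp : x ^ p = 1 := by rw [← hx, pow_orderOf_eq_one]
  refine inZStar_of_npc ⟨1, by simpa using hxp⟩ hiso ?_
  refine npc_of_isolated hp (Z := ⊥) (mem_top x) ⟨1, by simpa using hxp⟩ hiso
    (by rw [H7.centralizer_bot']) bot_le IsPGroup.of_bot fun y _ hy hc => ?_
  rw [bot_sup_eq]
  have hea := sup_zpowers_ea hc hxp hy
  refine mem_of_card_sup_zpowers_le ?_
  rw [Nat.card_zpowers, hx]
  simpa using hrk _ hea.1 hea.2

end Cfsg.Agent.S2971
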