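import Cfsg.Statements.S2972
import Cfsg.Agent.H8.Isolated

set_option autoImplicit false
open Cfsg

namespace Cfsg.Agent.S2972

open Subgroup Cfsg.L0 Cfsg.H8
open scoped commutatorElement


/-- Let G be a finite group, p a prime and x ∈ G an isolated element of order p (the only conjugate of x commuting with x is x) which is not central modulo the largest normal subgroup of order prime to p, while x is central modulo the largest normal subgroup of order prime to p in every proper subgroup containing x, and the image of x is so in every quotient of G by a nontrivial normal subgroup (a minimal counterexample to the Z*_p statement). Then the derived subgroup G' is a non-abelian simple group and G = G'⟨x⟩. -/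
theorem result {G : Type*} [Group G] [Finite G] {p : ℕ} [Fact p.Prime] (x : G) (hx : orderOf x = p) (hiso : Cfsg.IsIsolated x) (hnz : ¬ Cfsg.InZStar p x) (hmin : ∀ (H : Subgroup G) (hxH : x ∈ H), H ≠ ⊤ → Cfsg.InZStar p (⟨x, hxH⟩ : ↥H)) (hquot : ∀ (N : Subgroup G) [N.Normal], N ≠ ⊥ → Cfsg.InZStar p (QuotientGroup.mk x : G ⧸ N)) : IsSimpleGroup ↥(commutator G) ∧ ¬ IsMulCommutative ↥(commutator G) ∧ commutator G ⊔ Subgroup.zpowers x = ⊤ := by
  have h : ZStarMin p x := ⟨hx, hiso, hnz, hmin, fun N _ hN => hquot N hN⟩
  have hne : commutator G ≠ ⊥ := fun e => h.not_central fun g => by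
    have := (commutator_eq_bot_iff G).1 e
    rw [this.is_comm.comm g x]; group
  have hle : ∀ N : Subgroup G, N.Normal → N ≠ ⊥ → commutator G ≤ N := fun N _ hN =>
    Normal.commutator_le_of_self_sup_commutative_eq_top (h.sup_zpowers_eq_top hN) inferInstance
  have htop := h.sup_zpowers_eq_top hne
  have hsimple : IsSimpleGroup ↥(commutator G) := by
    have : Nontrivial ↥(commutator G) := (Subgroup.nontrivial_iff_ne_bot _).2 hne
    refine ⟨fun L hL => ?_⟩
    set L' := L.map (commutator G).subtype with hL'
    have hsn : SN L' ⊤ := (sn_map_subtype_iff.2 hL.isSubnormal).trans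
      (SN.of_normal le_top le_normalizer_of_normal)
    by_cases hd : p ∣ Nat.card L'
    · right
      obtain ⟨P, hP⟩ := (H7.isPGroup_zpowers h.pElt).exists_le_sylow
      have h1 := ((isSyl_sylow P).inf_sn hsn).ne_bot hd
      have h2 : (P : Subgroup G) ⊓ L' ≤ L'.normalCore := by
        intro y hy g
        have hg : g ∈ commutator G ⊔ zpowers x := htop ▸ mem_top g
        obtain ⟨n, hn, w, hw, rfl⟩ := (mem_sup_of_le_normalizer_left le_normalizer_of_normal).1 hg
        have h3 : y ∈ centralizer (zpowers x : Set G) := by
          rw [zpowers_eq_closure, centralizer_closure]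
          exact iso_le_centralizer hiso P.isPGroup' (hP (mem_zpowers x)) hy.1
        have h4 : n * w * y * (n * w)⁻¹ = n * y * n⁻¹ := by
          rw [mul_assoc n, mem_centralizer_iff.1 h3 w hw]; group
        rw [h4]
        exact conj_mem_of_mem_normalizer (H7.le_normalizer_map_subtype L hn) hy.2
      have h3 := (hle L'.normalCore inferInstance fun e => h1 (le_bot_iff.1 (e ▸ h2))).trans
        L'.normalCore_le
      rw [eq_top_iff]
      intro y _
      obtain ⟨z, hz, e⟩ := h3 y.2
      rwa [← Subtype.ext e]
    · left
      have := h.eq_bot_of_coprime (sn_top_iff.1 hsn)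
        ((Nat.Prime.coprime_iff_not_dvd Fact.out).2 hd).symm
      exact (map_eq_bot_iff_of_injective _ (commutator G).subtype_injective).1 this
  refine ⟨hsimple, fun hc => ?_, htop⟩
  have h1 : (Nat.card ↥(commutator G)).Prime := (Group.is_simple_iff_prime_card).1 hsimple
  by_cases hd : p ∣ Nat.card ↥(commutator G)
  · have h2 : IsPGroup p ↥(commutator G) :=
      IsPGroup.of_card (n := 1) (by rw [pow_one]; exact ((Nat.prime_dvd_prime_iff_eq Fact.out h1).1 hd).symm)
    exact hne (le_bot_iff.1 (h.pCore_eq_bot ▸ H7.le_pCore h2))
  · exact hne (h.eq_bot_of_coprime (Normal.isSubnormal inferInstance)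
      ((Nat.Prime.coprime_iff_not_dvd Fact.out).2 hd).symm)

end Cfsg.Agent.S2972
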