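import Cfsg.Statements.S2975
import Cfsg.Agent.H8.Stab

set_option autoImplicit false
open Cfsg

namespace Cfsg.Agent.S2975

open Subgroup Cfsg.L0 Cfsg.H8
open scoped commutatorElement


/-- Let G be a finite group, p a prime and x ∈ G an isolated element of order p (the only conjugate of x commuting with x is x) which is not central modulo the largest normal subgroup of order prime to p, while x is central modulo the largest normal subgroup of order prime to p in every proper subgroup containing x, and the image of x is so in every quotient of G by a nontrivial normal subgroup (a minimal counterexample to the Z*_p statement). Then for every prime q, every q-subgroup of G that is normalized by x and maximal among the q-subgroups normalized by x is either trivial or a Sylow q-subgroup of G; and C_G(x) permutes the x-invariant Sylow q-subgroups of G transitively by conjugation. -/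
theorem result {G : Type*} [Group G] [Finite G] {p : ℕ} [Fact p.Prime] (x : G) (hx : orderOf x = p) (hiso : Cfsg.IsIsolated x) (hnz : ¬ Cfsg.InZStar p x) (hmin : ∀ (H : Subgroup G) (hxH : x ∈ H), H ≠ ⊤ → Cfsg.InZStar p (⟨x, hxH⟩ : ↥H)) (hquot : ∀ (N : Subgroup G) [N.Normal], N ≠ ⊥ → Cfsg.InZStar p (QuotientGroup.mk x : G ⧸ N)) (q : ℕ) [Fact q.Prime] : (∀ Q : Subgroup G, IsPGroup q ↥Q → x ∈ Subgroup.normalizer (Q : Set G) → (∀ R : Subgroup G, IsPGroup q ↥R → x ∈ Subgroup.normalizer (R : Set G) → Q ≤ R → R = Q) → Q = ⊥ ∨ ∃ S : Sylow q G, (S : Subgroup G) = Q) ∧ (∀ S₁ S₂ : Sylow q G, x ∈ Subgroup.normalizer ((S₁ : Subgroup G) : Set G) → x ∈ Subgroup.normalizer ((S₂ : Subgroup G) : Set G) → ∃ c ∈ Subgroup.centralizer ({x} : Set G), (S₁ : Subgroup G).map (MulAut.conj c).toMonoidHom = (S₂ : Subgroup G)) := by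
  have h : ZStarMin p x := ⟨hx, hiso, hnz, hmin, fun N _ hN => hquot N hN⟩
  refine ⟨fun Q hQ hxQ hmax => ?_, fun S₁ S₂ h1 h2 => ?_⟩
  · by_cases hb : Q = ⊥
    · exact Or.inl hb
    right
    rw [← isSyl_top_iff]
    have hxz : zpowers x ≤ normalizer (Q : Set G) := zpowers_le.2 hxQ
    by_cases hpq : q = p
    · subst hpq
      obtain ⟨P, hP, hle⟩ := exists_isSyl_ge (H := ⊤)
        (IsPGroup.to_sup_of_normal_left' hQ (H7.isPGroup_zpowers h.pElt) hxz) le_top
      rwa [← hmax P hP.isPGroup (le_normalizer (hle (mem_sup_right (mem_zpowers x))))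
        (le_sup_left.trans hle)]
    have hqp : ∀ {T : Subgroup G}, IsPGroup q T → (Nat.card T).Coprime p := fun hT => by
      obtain ⟨k, hk⟩ := hT.exists_card_eq
      rw [hk]
      exact Nat.Coprime.pow_left _ ((Nat.coprime_primes Fact.out Fact.out).2 hpq)
    refine IsSyl.of_normalizer ?_
    rw [top_inf_eq]
    set H := normalizer (Q : Set G) with hH
    have hHt : H ≠ ⊤ := fun e =>
      hb (h.eq_bot_of_coprime (Normal.isSubnormal (normal_of_top_le e.ge)) (hqp hQ))
    have h1 := (inZStar_subgroup_iff hxQ).1 (hmin H hxQ hHt)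
    obtain ⟨T, hT, hQT⟩ := exists_isSyl_ge hQ (H := H) le_normalizer
    set O := H7.pPrimeCoreOf p H with hO
    have hTO : T ≤ normalizer (O : Set G) := hT.le.trans (H7.le_normalizer_pPrimeCoreOf p H)
    have hKH : T ⊔ O ≤ H := sup_le hT.le (H7.pPrimeCoreOf_le p H)
    have hc : (Nat.card ↥(T ⊔ O)).Coprime p := Nat.Coprime.coprime_dvd_left (card_sup_dvd_mul hTO)
      (Nat.Coprime.mul_left (hqp hT.isPGroup) (H7.coprime_card_pPrimeCoreOf p H))
    have hxK : x ∈ normalizer ((T ⊔ O : Subgroup G) : Set G) := mem_normalizer_of_forall fun y hy => by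
      have e : x * y * x⁻¹ = y * ⁅y⁻¹, x⁆ := by simp only [commutatorElement_def]; group
      rw [e]
      exact mul_mem hy (mem_sup_right (h1 _ (inv_mem (hKH hy))))
    obtain ⟨T', hT', hxT', hQT'⟩ := (H9.coprimeAct_zpowers (isOfFinOrder_of_finite x) hxK
      (hx ▸ hc.symm)).exists_invariant_sylow_le hQ (hQT.trans le_sup_left) hxz
    have e := hmax T' hT'.isPGroup (hxT' (mem_zpowers x)) hQT'
    subst e
    exact hT.of_card_ge hQ le_normalizer (hT'.card_le hT.isPGroup le_sup_left)
  · obtain ⟨g, -, hg⟩ := (isSyl_sylow S₁).exists_cj_eq (isSyl_sylow S₂)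
    have h3 : g⁻¹ * x * g⁻¹⁻¹ ∈ normalizer ((S₁ : Subgroup G) : Set G) := by
      rw [← hg, ← cj_normalizer, mem_cj] at h2
      simpa using h2
    obtain ⟨k, hk, e⟩ := iso_exists_conj hiso h.pElt h1 h3
    refine ⟨g * k⁻¹, ?_, ?_⟩
    · rw [mem_centralizer_singleton_iff]
      conv_lhs => rw [← e]
      group
    · change cj _ _ = _
      rw [cj_mul, cj_eq_iff.2 (inv_mem hk), hg]

end Cfsg.Agent.S2975
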